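import Cfsg.Agent.Lib.Invol.Basic

/-!
# Held's trichotomy: a subgroup controlling the fusion of a class of involutions

`G₀` contains the centraliser of `t` and a conjugate `g t g⁻¹` lies in it only for `g` in it. A subgroup of
exponent two without conjugates of `t` is good if `g⁻¹ P g ≤ G₀` forces `g ∈ G₀`; goodness is read off the
patterns `{q ∈ P | d q ~ t}` of the conjugates `d` of `t` centralising `P`.
-/

set_option autoImplicit false
set_option linter.unusedSectionVars false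

namespace CfsgLib.Spor.HeldTri

open Subgroup CfsgLib.Invol

variable {G : Type*} [Group G]

/-- the setting -/
structure Ctl (t : G) (G₀ : Subgroup G) : Prop where
  invol : orderOf t = 2
  cent : centralizer ({t} : Set G) ≤ G₀
  fuse : ∀ g : G, g * t * g⁻¹ ∈ G₀ → g ∈ G₀
  into : ∀ R : Subgroup G, R ≤ G₀ → IsPGroup 2 R → ∃ h ∈ G₀, ∀ r ∈ R, h * r * h⁻¹ ∈ centralizer ({t} : Set G)
  sq : ∀ d v : G, IsConj t d → IsConj t v → d ∈ G₀ → v ∈ G₀ → d * v * (d * v) ≠ 1 →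
    d * v * (d * v) * (d * v * (d * v)) = 1 → IsConj t (d * v * (d * v))

/-- exponent two, no conjugate of `t` -/
structure Pure (t : G) (P : Subgroup G) : Prop where
  sq : ∀ p ∈ P, p * p = 1
  none : ∀ p ∈ P, ¬ IsConj t p

/-- `G₀` is the only fixed coset -/
def Good (G₀ P : Subgroup G) : Prop := ∀ g : G, (∀ p ∈ P, g⁻¹ * p * g ∈ G₀) → g ∈ G₀

theorem Good.transfer {G₀ P Q : Subgroup G} (h : Good G₀ P) {k : G} (hk : k ∈ G₀)
    (hle : ∀ p ∈ P, k * p * k⁻¹ ∈ Q) : Good G₀ Q := fun g hg => by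
  have h1 : k⁻¹ * g ∈ G₀ := h _ fun p hp => by
    rw [show (k⁻¹ * g)⁻¹ * p * (k⁻¹ * g) = g⁻¹ * (k * p * k⁻¹) * g by group]
    exact hg _ (hle p hp)
  simpa using G₀.mul_mem hk h1

theorem Good.of_zpowers {G₀ : Subgroup G} {w g : G} (h : Good G₀ (zpowers w)) (hg : g⁻¹ * w * g ∈ G₀) : g ∈ G₀ := by
  refine h g fun p hp => ?_
  have hle : zpowers w ≤ G₀.comap (MulAut.conj g⁻¹).toMonoidHom := zpowers_le.2 (by
    show g⁻¹ * w * g⁻¹⁻¹ ∈ G₀
    rwa [inv_inv])
  have := hle hp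
  simpa using this

/-- a reflection is conjugate to one of the two generators by a rotation -/
theorem refl_conj {d e : G} (hd : orderOf d = 2) (he : orderOf e = 2) (i : ℤ) :
    ∃ k ∈ zpowers (d * e), (Even i ∧ d * (d * e) ^ i = k * d * k⁻¹) ∨ (¬ Even i ∧ d * (d * e) ^ i = k * e * k⁻¹) := by
  rcases Int.even_or_odd' i with ⟨j, rfl | rfl⟩
  · refine ⟨(d * e) ^ (-j), zpow_mem_zpowers _ _, Or.inl ⟨even_two_mul j, ?_⟩⟩
    rw [zpow_conj_invol hd he]
    congr 2; ring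
  · refine ⟨(d * e) ^ (-j), zpow_mem_zpowers _ _, Or.inr ⟨Int.not_even_two_mul_add_one j, ?_⟩⟩
    have hed : e = d * (d * e) := by rw [← mul_assoc, invol_mul_self hd, one_mul]
    have key : ∀ a : G, a ^ (-j) * (d * a) * (a ^ (-j))⁻¹ = a ^ (-j) * d * (a ^ (-j))⁻¹ * a := fun a => by group
    conv_rhs => arg 1; arg 2; rw [hed]
    rw [key, zpow_conj_invol hd he, mul_assoc, ← zpow_add_one]
    congr 2; ring

theorem isConj_refl' {t d e : G} (hd : orderOf d = 2) (he : orderOf e = 2) (hdt : IsConj t d) (het : IsConj t e)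
    (i : ℤ) : IsConj t (d * (d * e) ^ i) := by
  obtain ⟨k, -, ⟨-, h⟩ | ⟨-, h⟩⟩ := refl_conj hd he i
  · exact h ▸ hdt.trans (isConj_iff.2 ⟨k, rfl⟩)
  · exact h ▸ het.trans (isConj_iff.2 ⟨k, rfl⟩)

namespace Ctl

variable {t : G} {G₀ : Subgroup G} (h : Ctl t G₀)
include h

theorem mem : t ∈ G₀ := h.cent (mem_centralizer_singleton_iff.2 rfl)

theorem orderOf_eq {d : G} (hd : IsConj t d) : orderOf d = 2 := by
  obtain ⟨g, rfl⟩ := isConj_iff.1 hd
  exact invol_conj h.invol g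

theorem of_commute {d c : G} (hd : IsConj t d) (hdG : d ∈ G₀) (hc : Commute c d) : c ∈ G₀ := by
  obtain ⟨g, rfl⟩ := isConj_iff.1 hd
  have hg := h.fuse g hdG
  have h1 : g⁻¹ * c * g ∈ G₀ := h.cent (mem_centralizer_singleton_iff.2 (by
    calc g⁻¹ * c * g * t = g⁻¹ * (c * (g * t * g⁻¹)) * g := by group
      _ = g⁻¹ * (g * t * g⁻¹ * c) * g := by rw [hc.eq]
      _ = t * (g⁻¹ * c * g) := by group))
  have := G₀.mul_mem (G₀.mul_mem hg h1) (G₀.inv_mem hg)
  simpa [mul_assoc] using this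

theorem conj_mem {d k : G} (hd : IsConj t d) (hdG : d ∈ G₀) (hk : k * d * k⁻¹ ∈ G₀) : k ∈ G₀ := by
  obtain ⟨g, rfl⟩ := isConj_iff.1 hd
  have h1 : k * g ∈ G₀ := h.fuse _ (by
    rwa [show k * g * t * (k * g)⁻¹ = k * (g * t * g⁻¹) * k⁻¹ by group])
  simpa using G₀.mul_mem h1 (G₀.inv_mem (h.fuse g hdG))

variable [Finite G]

/-- **the label of an outside conjugate of `t`** -/
theorem label {P : Subgroup G} (hP : Pure t P) {d e : G} (hd : IsConj t d) (hdG : d ∈ G₀) (he : IsConj t e)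
    (heG : e ∉ G₀) (hdP : ∀ p ∈ P, Commute d p) (heP : ∀ p ∈ P, Commute e p)
    (hbig : ∀ w : G, orderOf w = 2 → w ∉ P → (∀ p ∈ P, Commute w p) → Commute w d → IsConj t (d * w) →
      (∀ p ∈ P, ¬ IsConj t (p * w)) → Good G₀ (P ⊔ zpowers w)) :
    ∃ p ∈ P, IsConj t (d * p) ∧ ∃ k : G, (∀ q ∈ P, Commute k q) ∧ k * e * k⁻¹ = d * p := by
  have hdo := h.orderOf_eq hd
  have heo := h.orderOf_eq he
  have hrot : ∀ k ∈ zpowers (d * e), ∀ q ∈ P, Commute k q := by
    intro k hk q hq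
    obtain ⟨i, rfl⟩ := mem_zpowers_iff.1 hk
    exact ((hdP q hq).mul_left (heP q hq)).zpow_left i
  by_cases hodd : Odd (orderOf (d * e))
  · obtain ⟨k, hk, hke⟩ := exists_conj_eq_of_odd hdo heo hodd
    refine ⟨1, P.one_mem, by rwa [mul_one], k⁻¹, fun q hq => (hrot k hk q hq).inv_left, ?_⟩
    rw [mul_one, ← hke]
    group
  have heven := Nat.not_odd_iff_even.1 hodd
  set w := (d * e) ^ (orderOf (d * e) / 2) with hw
  set n := orderOf (d * e) / 2 with hn
  have hwo : orderOf w = 2 := orderOf_pow_half heven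
  have hwd : Commute w d := commute_pow_half (invol_conj_mul hdo heo) heven
  have hwe : Commute w e := commute_pow_half (invol_conj_mul' hdo heo) heven
  have hwP : ∀ p ∈ P, Commute w p := fun p hp => hrot w (npow_mem_zpowers _ _) p hp
  have hdw : IsConj t (d * w) := by
    rw [hw, ← zpow_natCast]
    exact isConj_refl' hdo heo hd he _
  have hwG : w ∈ G₀ := h.of_commute hd hdG hwd
  by_cases hz : ∃ p ∈ P, IsConj t (p * w)
  · obtain ⟨p, hp, hpw⟩ := hz
    have h1 : p * w ∈ G₀ := h.of_commute hd hdG ((hdP p hp).symm.mul_left hwd)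
    exact absurd (h.of_commute hpw h1 ((heP p hp).mul_right hwe.symm)) heG
  push Not at hz
  by_cases hwin : w ∈ P
  · obtain ⟨k, hk, ⟨hev, hk'⟩ | ⟨-, hk'⟩⟩ := refl_conj hdo heo (n : ℤ)
    · obtain ⟨j, hj⟩ := hev
      set v := d * (d * e) ^ j with hv
      have hvo : orderOf v = 2 := orderOf_reflection hdo heo j
      have hvt : IsConj t v := isConj_refl' hdo heo hd he j
      have hsq : d * v * (d * v) = w := by
        rw [hv, ← mul_assoc d d, invol_mul_self hdo, one_mul, ← zpow_add, ← hj, hw, zpow_natCast]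
      have hvG : v ∈ G₀ := by
        refine h.conj_mem hd hdG ?_
        have e2 : v * d * v⁻¹ = d * w := by
          rw [invol_inv hvo, ← hsq, ← mul_assoc d (d * v) (d * v), ← mul_assoc d d, invol_mul_self hdo, one_mul,
            mul_assoc]
        rw [e2]
        exact G₀.mul_mem hdG hwG
      refine absurd ?_ (hP.none w hwin)
      rw [← hsq]
      exact h.sq d v hd hvt hdG hvG (by rw [hsq]; exact invol_ne_one hwo) (by rw [hsq]; exact invol_mul_self hwo)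
    · exact ⟨w, hwin, hdw, k, hrot k hk, by rw [← hk', zpow_natCast]⟩
  · exfalso
    have hg := hbig w hwo hwin hwP hwd hdw hz
    obtain ⟨g, rfl⟩ := isConj_iff.1 he
    refine heG ?_
    have hle : P ⊔ zpowers w ≤ centralizer ({g * t * g⁻¹} : Set G) :=
      sup_le (fun p hp => mem_centralizer_singleton_iff.2 (heP p hp).symm.eq)
        (zpowers_le.2 (mem_centralizer_singleton_iff.2 hwe.eq))
    have hgG : g ∈ G₀ := hg g fun p hp => h.cent (mem_centralizer_singleton_iff.2 (by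
      calc g⁻¹ * p * g * t = g⁻¹ * (p * (g * t * g⁻¹)) * g := by group
        _ = g⁻¹ * (g * t * g⁻¹ * p) * g := by rw [mem_centralizer_singleton_iff.1 (hle hp)]
        _ = t * (g⁻¹ * p * g) := by group))
    exact G₀.mul_mem (G₀.mul_mem hgG h.mem) (G₀.inv_mem hgG)

/-- an outside conjugate of `t` centralising `P` if `P` fixes a second coset -/
theorem exists_outside {P : Subgroup G} (hP : IsPGroup 2 P) {g : G} (hg : ∀ p ∈ P, g⁻¹ * p * g ∈ G₀) (hgG : g ∉ G₀) :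
    ∃ e : G, IsConj t e ∧ e ∉ G₀ ∧ ∀ p ∈ P, Commute e p := by
  have hle : P.map (MulAut.conj g⁻¹).toMonoidHom ≤ G₀ := by
    rintro _ ⟨p, hp, rfl⟩
    show g⁻¹ * p * g⁻¹⁻¹ ∈ G₀
    rw [inv_inv]
    exact hg p hp
  obtain ⟨k, hk, hkc⟩ := h.into _ hle (hP.map _)
  refine ⟨g * k⁻¹ * t * (g * k⁻¹)⁻¹, isConj_iff.2 ⟨_, rfl⟩, fun h' => hgG ?_, fun p hp => ?_⟩
  · simpa using G₀.mul_mem (h.fuse _ h') hk
  · have h1 := mem_centralizer_singleton_iff.1 (hkc _ ⟨p, hp, rfl⟩)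
    have h2 : k * (g⁻¹ * p * g) * k⁻¹ * t = t * (k * (g⁻¹ * p * g) * k⁻¹) := by
      simpa [inv_inv] using h1
    show g * k⁻¹ * t * (g * k⁻¹)⁻¹ * p = p * (g * k⁻¹ * t * (g * k⁻¹)⁻¹)
    calc g * k⁻¹ * t * (g * k⁻¹)⁻¹ * p = g * k⁻¹ * (t * (k * (g⁻¹ * p * g) * k⁻¹)) * (g * k⁻¹)⁻¹ := by group
      _ = g * k⁻¹ * (k * (g⁻¹ * p * g) * k⁻¹ * t) * (g * k⁻¹)⁻¹ := by rw [h2]
      _ = p * (g * k⁻¹ * t * (g * k⁻¹)⁻¹) := by group

theorem pGroup_of_pure {P : Subgroup G} (hP : Pure t P) : IsPGroup 2 P := fun p =>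
  ⟨1, Subtype.ext (by rw [pow_one]; simpa [pow_two] using hP.sq p p.2)⟩

/-- **goodness from two conjugates of `t` with disjoint sets of labels** -/
theorem good_of_labels {P : Subgroup G} (hP : Pure t P) {d₁ d₂ : G} (h1 : IsConj t d₁) (h2 : IsConj t d₂)
    (hG1 : d₁ ∈ G₀) (hG2 : d₂ ∈ G₀) (hc1 : ∀ p ∈ P, Commute d₁ p) (hc2 : ∀ p ∈ P, Commute d₂ p)
    (hbig : ∀ d w : G, d = d₁ ∨ d = d₂ → orderOf w = 2 → w ∉ P → (∀ p ∈ P, Commute w p) → Commute w d →
      IsConj t (d * w) → (∀ p ∈ P, ¬ IsConj t (p * w)) → Good G₀ (P ⊔ zpowers w))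
    (hdis : ∀ p ∈ P, ∀ p' ∈ P, IsConj t (d₁ * p) → IsConj t (d₂ * p') →
      ∃ q ∈ P, ¬ (IsConj t (d₁ * p * q) ↔ IsConj t (d₂ * p' * q))) :
    Good G₀ P := by
  intro g hg
  by_contra hgG
  obtain ⟨e, he, heG, heP⟩ := h.exists_outside (h.pGroup_of_pure hP) hg hgG
  obtain ⟨p, hp, hdp, k, hk, hke⟩ := h.label hP h1 hG1 he heG hc1 heP fun w => hbig d₁ w (Or.inl rfl)
  obtain ⟨p', hp', hdp', k', hk', hke'⟩ := h.label hP h2 hG2 he heG hc2 heP fun w => hbig d₂ w (Or.inr rfl)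
  have hlab : ∀ {k x : G}, (∀ q ∈ P, Commute k q) → k * e * k⁻¹ = x →
      ∀ q ∈ P, (IsConj t (e * q) ↔ IsConj t (x * q)) := by
    intro k x hk hx q hq
    have e1 : x * q = k * (e * q) * k⁻¹ := by
      rw [← hx, mul_assoc (k * e) k⁻¹ q, (hk q hq).inv_left.eq]
      group
    rw [e1]
    exact ⟨fun h' => h'.trans (isConj_iff.2 ⟨k, rfl⟩), fun h' => h'.trans (isConj_iff.2 ⟨k, rfl⟩).symm⟩
  obtain ⟨q, hq, hne⟩ := hdis p hp p' hp' hdp hdp'
  exact hne ((hlab hk hke q hq).symm.trans (hlab hk' hke' q hq))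

/-- **all involutions good implies everything is in `G₀`** -/
theorem eq_top {y : G} (hy : orderOf y = 2) (hyG : y ∈ G₀) (hyt : ¬ IsConj t y)
    (hgood : ∀ w ∈ G₀, orderOf w = 2 → ¬ IsConj t w → Good G₀ (zpowers w)) : G₀ = ⊤ := by
  refine eq_top_iff.2 fun g _ => ?_
  by_contra hg
  set x := g * t * g⁻¹ with hx
  have hxt : IsConj t x := isConj_iff.2 ⟨g, rfl⟩
  have hxo : orderOf x = 2 := h.orderOf_eq hxt
  have hxG : x ∉ G₀ := fun h' => hg (h.fuse g h')
  have heven : Even (orderOf (x * y)) := Nat.not_odd_iff_even.1 fun hodd =>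
    hyt (hxt.trans (isConj_of_odd hxo hy hodd))
  set w := (x * y) ^ (orderOf (x * y) / 2) with hw
  have hwo : orderOf w = 2 := orderOf_pow_half heven
  have hwx : Commute w x := commute_pow_half (invol_conj_mul hxo hy) heven
  have hwy : Commute w y := commute_pow_half (invol_conj_mul' hxo hy) heven
  have hwG : w ∈ G₀ := (hgood y hyG hy hyt).of_zpowers (by
    have e1 : w⁻¹ * y * w = y := by rw [mul_assoc, ← hwy.eq, ← mul_assoc, inv_mul_cancel, one_mul]
    rw [e1]; exact hyG)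
  by_cases hwt : IsConj t w
  · exact hxG (h.of_commute hwt hwG hwx.symm)
  · refine hg ((hgood w hwG hwo hwt).of_zpowers (h.cent (mem_centralizer_singleton_iff.2 ?_)))
    calc g⁻¹ * w * g * t = g⁻¹ * (w * x) * g := by rw [hx]; group
      _ = g⁻¹ * (x * w) * g := by rw [hwx.eq]
      _ = t * (g⁻¹ * w * g) := by rw [hx]; group

end Ctl

end CfsgLib.Spor.HeldTri
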