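import Cfsg.Agent.Lib.Spor.HeldFusion.Main
import Mathlib.GroupTheory.Nilpotent

/-!
# Held's trichotomy: a Sylow 2-subgroup and the two sides, for any order

The Sylow 2-subgroup of the centraliser has the centre of order two, so it is one of the group.
-/

set_option autoImplicit false
set_option linter.unusedSectionVars false
set_option linter.style.haveILetI false

namespace CfsgLib.Spor.HeldTri

open CfsgLib.Spor.HeldRecog CfsgLib.Spor.HeldFusion Subgroup

variable {G : Type*} [Group G] [Finite G] {t : G}
variable (e : Cen splitTab ≃* centralizer ({t} : Set G)) (he : ((e ⟨64, by norm_num⟩ : _) : G) = t)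
  (ht : orderOf t = 2)

/-- the Sylow 2-subgroup of the centraliser in the group -/
noncomputable def sylT : Subgroup G := sylC.map (incl e)

theorem card_sylT : Nat.card (sylT e) = 1024 := by
  rw [sylT, Subgroup.card_map_of_injective (incl_injective e), card_sylC]

theorem isPGroup_sylT : IsPGroup 2 (sylT e) := IsPGroup.of_card (n := 10) (by rw [card_sylT]; norm_num)

theorem sylT_le : sylT e ≤ centralizer ({t} : Set G) := by
  rintro _ ⟨x, -, rfl⟩
  exact incl_mem e x

include he ht in
/-- the only central involution of `sylT` is `t` -/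
theorem eq_t_of_central {x : G} (hx : x ∈ sylT e) (hx2 : x * x = 1) (hx1 : x ≠ 1)
    (hc : ∀ s ∈ sylT e, s * x = x * s) : x = t := by
  obtain ⟨y, hy, rfl⟩ := hx
  have hinj := incl_injective e
  have hy2 : y * y = 1 := hinj (by rw [map_mul, map_one]; exact hx2)
  have hyS : y.val ∈ sInvol := by
    rw [sInvol, List.mem_filter, beq_iff_eq]
    refine ⟨inS_mem_sList (mem_sylC.1 hy), ?_⟩
    have h := congrArg Cen.val hy2
    rwa [split_mul_val, split_one_val] at h
  have h := centre_unique.1
  simp only [List.all_eq_true, Bool.or_eq_true, beq_iff_eq, List.any_eq_true, Bool.not_eq_eq_eq_not,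
    Bool.not_true, beq_eq_false_iff_ne] at h
  rcases h y.val hyS with (h0 | h0) | ⟨r, hr, hne⟩
  · exact absurd (by rw [← el_of_val y, h0, el_zero, map_one]) hx1
  · rw [← el_of_val y, h0, incl_z e he]
  · refine absurd ?_ hne
    have h1 : el r * y = y * el r := hinj (by
      rw [map_mul, map_mul]
      exact hc _ (Subgroup.mem_map_of_mem _ (roots_mem_sylC hr).2.1))
    have h2 := congrArg Cen.val h1
    rw [split_mul_val, split_mul_val, el_val (roots_mem_sylC hr).1] at h2
    exact h2

include he ht in
theorem sylT_maximal (P : Subgroup G) (hP : IsPGroup 2 P) (hle : sylT e ≤ P) : P = sylT e := by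
  haveI : Fact (Nat.Prime 2) := ⟨Nat.prime_two⟩
  haveI := hP.isNilpotent
  by_contra hne
  have hlt : (sylT e).subgroupOf P < ⊤ := lt_top_iff_ne_top.2 fun h => hne (le_antisymm
    (subgroupOf_eq_top.1 h) hle)
  obtain ⟨n, hn, hnT⟩ := SetLike.exists_of_lt (Group.normalizerCondition_of_isNilpotent _ hlt)
  have htS : t ∈ sylT e := by
    have h : incl e (el zCode) ∈ sylT e :=
      Subgroup.mem_map_of_mem _ (by rw [mem_sylC, el_val (by norm_num [zCode])]; exact gens_ok.2.2)
    rwa [incl_z e he] at h
  have hconj : ∀ s : G, s ∈ sylT e ↔ (n : G) * s * (n : G)⁻¹ ∈ sylT e := fun s => by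
    constructor
    · intro hs
      have := (Subgroup.mem_set_normalizer_iff.1 hn ⟨s, hle hs⟩).1 (Subgroup.mem_subgroupOf.2 hs)
      simpa [Subgroup.mem_subgroupOf] using this
    · intro hs
      have hsP : s ∈ P := by
        have := P.mul_mem (P.mul_mem (P.inv_mem n.2) (hle hs)) n.2
        simpa [mul_assoc] using this
      exact Subgroup.mem_subgroupOf.1 ((Subgroup.mem_set_normalizer_iff.1 hn ⟨s, hsP⟩).2
        (Subgroup.mem_subgroupOf.2 hs))
  have hnt : (n : G) * t * (n : G)⁻¹ = t := by
    refine eq_t_of_central e he ht ((hconj t).1 htS) ?_ ?_ fun s hs => ?_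
    · rw [show (n : G) * t * (n : G)⁻¹ * ((n : G) * t * (n : G)⁻¹) = (n : G) * (t * t) * (n : G)⁻¹ by group,
        ← pow_two, ← ht, pow_orderOf_eq_one, mul_one, mul_inv_cancel]
    · rw [Ne, conj_eq_one_iff]
      intro h
      rw [h, orderOf_one] at ht
      omega
    · have hs' : (n : G)⁻¹ * s * (n : G) ∈ sylT e := (hconj _).2 (by simpa [mul_assoc] using hs)
      have h2 := mem_centralizer_singleton_iff.1 (sylT_le e hs')
      calc s * ((n : G) * t * (n : G)⁻¹) = (n : G) * (((n : G)⁻¹ * s * (n : G)) * t) * (n : G)⁻¹ := by group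
        _ = (n : G) * (t * ((n : G)⁻¹ * s * (n : G))) * (n : G)⁻¹ := by rw [h2]
        _ = _ := by group
  set R := P ⊓ centralizer ({t} : Set G) with hR
  have hnR : (n : G) ∈ R := ⟨n.2, mem_centralizer_singleton_iff.2 (mul_inv_eq_iff_eq_mul.1 hnt)⟩
  have hTR : sylT e ≤ R := le_inf hle (sylT_le e)
  obtain ⟨k, hk⟩ := IsPGroup.iff_card.1 (hP.to_le (inf_le_left : R ≤ P))
  have h1 : Nat.card R ∣ 21504 := by
    rw [← Cen.natCard splitTab, Nat.card_congr e.toEquiv]
    exact Subgroup.card_dvd_of_le inf_le_right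
  rw [hk] at h1
  have hk10 : k ≤ 10 := by
    by_contra hk'
    exact absurd ((pow_dvd_pow 2 (show 11 ≤ k by omega)).trans h1) (by norm_num)
  have hEq : sylT e = R := Subgroup.eq_of_le_of_card_ge hTR (by
    rw [hk, card_sylT]; exact (Nat.pow_le_pow_right (by norm_num) hk10).trans (by norm_num))
  exact hnT (Subgroup.mem_subgroupOf.2 (hEq.symm ▸ hnR))

/-- the Sylow 2-subgroup of the group -/
noncomputable def sylG : Sylow 2 G :=
  { toSubgroup := sylT e
    isPGroup' := isPGroup_sylT e
    is_maximal' := fun {Q} hQ hle => sylT_maximal e he ht Q hQ hle }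

include he ht in
theorem not_dvd_card : ¬ 2 ^ 11 ∣ Nat.card G := by
  haveI : Fact (Nat.Prime 2) := ⟨Nat.prime_two⟩
  intro h
  have h1 := (sylG e he ht).card_eq_multiplicity
  replace h1 : 1024 = 2 ^ (Nat.card G).factorization 2 := (card_sylT e).symm.trans h1
  have h2 : (Nat.card G).factorization 2 = 10 := Nat.pow_right_injective le_rfl (h1.symm.trans (by norm_num))
  have := (Nat.prime_two.pow_dvd_iff_le_factorization Nat.card_pos.ne').1 h
  omega

include he ht in
/-- weak closure of one of the two subgroups -/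
theorem closed_of_list (HA HB : Subgroup (Cen splitTab)) (LA LB : List ℕ)
    (hA : ∀ x, x ∈ HA ↔ x.val ∈ LA) (hB : ∀ x, x ∈ HB ↔ x.val ∈ LB) (cA : Nat.card HA = 64) (cB : Nat.card HB = 64)
    (hAS : HA ≤ sylC) (hBS : HB ≤ sylC) (hBN : sylC ≤ normalizer (HB : Set (Cen splitTab)))
    (hel : ∀ a ∈ HA, a * a = 1) (hab : ∀ a ∈ HA, ∀ b ∈ HA, a * b = b * a)
    (hfew : ∀ x ∈ sInvol, x ∈ LA ∨ x ∈ LB ∨ (sInvol.filter fun y => mulC x y == mulC y x).length < 64)
    (hnc : ∀ c : Cen splitTab, HA.map (MulAut.conj c).toMonoidHom ≠ HB) (g : G)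
    (hg : IsPGroup 2 (HA.map (incl e) ⊔ (HA.map (incl e)).map (MulAut.conj g).toMonoidHom : Subgroup G)) :
    (HA.map (incl e)).map (MulAut.conj g).toMonoidHom = HA.map (incl e) := by
  classical
  have hinj := incl_injective e
  have hsq : ∀ x : Cen splitTab, x * x = 1 → mulC x.val x.val = 0 := fun x hx => by
    have h := congrArg Cen.val hx
    rwa [split_mul_val, split_one_val] at h
  have hinS : ∀ x ∈ sylC, x * x = 1 → x.val ∈ sInvol := fun x hx h => by
    rw [sInvol, List.mem_filter, beq_iff_eq]
    exact ⟨inS_mem_sList (mem_sylC.1 hx), hsq x h⟩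
  have hS : ((sylG e he ht : Sylow 2 G) : Subgroup G) = sylC.map (incl e) := rfl
  refine closed_of_two (sylG e he ht) (z := t) (HA.map (incl e)) (HB.map (incl e)) (by rw [hS]; exact Subgroup.map_mono hAS)
    (by rw [hS]; exact Subgroup.map_mono hBS) (by rw [Subgroup.card_map_of_injective hinj, cA])
    (by rw [Subgroup.card_map_of_injective hinj, cB]) ?_ ?_ ?_ ?_ ?_ ?_ ?_ g hg
  · rintro _ ⟨a, ha, rfl⟩
    rw [← map_mul, hel a ha, map_one]
  · rintro _ ⟨a, ha, rfl⟩ _ ⟨b, hb, rfl⟩
    rw [← map_mul, ← map_mul, hab a ha b hb]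
  · rw [hS]
    rintro _ ⟨x, hx, rfl⟩ hxA hxB hx2
    have hx2' : x * x = 1 := hinj (by rw [map_mul, map_one]; exact hx2)
    have hlen := ((hfew x.val (hinS x hx hx2')).resolve_left fun h => hxA ⟨x, (hA x).2 h, rfl⟩).resolve_left
      fun h => hxB ⟨x, (hB x).2 h, rfl⟩
    refine lt_of_le_of_lt ?_ hlen
    let L := sInvol.filter fun y => mulC x.val y == mulC y x.val
    let ψ : {y : G // y ∈ sylC.map (incl e) ∧ y * y = 1 ∧ Commute (incl e x) y} → {n : ℕ // n ∈ L.toFinset} :=
      fun y => ⟨(Subgroup.mem_map.1 y.2.1).choose.val, by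
        obtain ⟨h1, h2⟩ := (Subgroup.mem_map.1 y.2.1).choose_spec
        generalize (Subgroup.mem_map.1 y.2.1).choose = w at h1 h2 ⊢
        rw [List.mem_toFinset, List.mem_filter, beq_iff_eq]
        refine ⟨hinS w h1 (hinj (by rw [map_mul, map_one, h2]; exact y.2.2.1)), ?_⟩
        have h3 : x * w = w * x := hinj (by rw [map_mul, map_mul, h2]; exact y.2.2.2)
        have h4 := congrArg Cen.val h3
        rwa [split_mul_val, split_mul_val] at h4⟩
    have hψ : Function.Injective ψ := fun a b h => by
      have h1 := (Subgroup.mem_map.1 a.2.1).choose_spec.2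
      have h2 := (Subgroup.mem_map.1 b.2.1).choose_spec.2
      exact Subtype.ext (h1.symm.trans ((congrArg (incl e) (Cen.ext (congrArg Subtype.val h :))).trans h2))
    refine (Nat.card_le_card_of_injective ψ hψ).trans ?_
    rw [Nat.card_eq_fintype_card, Fintype.card_coe]
    exact L.toFinset_card_le
  · rw [hS]
    rintro _ ⟨s, hs, rfl⟩
    refine Subgroup.mem_set_normalizer_iff.2 fun w => ⟨?_, ?_⟩
    · rintro ⟨b, hb, rfl⟩
      exact ⟨s * b * s⁻¹, (Subgroup.mem_set_normalizer_iff.1 (hBN hs) b).1 hb, by rw [map_mul, map_mul, map_inv]⟩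
    · rintro ⟨b, hb, hbw⟩
      refine ⟨s⁻¹ * b * s, ?_, ?_⟩
      · have := (Subgroup.mem_set_normalizer_iff.1 (inv_mem (hBN hs)) b).1 hb
        rwa [inv_inv] at this
      · rw [map_mul, map_mul, map_inv, hbw]
        group
  · refine ⟨?_, ?_, ?_, fun s hs => ?_⟩
    · rw [← incl_z e he, ← map_mul, ← el_mul (by norm_num [zCode]) (by norm_num [zCode]),
        show mulC zCode zCode = 0 by decide +kernel, el_zero, map_one]
    · rw [← incl_z e he, ← (incl e).map_one]
      exact fun h => absurd (congrArg Cen.val (hinj h)) (by rw [el_val (by norm_num [zCode]), split_one_val]; norm_num [zCode])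
    · have h : incl e (el zCode) ∈ sylC.map (incl e) :=
        Subgroup.mem_map_of_mem _ (by rw [mem_sylC, el_val (by norm_num [zCode])]; exact gens_ok.2.2)
      rw [incl_z e he] at h
      exact h
    · rw [hS] at hs
      obtain ⟨x, -, rfl⟩ := hs
      exact mem_centralizer_singleton_iff.1 (incl_mem e x)
  · rw [hS]
    rintro _ ⟨x, hx, rfl⟩ hx2 hx1 hc
    have hx2' : x * x = 1 := hinj (by rw [map_mul, map_one]; exact hx2)
    have h := centre_unique.1
    simp only [List.all_eq_true, Bool.or_eq_true, beq_iff_eq, List.any_eq_true, Bool.not_eq_eq_eq_not,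
      Bool.not_true, beq_eq_false_iff_ne] at h
    rcases h x.val (hinS x hx hx2') with (h0 | h0) | ⟨r, hr, hne⟩
    · exact absurd (by rw [← el_of_val x, h0, el_zero, map_one]) hx1
    · rw [← el_of_val x, h0, incl_z e he]
    · refine absurd ?_ hne
      have h1 : el r * x = x * el r := hinj (by
        rw [map_mul, map_mul]
        exact hc _ (Subgroup.mem_map_of_mem _ (roots_mem_sylC hr).2.1))
      have h2 := congrArg Cen.val h1
      rw [split_mul_val, split_mul_val, el_val (roots_mem_sylC hr).1] at h2
      exact h2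
  · intro c hc h
    obtain ⟨x, rfl⟩ := exists_incl e hc
    refine hnc x (Subgroup.map_injective hinj ?_)
    rw [← h, Subgroup.map_map, Subgroup.map_map]
    congr 1
    exact MonoidHom.ext fun y => by simp

include he ht in
theorem closed_sideA (g : G)
    (hg : IsPGroup 2 (sideA e ⊔ (sideA e).map (MulAut.conj g).toMonoidHom : Subgroup G)) :
    (sideA e).map (MulAut.conj g).toMonoidHom = sideA e := by
  have h := few_commuting
  simp only [List.all_eq_true, Bool.or_eq_true, decide_eq_true_eq, List.contains_iff_mem, or_assoc] at h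
  obtain ⟨h1, h2⟩ := elem_ab subA aList (fun _ => mem_subA) aCode (fun n => code_surj.1)
    (fun v hv w hw => (code_mul hv hw).1) side_special.1
  exact closed_of_list e he ht subA subB aList bList (fun _ => mem_subA) (fun _ => mem_subB) card_subA card_subB
    (fun x hx => mem_sylC.2 (aList_lt (mem_subA.1 hx))) (fun x hx => mem_sylC.2 (bList_lt (mem_subB.1 hx)))
    normalizer_subB.2 h1 h2 h hnc_AB g hg

include he ht in
theorem closed_sideB (g : G)
    (hg : IsPGroup 2 (sideB e ⊔ (sideB e).map (MulAut.conj g).toMonoidHom : Subgroup G)) :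
    (sideB e).map (MulAut.conj g).toMonoidHom = sideB e := by
  have h := few_commuting
  simp only [List.all_eq_true, Bool.or_eq_true, decide_eq_true_eq, List.contains_iff_mem] at h
  obtain ⟨h1, h2⟩ := elem_ab subB bList (fun _ => mem_subB) bCode (fun n => code_surj.2)
    (fun v hv w hw => (code_mul hv hw).2) side_special.2.1
  exact closed_of_list e he ht subB subA bList aList (fun _ => mem_subB) (fun _ => mem_subA) card_subB card_subA
    (fun x hx => mem_sylC.2 (bList_lt (mem_subB.1 hx))) (fun x hx => mem_sylC.2 (aList_lt (mem_subA.1 hx)))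
    normalizer_subA.2 h1 h2
    (fun x hx => (h x hx).elim (fun h' => h'.elim (fun a => Or.inr (Or.inl a)) Or.inl) fun a => Or.inr (Or.inr a))
    hnc_BA g hg

/-- `A` with its coordinates -/
noncomputable def sideDataA : Side t labA (patt e) where
  A := sideA e
  pgroup := IsPGroup.of_card (n := 6) (by rw [sideA, Subgroup.card_map_of_injective (incl_injective e), card_subA]; norm_num)
  comm := by
    rintro _ ⟨a, ha, rfl⟩ _ ⟨b, hb, rfl⟩
    rw [← map_mul, ← map_mul, (elem_ab subA aList (fun _ => mem_subA) aCode (fun n => code_surj.1)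
      (fun v hv w hw => (code_mul hv hw).1) side_special.1).2 a ha b hb]
  closed := closed_sideA e he ht
  zmem := ⟨el zCode, mem_subA.2 (by
    rw [el_val (by norm_num [zCode]), ← side_special.2.2.1]; exact (code_facts (by norm_num)).1), incl_z e he⟩
  f v := incl e (el (aCode v))
  f_mem v hv := Subgroup.mem_map_of_mem _ (mem_subA.2 (by rw [el_val (code_facts hv).2.2.1]; exact (code_facts hv).1))
  f_surj := by
    rintro _ ⟨x, hx, rfl⟩
    obtain ⟨v, hv, h⟩ := code_surj.1 (mem_subA.1 hx)
    exact ⟨v, hv, by rw [h, el_of_val]⟩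
  f_inj v hv w hw h := by
    have h' := el_inj (code_facts hv).2.2.1 (code_facts hw).2.2.1 (incl_injective e h)
    rw [aCode, aCode, getD_get _ _ (by rw [side_codes.2.2.1]; exact hv),
      getD_get _ _ (by rw [side_codes.2.2.1]; exact hw)] at h'
    exact (List.Nodup.getElem_inj_iff side_codes.2.2.2.2.1).1 h'
  f_xor v hv w hw := by rw [← map_mul, (code_mul hv hw).1]
  f_class v hv := class_label e he ht aCode labA labels_ok.1 side_special.1 (fun v hv => (code_facts hv).2.2.1) hv

/-- `B` with its coordinates -/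
noncomputable def sideDataB : Side t labB (patt e) where
  A := sideB e
  pgroup := IsPGroup.of_card (n := 6) (by rw [sideB, Subgroup.card_map_of_injective (incl_injective e), card_subB]; norm_num)
  comm := by
    rintro _ ⟨a, ha, rfl⟩ _ ⟨b, hb, rfl⟩
    rw [← map_mul, ← map_mul, (elem_ab subB bList (fun _ => mem_subB) bCode (fun n => code_surj.2)
      (fun v hv w hw => (code_mul hv hw).2) side_special.2.1).2 a ha b hb]
  closed := closed_sideB e he ht
  zmem := ⟨el zCode, mem_subB.2 (by
    rw [el_val (by norm_num [zCode]), ← side_special.2.2.2]; exact (code_facts (by norm_num)).2.1), incl_z e he⟩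
  f v := incl e (el (bCode v))
  f_mem v hv := Subgroup.mem_map_of_mem _ (mem_subB.2 (by rw [el_val (code_facts hv).2.2.2]; exact (code_facts hv).2.1))
  f_surj := by
    rintro _ ⟨x, hx, rfl⟩
    obtain ⟨v, hv, h⟩ := code_surj.2 (mem_subB.1 hx)
    exact ⟨v, hv, by rw [h, el_of_val]⟩
  f_inj v hv w hw h := by
    have h' := el_inj (code_facts hv).2.2.2 (code_facts hw).2.2.2 (incl_injective e h)
    rw [bCode, bCode, getD_get _ _ (by rw [side_codes.2.2.2.1]; exact hv),
      getD_get _ _ (by rw [side_codes.2.2.2.1]; exact hw)] at h'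
    exact (List.Nodup.getElem_inj_iff side_codes.2.2.2.2.2).1 h'
  f_xor v hv w hw := by rw [← map_mul, (code_mul hv hw).2]
  f_class v hv := class_label e he ht bCode labB labels_ok.2 side_special.2.1 (fun v hv => (code_facts hv).2.2.2) hv

include he ht in
/-- the order of the normaliser of `A` -/
theorem card_normalizer_sideA :
    Nat.card (normalizer (sideA e : Set G)) = (omegaL labA (patt e)).length * 3072 :=
  (sideDataA e he ht).card_normalizer
    (by rw [show (sideDataA e he ht).A = sideA e from rfl, sideA, card_normalizer_inf, normalizer_subA.1])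

include he ht in
/-- the order of the normaliser of `B` -/
theorem card_normalizer_sideB :
    Nat.card (normalizer (sideB e : Set G)) = (omegaL labB (patt e)).length * 3072 :=
  (sideDataB e he ht).card_normalizer
    (by rw [show (sideDataB e he ht).A = sideB e from rfl, sideB, card_normalizer_inf, normalizer_subB.1])

include he ht in
/-- the normaliser of `A` is transitive on the conjugates of `t` in it -/
theorem transitive_sideA {a : G} (ha : a ∈ sideA e) (h : IsConj t a) :
    ∃ n ∈ normalizer (sideA e : Set G), n * t * n⁻¹ = a :=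
  exists_normalizer_conj (sideA e) (sideDataA e he ht).pgroup (sideDataA e he ht).comm
    (closed_sideA e he ht) (sideDataA e he ht).zmem ha h

include he ht in
/-- the normaliser of `B` is transitive on the conjugates of `t` in it -/
theorem transitive_sideB {a : G} (ha : a ∈ sideB e) (h : IsConj t a) :
    ∃ n ∈ normalizer (sideB e : Set G), n * t * n⁻¹ = a :=
  exists_normalizer_conj (sideB e) (sideDataB e he ht).pgroup (sideDataB e he ht).comm
    (closed_sideB e he ht) (sideDataB e he ht).zmem ha h

end CfsgLib.Spor.HeldTri
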