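import Cfsg.Agent.Lib.Spor.HeldTri.CentChecks

/-!
# Held's trichotomy: `Cen splitTab` is the centraliser of a transvection in `SL(5, 2)`
-/

set_option autoImplicit false
set_option linter.unusedSectionVars false
set_option maxRecDepth 100000

namespace CfsgLib.Spor.HeldTri

open CfsgLib.Spor.HeldRecog CfsgLib.Spor.HeldFusion CfsgLib.Spor.TC Matrix
open CfsgLib.Spor.SLFiveTransv (SL5 M5)

/-- the matrix of a code -/
noncomputable def matC (x : ℕ) : M5 := toMat (qMat (x % 128)) * toMat (hMat (x / 128))

theorem matC_mul {x y : ℕ} (hx : x < 21504) (hy : y < 21504) : matC (splitTab.mul x y) = matC x * matC y := by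
  obtain ⟨a, p, ha, hp, rfl⟩ : ∃ a p, a < 168 ∧ p < 128 ∧ x = 128 * a + p := ⟨x / 128, x % 128, by omega, by omega, by omega⟩
  obtain ⟨b, q, hb, hq, rfl⟩ : ∃ b q, b < 168 ∧ q < 128 ∧ y = 128 * b + q := ⟨y / 128, y % 128, by omega, by omega, by omega⟩
  have h1' := of_allFrom homH_ok ha
  have h1 := of_allFrom h1' hb
  simp only [Bool.and_eq_true] at h1
  have hact := splitTab_valid.act_lt ha hq
  have h2' := of_allFrom act_ok ha
  have h2'' := of_allFrom h2' hq
  have h2 := beq_eq h2''
  have hqm : qmul p (splitTab.act a q) < 128 := (qmul_facts hp hact).1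
  have h3' := of_allFrom homQ_ok hp
  have h3'' := of_allFrom h3' hact
  have h3 := beq_eq h3''
  have hmul : splitTab.mul (128 * a + p) (128 * b + q) = code (splitTab.lmul a b) (qmul p (splitTab.act a q)) := by
    show code (splitTab.lmul ((128 * a + p) / 128) ((128 * b + q) / 128)) (qmul ((128 * a + p) % 128)
      (splitTab.act ((128 * a + p) / 128) ((128 * b + q) % 128) ^^^ splitTab.co ((128 * a + p) / 128) ((128 * b + q) / 128))) = _
    rw [show (128 * a + p) / 128 = a by omega, show (128 * b + q) / 128 = b by omega,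
      show (128 * a + p) % 128 = p by omega, show (128 * b + q) % 128 = q by omega, beq_eq h1.2, Nat.xor_zero]
  rw [hmul, matC, matC, matC, (code_div hqm).1, (code_div hqm).2, show (128 * a + p) / 128 = a by omega,
    show (128 * b + q) / 128 = b by omega, show (128 * a + p) % 128 = p by omega,
    show (128 * b + q) % 128 = q by omega, ← h3, ← beq_eq h1.1, toMat_mul, toMat_mul]
  have h4 : toMat (hMat a) * toMat (qMat q) = toMat (qMat (splitTab.act a q)) * toMat (hMat a) := by
    rw [← toMat_mul, ← toMat_mul, h2]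
  rw [mul_assoc (toMat (qMat p)) (toMat (hMat a)), ← mul_assoc (toMat (hMat a)) (toMat (qMat q)), h4]
  simp only [mul_assoc]

theorem toMat_one : toMat oneM = 1 := by
  refine Matrix.ext fun i j => ?_
  fin_cases i <;> fin_cases j <;> decide +kernel

theorem matC_zero : matC 0 = 1 := by rw [matC, ← toMat_mul, inj_ok.2, toMat_one]

theorem toMat_eq_one {n : ℕ} (hn : n < 2 ^ 25) (h : toMat n = 1) : n = oneM := by
  refine Nat.eq_of_testBit_eq fun k => ?_
  by_cases hk : k < 25
  · have h1 := congrFun (congrFun (h.trans toMat_one.symm) ⟨k / 5, by omega⟩) ⟨k % 5, by omega⟩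
    simp only [toMat, show 5 * (k / 5) + k % 5 = k by omega] at h1
    revert h1
    cases n.testBit k <;> cases oneM.testBit k <;> decide
  · rw [Nat.testBit_lt_two_pow (hn.trans_le (Nat.pow_le_pow_right (by norm_num) (by omega))),
      Nat.testBit_lt_two_pow (lt_of_lt_of_le (by norm_num [oneM]) (Nat.pow_le_pow_right (show 1 ≤ 2 by norm_num)
        (show 25 ≤ k by omega)))]

theorem mulM_lt (a b : ℕ) : mulM a b < 2 ^ 25 := by
  have h : ∀ r s, s ≤ 20 → (rowMul a b r) <<< s < 2 ^ 25 := fun r s hs => by
    rw [Nat.shiftLeft_eq]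
    calc rowMul a b r * 2 ^ s < 2 ^ 5 * 2 ^ s := Nat.mul_lt_mul_of_pos_right (row_lt a b r) (Nat.two_pow_pos s)
      _ = 2 ^ (5 + s) := (pow_add 2 5 s).symm
      _ ≤ 2 ^ 25 := Nat.pow_le_pow_right (by norm_num) (by omega)
  exact Nat.or_lt_two_pow ((row_lt a b 0).trans (by norm_num)) (Nat.or_lt_two_pow (h 1 5 (by norm_num))
    (Nat.or_lt_two_pow (h 2 10 (by norm_num)) (Nat.or_lt_two_pow (h 3 15 (by norm_num)) (h 4 20 le_rfl))))

theorem matC_eq_one {x : ℕ} (hx : x < 21504) (h : matC x = 1) : x = 0 := by
  rw [matC, ← toMat_mul] at h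
  have h1' := of_allFrom inj_ok.1 (show x / 128 < 168 by omega)
  have h1 := of_allFrom h1' (show x % 128 < 128 by omega)
  rw [toMat_eq_one (mulM_lt _ _) h, Nat.beq_refl] at h1
  simp only [Bool.not_true, Bool.false_or, Bool.and_eq_true] at h1
  have := beq_eq h1.1
  have := beq_eq h1.2
  omega

theorem matC_z : matC 64 = Matrix.transvection 0 1 1 := by
  rw [matC, ← toMat_mul]
  refine Matrix.ext fun i j => ?_
  fin_cases i <;> fin_cases j <;> decide +kernel

/-- the map into `SL(5, 2)` -/
noncomputable def toSL : Cen splitTab →* SL5 where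
  toFun x := ⟨matC x.val, SLFiveTransv.units_trivial _ (by
    have h : matC x.val * matC (x⁻¹).val = 1 := by
      rw [← matC_mul x.lt (x⁻¹).lt, ← split_mul_val, mul_inv_cancel, split_one_val, matC_zero]
    exact IsUnit.of_mul_eq_one _ (by rw [← Matrix.det_mul, h, Matrix.det_one]))⟩
  map_one' := Subtype.ext (by
    show matC (1 : Cen splitTab).val = 1
    rw [split_one_val, matC_zero])
  map_mul' x y := Subtype.ext (by
    show matC (x * y).val = matC x.val * matC y.val
    rw [split_mul_val, matC_mul x.lt y.lt])

theorem toSL_injective : Function.Injective toSL := by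
  rw [injective_iff_map_eq_one]
  intro x h
  exact Cen.ext (by rw [matC_eq_one x.lt (congrArg Subtype.val h :), split_one_val])

variable (s : SL5) (hs : (s : M5) = Matrix.transvection 0 1 1)

include hs in
theorem toSL_z : toSL (el zCode) = s := Subtype.ext (by
  show matC (el zCode).val = _
  rw [el_val (by norm_num [zCode]), hs]
  exact matC_z)

include hs in
theorem toSL_mem (x : Cen splitTab) : toSL x ∈ Subgroup.centralizer ({s} : Set SL5) := by
  rw [Subgroup.mem_centralizer_singleton_iff, ← toSL_z s hs, ← map_mul, ← map_mul, z_central]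

/-- **the centraliser of a transvection** -/
noncomputable def centIso : Cen splitTab ≃* Subgroup.centralizer ({s} : Set SL5) :=
  MulEquiv.ofBijective ((toSL.codRestrict _ (toSL_mem s hs)))
    ((Nat.bijective_iff_injective_and_card _).2 ⟨fun x y h => toSL_injective (congrArg Subtype.val h :), by
      rw [Cen.natCard, SLFiveTransv.card_centralizer s hs]⟩)

theorem centIso_z : ((centIso s hs (el zCode) : _) : SL5) = s := toSL_z s hs

/-- an isomorphism of centralisers carries the involution to the transvection -/
theorem exists_model_of_equiv {G : Type*} [Group G] {j : G} (hj : orderOf j = 2)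
    (hs' : (s : M5) = Matrix.transvection 0 1 1)
    (f : Subgroup.centralizer ({j} : Set G) ≃* Subgroup.centralizer ({s} : Set SL5)) :
    ∃ e : Cen splitTab ≃* Subgroup.centralizer ({j} : Set G), ((e ⟨64, by norm_num⟩ : _) : G) = j := by
  refine ⟨(centIso s hs').trans f.symm, ?_⟩
  set jj : Subgroup.centralizer ({j} : Set G) := ⟨j, Subgroup.mem_centralizer_singleton_iff.2 rfl⟩
  set x := ((centIso s hs').trans f.symm).symm jj with hx
  have hxc : ∀ y : Cen splitTab, y * x = x * y := fun y => by
    apply ((centIso s hs').trans f.symm).injective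
    rw [map_mul, map_mul, hx, MulEquiv.apply_symm_apply]
    exact Subtype.ext (Subgroup.mem_centralizer_singleton_iff.1
      (((centIso s hs').trans f.symm) y).2)
  have hx2 : x * x = 1 := by
    rw [hx, ← map_mul, show jj * jj = 1 from Subtype.ext (show j * j = 1 by rw [← pow_two, ← hj, pow_orderOf_eq_one]),
      map_one]
  rcases invol_cases x hx2 with h | h | ⟨c, hc, hxc'⟩
  · exfalso
    have h1 := congrArg ((centIso s hs').trans f.symm) h
    rw [hx, MulEquiv.apply_symm_apply, map_one] at h1
    have h2 : j = 1 := congrArg Subtype.val h1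
    rw [h2, orderOf_one] at hj
    omega
  · have h1 := congrArg ((centIso s hs').trans f.symm) h
    rw [hx, MulEquiv.apply_symm_apply] at h1
    have h64 : (⟨64, by norm_num⟩ : Cen splitTab) = el zCode := Cen.ext (el_val (by norm_num [zCode])).symm
    rw [h64]
    exact (congrArg Subtype.val h1).symm
  · exfalso
    have hd : ∀ k < 7, (classL k).contains ((classL k).getD 0 0) = true ∧ (classL k).contains ((classL k).getD 1 0) = true ∧
        (classL k).getD 0 0 ≠ (classL k).getD 1 0 := by decide +kernel
    obtain ⟨h0, h1, hne⟩ := hd c hc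
    simp only [List.contains_iff_mem] at h0 h1
    have key : ∀ n ∈ classL c, el n = x := fun n hn => by
      obtain ⟨g, hg⟩ := isConj_iff.1 ((class_isConj hc hxc').symm.trans (class_isConj hc hn))
      rw [el_of_val] at hg
      rw [← hg, hxc g, mul_inv_cancel_right]
    exact hne (el_inj (classL_lt hc h0).1 (classL_lt hc h1).1 ((key _ h0).trans (key _ h1).symm))

end CfsgLib.Spor.HeldTri
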