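import Cfsg.Agent.Lib.Spor.HeldTri.CentData
import Cfsg.Agent.Lib.Spor.HeldFusion.Cent
import Cfsg.Agent.Lib.Spor.SLFiveTransv
import Cfsg.Agent.Lib.Spor.HeldRecog.Model.Split

/-!
# Held's trichotomy: packed matrices and the checks for the centraliser of a transvection
-/

set_option autoImplicit false
set_option linter.unusedSectionVars false
set_option maxRecDepth 100000

namespace CfsgLib.Spor.HeldTri

open CfsgLib.Spor.HeldRecog CfsgLib.Spor.HeldFusion CfsgLib.Spor.TC Matrix
open CfsgLib.Spor.SLFiveTransv (SL5 M5)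

/-- the bit of `v` at `i` times `x` -/
noncomputable def selB (v i x : ℕ) : ℕ := Nat.mul (Nat.land (Nat.shiftRight v i) 1) x

/-- a row of the product -/
noncomputable def rowMul (a b i : ℕ) : ℕ :=
  Nat.xor (selB a (5 * i) (Nat.land b 31))
    (Nat.xor (selB a (5 * i + 1) (Nat.land (Nat.shiftRight b 5) 31))
      (Nat.xor (selB a (5 * i + 2) (Nat.land (Nat.shiftRight b 10) 31))
        (Nat.xor (selB a (5 * i + 3) (Nat.land (Nat.shiftRight b 15) 31))
          (selB a (5 * i + 4) (Nat.land (Nat.shiftRight b 20) 31)))))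

/-- the product of two packed matrices -/
noncomputable def mulM (a b : ℕ) : ℕ :=
  Nat.lor (rowMul a b 0) (Nat.lor (Nat.shiftLeft (rowMul a b 1) 5) (Nat.lor (Nat.shiftLeft (rowMul a b 2) 10)
    (Nat.lor (Nat.shiftLeft (rowMul a b 3) 15) (Nat.shiftLeft (rowMul a b 4) 20))))

/-- a packed matrix -/
noncomputable def toMat (n : ℕ) : M5 :=
  fun i j => if n.testBit (5 * i.val + j.val) then 1 else 0

theorem selB_testBit (v i x k : ℕ) : (selB v i x).testBit k = (v.testBit i && x.testBit k) := by
  have h : selB v i x = (v.testBit i).toNat * x := by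
    show ((v >>> i) &&& 1) * x = _
    rw [Nat.and_one_is_mod, Nat.shiftRight_eq_div_pow, Nat.toNat_testBit]
  rw [h]
  cases v.testBit i <;> simp

theorem row_lt (a b i : ℕ) : rowMul a b i < 2 ^ 5 := by
  have h : ∀ j s : ℕ, selB a j (Nat.land s 31) < 2 ^ 5 := fun j s => by
    refine Nat.lt_pow_two_of_testBit _ fun k hk => ?_
    rw [selB_testBit, show Nat.land s 31 = s &&& 31 from rfl, Nat.testBit_and,
      Nat.testBit_lt_two_pow (lt_of_lt_of_le (by norm_num : 31 < 2 ^ 5) (Nat.pow_le_pow_right (by norm_num) hk))]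
    simp
  exact Nat.xor_lt_two_pow (h _ _) (Nat.xor_lt_two_pow (h _ _) (Nat.xor_lt_two_pow (h _ _)
    (Nat.xor_lt_two_pow (h _ _) (h _ _))))

theorem rowMul_testBit (a b i k : ℕ) (hk : k < 5) : (rowMul a b i).testBit k =
    ((a.testBit (5 * i) && b.testBit k) ^^ ((a.testBit (5 * i + 1) && b.testBit (5 + k)) ^^
      ((a.testBit (5 * i + 2) && b.testBit (10 + k)) ^^ ((a.testBit (5 * i + 3) && b.testBit (15 + k)) ^^
        (a.testBit (5 * i + 4) && b.testBit (20 + k)))))) := by
  have h : ∀ s, (Nat.land s 31).testBit k = s.testBit k := fun s => by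
    rw [show Nat.land s 31 = s &&& 31 from rfl, Nat.testBit_and, show (31 : ℕ).testBit k = true by
      interval_cases k <;> rfl, Bool.and_true]
  simp only [rowMul, show ∀ x y : ℕ, Nat.xor x y = x ^^^ y from fun _ _ => rfl,
    show ∀ x y : ℕ, Nat.shiftRight x y = x >>> y from fun _ _ => rfl, Nat.testBit_xor, selB_testBit, h,
    Nat.testBit_shiftRight]

theorem mulM_testBit (a b : ℕ) (i k : Fin 5) :
    (mulM a b).testBit (5 * i.val + k.val) = (rowMul a b i.val).testBit k.val := by
  have hlt : ∀ r n, 5 ≤ n → (rowMul a b r).testBit n = false := fun r n hn =>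
    Nat.testBit_lt_two_pow (lt_of_lt_of_le (row_lt a b r) (Nat.pow_le_pow_right (by norm_num) hn))
  simp only [mulM, show ∀ x y : ℕ, Nat.lor x y = x ||| y from fun _ _ => rfl,
    show ∀ x y : ℕ, Nat.shiftLeft x y = x <<< y from fun _ _ => rfl, Nat.testBit_or, Nat.testBit_shiftLeft]
  fin_cases i <;> fin_cases k <;> simp [hlt]

theorem toMat_mul (a b : ℕ) : toMat (mulM a b) = toMat a * toMat b := by
  refine Matrix.ext fun i k => ?_
  have key : ∀ a0 a1 a2 a3 a4 b0 b1 b2 b3 b4 : Bool,
      (if ((a0 && b0) ^^ ((a1 && b1) ^^ ((a2 && b2) ^^ ((a3 && b3) ^^ (a4 && b4))))) then (1 : ZMod 2) else 0) =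
        (if a0 then 1 else 0) * (if b0 then 1 else 0) + (if a1 then 1 else 0) * (if b1 then 1 else 0) +
          (if a2 then 1 else 0) * (if b2 then 1 else 0) + (if a3 then 1 else 0) * (if b3 then 1 else 0) +
            (if a4 then 1 else 0) * (if b4 then 1 else 0) := by
    decide +kernel
  rw [Matrix.mul_apply, Fin.sum_univ_five, toMat]
  simp only [mulM_testBit, rowMul_testBit a b i.val k.val k.2]
  rw [key]
  simp [toMat]

/-- the matrix of a residue -/
noncomputable def hMat (a : ℕ) : ℕ := Nat.land (Nat.shiftRight hPack (Nat.mul 25 a)) 33554431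

/-- the matrix of an element of the extraspecial group -/
noncomputable def qMat (q : ℕ) : ℕ := Nat.land (Nat.shiftRight qPack (Nat.mul 25 q)) 33554431

/-- the identity -/
def oneM : ℕ := 17043521

theorem homH_ok : allFrom (fun a => allFrom (fun b => Nat.beq (mulM (hMat a) (hMat b)) (hMat (splitTab.lmul a b)) &&
    Nat.beq (splitTab.co a b) 0) 0 168) 0 168 = true := by decide +kernel

theorem homQ_ok : allFrom (fun p => allFrom (fun q => Nat.beq (mulM (qMat p) (qMat q)) (qMat (qmul p q))) 0 128) 0 128 =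
    true := by decide +kernel

theorem act_ok : allFrom (fun a => allFrom (fun q =>
    Nat.beq (mulM (hMat a) (qMat q)) (mulM (qMat (splitTab.act a q)) (hMat a))) 0 128) 0 168 = true := by
  decide +kernel

theorem inj_ok : allFrom (fun a => allFrom (fun q => !Nat.beq (mulM (qMat q) (hMat a)) oneM ||
    (Nat.beq a 0 && Nat.beq q 0)) 0 128) 0 168 = true ∧ mulM (qMat 0) (hMat 0) = oneM := by
  decide +kernel

end CfsgLib.Spor.HeldTri
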