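import Mathlib.Data.Nat.Bitwise

/-!
# Held's trichotomy: the matrices of the two parts of the codes in the centraliser of a transvection of `SL(5, 2)`
-/

set_option autoImplicit false

namespace CfsgLib.Spor.HeldTri

/-- the matrices of the 168 residues, 25 bits each -/
def hPack : ℕ := 0x831020c184106984082ce1041e42820c08810708e082ca2041a62020b398107902083443041811820e11410618e083441041653820c304107984082447041251820d21c1071420824e2041613820f094105146083c41041463820c314107988082445041253020d20c1071480824e5041613020f09010514c083c43041460820c30c10588a0824c4041c7182091941068ce083881041470820921c1059420828c5041e23020b11c1049840838e4041233020d19010710a0828e6041241820b290105186083c44041642820c298105988082864041243020e20c1068c20824e3041a23020b204106146082cc2041433820920810710e083462041272020d1101061cc083047041412020f19410590c083843041472020f08c1048c80838a2041870820c11410504a083c66041641020e1041051c6083c22041233820e29c1078c4083ca3041a13820c388105148082c24041c71020a09c1078c2083ca6041a13020c394105142082c25041c72820a0981068440834e1041c11820c28810698e083027041432820d08c1069cc083822041853820d30410604c082866041c12820e18410798a083065041a43020e0901070c4083cc3041833020d2081070ce082881041623020f2181070c8082885041622020f208105106082446041671020a21c104888082ce5041a7202092881069c60824a7041e5202093141079420824c3041663820b304106086083041041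

/-- the matrices of the 128 elements of the extraspecial group, 25 bits each -/
def qPack : ℕ := 0x828c23c14411e4a208f251847920823c90611e08308f041047828c29c14414e4a20a7251853920829c90614e0830a7041053828c2fc14417e4a20bf25185f92082fc90617e0830bf04105f828c25c14412e4a209725184b920825c90612e08309704104b828c27c14413e4a209f25184f920827c90613e08309f04104f828c2dc14416e4a20b725185b92082dc90616e0830b704105b828c2bc14415e4a20af25185792082bc90615e0830af041057828c21c14410e4a2087251843920821c90610e083087041043828c22c1441164a208b251845920822c90611608308b041045828c28c1441464a20a3251851920828c9061460830a3041051828c2ec1441764a20bb25185d92082ec9061760830bb04105d828c24c1441264a2093251849920824c906126083093041049828c26c1441364a209b25184d920826c90613608309b04104d828c2cc1441664a20b325185992082cc9061660830b3041059828c2ac1441564a20ab25185592082ac9061560830ab041055828c20c1441064a2083251841920820c906106083083041041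

end CfsgLib.Spor.HeldTri
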