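import Cfsg.Agent.Lib.Spor.HeldTri.Reach
import Cfsg.Agent.Lib.Spor.HeldFusion.Fusion
import Mathlib.GroupTheory.Transfer

/-!
# Held's trichotomy: a subgroup controlling one class of involutions with centraliser of order 64

Such a subgroup is the whole group when some involution of the centraliser is not central in it: otherwise the
involutions are inverting an abelian Hall subgroup, and no two of them commute.
-/

set_option autoImplicit false
set_option linter.unusedSectionVars false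
set_option linter.style.haveILetI false

namespace CfsgLib.Spor.HeldTri

open Subgroup CfsgLib.Invol

variable {H : Type*} [Group H] [Finite H]

/-- **the quotient lemma** -/
theorem eq_top_of_cent_sixtyFour (K : Subgroup H) {z : H} (hz : orderOf z = 2)
    (hC : centralizer ({z} : Set H) ≤ K) (hfuse : ∀ h : H, h * z * h⁻¹ ∈ K → h ∈ K)
    (hcard : Nat.card (centralizer ({z} : Set H)) = 64) (hclass : ∀ x : H, orderOf x = 2 → IsConj z x)
    (hy : ∃ y ∈ centralizer ({z} : Set H), orderOf y = 2 ∧ ∃ s ∈ centralizer ({z} : Set H), ¬ Commute y s) :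
    K = ⊤ := by
  classical
  refine eq_top_iff.2 fun h _ => ?_
  by_contra hh
  have hzK : z ∈ K := hC (mem_centralizer_singleton_iff.2 rfl)
  set e := h * z * h⁻¹ with he
  have heo : orderOf e = 2 := invol_conj hz h
  have heK : e ∉ K := fun h' => hh (hfuse h h')
  have hrep : ∀ d ∈ K, orderOf d = 2 → ∃ k ∈ K, k * z * k⁻¹ = d := fun d hd hdo => by
    obtain ⟨k, rfl⟩ := isConj_iff.1 (hclass d hdo)
    exact ⟨k, hfuse k hd, rfl⟩
  have hin : ∀ d ∈ K, orderOf d = 2 → ∀ c : H, Commute c d → c ∈ K := fun d hd hdo c hc => by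
    obtain ⟨k, hk, rfl⟩ := hrep d hd hdo
    have h1 : k⁻¹ * c * k ∈ K := hC (mem_centralizer_singleton_iff.2 (by
      calc k⁻¹ * c * k * z = k⁻¹ * (c * (k * z * k⁻¹)) * k := by group
        _ = k⁻¹ * (k * z * k⁻¹ * c) * k := by rw [hc.eq]
        _ = z * (k⁻¹ * c * k) := by group))
    simpa [mul_assoc] using K.mul_mem (K.mul_mem hk h1) (K.inv_mem hk)
  set D := K ⊓ K.map (MulAut.conj h).toMonoidHom with hD
  have hswap : ∀ d ∈ K, orderOf d = 2 → ∃ s : H, s * s = 1 ∧ s * e * s⁻¹ = d ∧ ∃ k ∈ K, s = h * k := by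
    intro d hd hdo
    have hodd : Odd (orderOf (d * e)) := by
      by_contra hne
      have heven := Nat.not_odd_iff_even.1 hne
      set w := (d * e) ^ (orderOf (d * e) / 2) with hw
      have hwd : Commute w d := commute_pow_half (invol_conj_mul hdo heo) heven
      have hwe : Commute w e := commute_pow_half (invol_conj_mul' hdo heo) heven
      exact heK (hin w (hin d hd hdo w hwd) (orderOf_pow_half heven) e hwe.symm)
    obtain ⟨r, hr, hre⟩ := exists_conj_eq_of_odd hdo heo hodd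
    obtain ⟨i, rfl⟩ := mem_zpowers_iff.1 hr
    have h2 : (d * e) ^ i * d * ((d * e) ^ i * d) = 1 := by
      have := invol_mul_self (orderOf_reflection hdo heo (-i))
      rwa [← zpow_mul_invol hdo (invol_conj_mul hdo heo)] at this
    have hse : (d * e) ^ i * d * d * ((d * e) ^ i * d)⁻¹ = e := by
      rw [mul_inv_rev, invol_inv hdo, mul_assoc _ d d, invol_mul_self hdo, mul_one, ← mul_assoc]
      exact hre
    refine ⟨(d * e) ^ i * d, h2, ?_, ?_⟩
    · generalize (d * e) ^ i * d = s at h2 hse ⊢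
      have hs : s⁻¹ = s := inv_eq_of_mul_eq_one_left h2
      rw [← hse, hs, show s * (s * d * s) * s = s * s * d * (s * s) by group, h2, one_mul, mul_one]
    · generalize (d * e) ^ i * d = s at h2 hse ⊢
      obtain ⟨k, hk, rfl⟩ := hrep d hd hdo
      have h1 : h⁻¹ * s * k ∈ K := hC (mem_centralizer_singleton_iff.2 (mul_inv_eq_iff_eq_mul.1 (by
        calc h⁻¹ * s * k * z * (h⁻¹ * s * k)⁻¹ = h⁻¹ * (s * (k * z * k⁻¹) * s⁻¹) * h := by group
          _ = h⁻¹ * e * h := by rw [hse]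
          _ = z := by rw [he]; group)))
      exact ⟨h⁻¹ * s * k * k⁻¹, K.mul_mem h1 (K.inv_mem hk), by group⟩
  choose! sw hsw using hswap
  have hzmem : ∀ d : {d : H // d ∈ K ∧ orderOf d = 2}, sw z * sw d.1 ∈ D ∧
      sw z * (sw z * sw d.1) * (sw z)⁻¹ = (sw z * sw d.1)⁻¹ := by
    rintro ⟨d, hd, hdo⟩
    obtain ⟨h1, -, k1, hk1, hs1⟩ := hsw z hzK hz
    obtain ⟨h2, -, k2, hk2, hs2⟩ := hsw d hd hdo
    have hi1 : (sw z)⁻¹ = sw z := inv_eq_of_mul_eq_one_left h1
    have hi2 : (sw d)⁻¹ = sw d := inv_eq_of_mul_eq_one_left h2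
    refine ⟨⟨?_, k1 * k2⁻¹, K.mul_mem hk1 (K.inv_mem hk2), ?_⟩, ?_⟩
    · show sw z * sw d ∈ K
      have e1 : sw z * sw d = k1⁻¹ * k2 :=
        calc sw z * sw d = (sw z)⁻¹ * sw d := by rw [hi1]
          _ = k1⁻¹ * k2 := by rw [hs1, hs2]; group
      rw [e1]
      exact K.mul_mem (K.inv_mem hk1) hk2
    · show h * (k1 * k2⁻¹) * h⁻¹ = sw z * sw d
      calc h * (k1 * k2⁻¹) * h⁻¹ = h * k1 * (h * k2)⁻¹ := by group
        _ = sw z * sw d := by rw [← hs1, ← hs2, hi2]
    · rw [mul_inv_rev, hi1, hi2, ← mul_assoc, h1, one_mul]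
  have hDodd : Odd (Nat.card D) := by
    rw [← Nat.not_even_iff_odd]
    intro hev
    obtain ⟨i, ⟨hiK, w, hw, hwi⟩, hio⟩ := exists_invol_mem hev
    obtain ⟨k, hk, hki⟩ := hrep i hiK hio
    have h1 : h⁻¹ * k ∈ K := hfuse _ (by
      rw [show h⁻¹ * k * z * (h⁻¹ * k)⁻¹ = h⁻¹ * (k * z * k⁻¹) * h by group, hki, ← hwi]
      show h⁻¹ * (h * w * h⁻¹) * h ∈ K
      simpa [mul_assoc] using hw)
    exact hh (by simpa using K.mul_mem hk (K.inv_mem h1))
  -- counting
  set J := Nat.card {d : H // d ∈ K ∧ orderOf d = 2} with hJ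
  have hKJ : Nat.card K = J * 64 := by
    have h1 := HeldFusion.nConj_mul (⟨z, hzK⟩ : K)
    have h2 : Nat.card (centralizer ({(⟨z, hzK⟩ : K)} : Set K)) = 64 := by
      rw [← hcard]
      refine Nat.card_congr ⟨fun c => ⟨c.1.1, mem_centralizer_singleton_iff.2
        (congrArg Subtype.val (mem_centralizer_singleton_iff.1 c.2))⟩,
        fun c => ⟨⟨c.1, hC c.2⟩, mem_centralizer_singleton_iff.2 (Subtype.ext (mem_centralizer_singleton_iff.1 c.2))⟩,
        fun c => rfl, fun c => rfl⟩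
    have h3 : HeldFusion.nConj (⟨z, hzK⟩ : K) = J := by
      refine Nat.card_congr ⟨fun x => ⟨x.1.1, x.1.2, ?_⟩, fun d => ⟨⟨d.1, d.2.1⟩, ?_⟩, fun x => rfl, fun d => rfl⟩
      · obtain ⟨k, hk⟩ := isConj_iff.1 x.2
        rw [← hk]
        exact invol_conj hz _
      · obtain ⟨k, hk, hkd⟩ := hrep d.1 d.2.1 d.2.2
        exact isConj_iff.2 ⟨⟨k, hk⟩, Subtype.ext hkd⟩
    rw [← h1, h2, h3]
  let φ : {d : H // d ∈ K ∧ orderOf d = 2} → {x : D // sw z * (x : H) * (sw z)⁻¹ = (x : H)⁻¹} := fun d =>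
    ⟨⟨_, (hzmem d).1⟩, (hzmem d).2⟩
  have hφ : Function.Injective φ := fun a b hab => by
    have h1 : sw a.1 = sw b.1 := mul_left_cancel (congrArg (fun x => ((x.1 : D) : H)) hab :)
    have h2 := (hsw a.1 a.2.1 a.2.2).2.1
    rw [h1, (hsw b.1 b.2.1 b.2.2).2.1] at h2
    exact Subtype.ext h2.symm
  have hJD : Nat.card D ≤ J := by
    have h1 : Nat.card D ∣ J * 64 := hKJ ▸ Subgroup.card_dvd_of_le inf_le_left
    refine Nat.le_of_dvd ?_ (Nat.Coprime.dvd_of_dvd_mul_right ?_ h1)
    · haveI : Nonempty {d : H // d ∈ K ∧ orderOf d = 2} := ⟨⟨z, hzK, hz⟩⟩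
      exact Nat.card_pos
    · exact (Nat.coprime_two_right.2 hDodd).pow_right 6
  have hDJ : Nat.card D = J := le_antisymm hJD
    ((Nat.card_le_card_of_injective φ hφ).trans (Finite.card_subtype_le _))
  have hinv : ∀ x ∈ D, sw z * x * (sw z)⁻¹ = x⁻¹ := by
    intro x hx
    by_contra hne
    have := Finite.card_subtype_lt (p := fun x : D => sw z * (x : H) * (sw z)⁻¹ = (x : H)⁻¹) (x := ⟨x, hx⟩) hne
    have := Nat.card_le_card_of_injective φ hφ
    omega
  have hab : ∀ a ∈ D, ∀ b ∈ D, Commute a b := by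
    intro a ha b hb
    have h1 := hinv _ (D.mul_mem ha hb)
    rw [mul_inv_rev, show sw z * (a * b) * (sw z)⁻¹ = sw z * a * (sw z)⁻¹ * (sw z * b * (sw z)⁻¹) by group,
      hinv a ha, hinv b hb] at h1
    have h2 := congrArg (fun x => x⁻¹) h1
    simpa [mul_inv_rev, Commute, SemiconjBy] using h2.symm
  -- inside `K`
  set D' := D.subgroupOf K with hD'
  have hDcard : Nat.card D' = J := by
    rw [← hDJ]
    exact Nat.card_congr (Subgroup.subgroupOfEquivOfLe (inf_le_left : D ≤ K)).toEquiv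
  have hJodd : Odd J := hDJ ▸ hDodd
  have hpow : ∀ {p : ℕ}, p.Prime → p ∣ J → (J * 64).factorization p = J.factorization p := by
    intro p hp hpJ
    have hp2 : p ≠ 2 := by
      rintro rfl
      exact Nat.not_even_iff_odd.2 hJodd (even_iff_two_dvd.2 hpJ)
    have h64 : ¬ p ∣ 2 ^ 6 := fun h' => hp2 ((Nat.prime_dvd_prime_iff_eq hp Nat.prime_two).1 (hp.dvd_of_dvd_pow h'))
    rw [Nat.factorization_mul (Nat.pos_of_mul_pos_right (hKJ ▸ Nat.card_pos : 0 < J * 64)).ne' (by norm_num),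
      Finsupp.add_apply, show (64 : ℕ) = 2 ^ 6 from rfl, Nat.factorization_eq_zero_of_not_dvd h64, add_zero]
  obtain ⟨y, hyC, hyo, s, hsC, hys⟩ := hy
  have hyz : y ≠ z := fun h' => hys (h' ▸ (mem_centralizer_singleton_iff.1 hsC).symm)
  by_cases hburn : ∀ p : ℕ, p.Prime → p ∣ J → ∀ P : Sylow p K, (P : Subgroup K) ≤ D' →
      normalizer ((P : Subgroup K) : Set K) ≤ centralizer ((P : Subgroup K) : Set K)
  · -- all normal complements exist
    set C' := (centralizer ({z} : Set H)).subgroupOf K with hC'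
    have hC'card : Nat.card C' = 64 := by
      rw [← hcard]; exact Nat.card_congr (Subgroup.subgroupOfEquivOfLe hC).toEquiv
    have hM : ∀ p : ℕ, p.Prime → p ∣ J → ∃ N : Subgroup K, N.Normal ∧ C' ≤ N ∧ ¬ p ∣ Nat.card N := by
      intro p hp hpJ
      haveI := Fact.mk hp
      let P0 : Sylow p D' := default
      let P : Sylow p K := Sylow.ofCard ((P0 : Subgroup D').map D'.subtype) (by
        rw [Subgroup.card_map_of_injective D'.subtype_injective, P0.card_eq_multiplicity, hDcard, hKJ, hpow hp hpJ])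
      have hP := hburn p hp hpJ P (by rintro _ ⟨x, -, rfl⟩; exact x.2)
      refine ⟨(MonoidHom.transferSylow P hP).ker, inferInstance, fun c hc => ?_,
        MonoidHom.not_dvd_card_ker_transferSylow P hP⟩
      rw [MonoidHom.mem_ker, ← orderOf_eq_one_iff]
      obtain ⟨k, hk⟩ := P.2 (MonoidHom.transferSylow P hP c)
      have h1 : orderOf (MonoidHom.transferSylow P hP c) ∣ p ^ k := orderOf_dvd_of_pow_eq_one hk
      have h2 : orderOf (MonoidHom.transferSylow P hP c) ∣ 2 ^ 6 :=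
        ((orderOf_map_dvd _ c).trans (Subgroup.orderOf_dvd_natCard _ hc)).trans (by rw [hC'card]; norm_num)
      have hp2 : p ≠ 2 := by
        rintro rfl
        exact Nat.not_even_iff_odd.2 hJodd (even_iff_two_dvd.2 hpJ)
      exact Nat.eq_one_of_dvd_coprimes
        (Nat.Coprime.pow k 6 ((Nat.coprime_primes hp Nat.prime_two).2 hp2)) h1 h2
    choose! N hN using hM
    set M : Subgroup K := ⨅ p : {p : ℕ // p.Prime ∧ p ∣ J}, N p.1 with hMdef
    haveI hMn : M.Normal := Subgroup.normal_iInf_normal fun p => (hN p.1 p.2.1 p.2.2).1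
    have hCM : C' ≤ M := le_iInf fun p => (hN p.1 p.2.1 p.2.2).2.1
    have hMcard : Nat.card M ≤ 64 := by
      have h1 : Nat.card M ∣ J * 64 := hKJ ▸ Subgroup.card_subgroup_dvd_card M
      refine Nat.le_of_dvd (by norm_num) (Nat.Coprime.dvd_of_dvd_mul_left (Nat.coprime_of_dvd ?_) h1)
      intro p hp hpM hpJ
      exact (hN p hp hpJ).2.2 (hpM.trans (Subgroup.card_dvd_of_le (iInf_le _ (⟨p, hp, hpJ⟩ : {p : ℕ // p.Prime ∧ p ∣ J}))))
    have hEq : C' = M := Subgroup.eq_of_le_of_card_ge hCM (hC'card.symm ▸ hMcard)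
    haveI : C'.Normal := hEq ▸ hMn
    obtain ⟨k, hk, hky⟩ := hrep y (hC hyC) hyo
    have h1 : k⁻¹ * s * k ∈ centralizer ({z} : Set H) := by
      have := (inferInstance : C'.Normal).conj_mem ⟨s, hC hsC⟩ (Subgroup.mem_subgroupOf.2 hsC) ⟨k⁻¹, K.inv_mem hk⟩
      rw [Subgroup.mem_subgroupOf] at this
      simpa using this
    refine hys ?_
    show y * s = s * y
    calc y * s = k * (z * (k⁻¹ * s * k)) * k⁻¹ := by rw [← hky]; group
      _ = k * (k⁻¹ * s * k * z) * k⁻¹ := by rw [mem_centralizer_singleton_iff.1 h1]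
      _ = s * y := by rw [← hky]; group
  · push Not at hburn
    obtain ⟨p, hp, hpJ, P, hPD, hPN⟩ := hburn
    haveI := Fact.mk hp
    set CP := centralizer ((P : Subgroup K) : Set K) with hCP
    have hDC : D' ≤ CP := fun a ha => mem_centralizer_iff.2 fun b hb => Subtype.ext
      (hab _ (Subgroup.mem_subgroupOf.1 (hPD hb)) _ (Subgroup.mem_subgroupOf.1 ha)).eq
    have hPne : Nat.card P ≠ 1 := by
      rw [P.card_eq_multiplicity, hKJ, hpow hp hpJ]
      exact fun h' => by
        rcases Nat.pow_eq_one.1 h' with h'' | h''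
        · exact hp.one_lt.ne' h''
        · exact (Nat.Prime.factorization_pos_of_dvd hp (hDcard ▸ Nat.card_pos).ne' hpJ).ne' h''
    have hcentK : ∀ i : K, orderOf i = 2 → ∀ a : K, Commute a i → orderOf a ∣ 64 := by
      intro i hio a ha
      obtain ⟨k, hk, hki⟩ := hrep i.1 i.2 (by rw [Subgroup.orderOf_coe]; exact hio)
      have h1 : k⁻¹ * a.1 * k ∈ centralizer ({z} : Set H) := mem_centralizer_singleton_iff.2 (by
        have h2 : (a : H) * (i : H) = (i : H) * (a : H) := congrArg Subtype.val ha.eq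
        calc k⁻¹ * a.1 * k * z = k⁻¹ * ((a : H) * (k * z * k⁻¹)) * k := by group
          _ = k⁻¹ * ((k * z * k⁻¹) * (a : H)) * k := by rw [hki, h2]
          _ = z * (k⁻¹ * a.1 * k) := by group)
      rw [← Subgroup.orderOf_coe, ← hcard]
      calc orderOf (a : H) = orderOf (k⁻¹ * a.1 * k) := by
            conv_rhs => rw [show k⁻¹ * a.1 * k = MulAut.conj k⁻¹ a.1 by simp, MulEquiv.orderOf_eq]
        _ ∣ _ := Subgroup.orderOf_dvd_natCard _ h1
    have hCodd : Odd (Nat.card CP) := by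
      rw [← Nat.not_even_iff_odd]
      intro hev
      obtain ⟨i, hi, hio⟩ := exists_invol_mem hev
      refine hPne ?_
      have hone : ∀ a : K, a ∈ (P : Subgroup K) → a = 1 := fun a ha => by
        obtain ⟨n, hn⟩ := P.2 ⟨a, ha⟩
        have h1 : orderOf a ∣ p ^ n := orderOf_dvd_of_pow_eq_one (by simpa [Subtype.ext_iff] using hn)
        have h2 : orderOf a ∣ 2 ^ 6 := hcentK i hio a (mem_centralizer_iff.1 hi a ha)
        have hp2 : p ≠ 2 := by
          rintro rfl
          exact Nat.not_even_iff_odd.2 hJodd (even_iff_two_dvd.2 hpJ)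
        exact orderOf_eq_one_iff.1 (Nat.eq_one_of_dvd_coprimes
          (Nat.Coprime.pow n 6 ((Nat.coprime_primes hp Nat.prime_two).2 hp2)) h1 h2)
      exact Subgroup.card_eq_one.2 ((Subgroup.eq_bot_iff_forall _).2 hone)
    have hoddle : ∀ R : Subgroup K, Odd (Nat.card R) → D' ≤ R → R = D' := fun R hR hle =>
      (Subgroup.eq_of_le_of_card_ge hle (by
        rw [hDcard]
        refine Nat.le_of_dvd hJodd.pos (Nat.Coprime.dvd_of_dvd_mul_right ?_
          (hKJ ▸ Subgroup.card_subgroup_dvd_card R))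
        exact (Nat.coprime_two_right.2 hR).pow_right 6)).symm
    have hCD : CP = D' := hoddle CP hCodd hDC
    have hev : Even (Nat.card (normalizer ((P : Subgroup K) : Set K))) := by
      rw [← Nat.not_odd_iff_even]
      intro hodd
      refine hPN ?_
      rw [hoddle _ hodd (hDC.trans (Subgroup.centralizer_le_normalizer _))]
      exact hDC
    obtain ⟨x, hxN, hxo⟩ := exists_invol_mem hev
    have hxD : ∀ a ∈ D', x * a * x⁻¹ ∈ D' := by
      intro a ha
      rw [← hCD] at ha ⊢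
      refine mem_centralizer_iff.2 fun b hb => ?_
      have hb' : x⁻¹ * b * x ∈ (P : Subgroup K) := by
        have := (Subgroup.mem_set_normalizer_iff.1 (inv_mem hxN) b).1 hb
        rwa [inv_inv] at this
      calc b * (x * a * x⁻¹) = x * ((x⁻¹ * b * x) * a) * x⁻¹ := by group
        _ = x * (a * (x⁻¹ * b * x)) * x⁻¹ := by rw [mem_centralizer_iff.1 ha _ hb']
        _ = x * a * x⁻¹ * b := by group
    have hxinv : ∀ a ∈ D', x * a * x⁻¹ = a⁻¹ := by
      let ψ : D' → D' := fun a => ⟨a.1⁻¹ * (x * a.1 * x⁻¹), mul_mem (inv_mem a.2) (hxD _ a.2)⟩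
      have hψ : Function.Injective ψ := fun a b hab' => by
        have h1 : a.1⁻¹ * (x * a.1 * x⁻¹) = b.1⁻¹ * (x * b.1 * x⁻¹) := congrArg Subtype.val hab'
        have hfix : Commute (b.1 * a.1⁻¹) x := by
          show _ = _
          calc b.1 * a.1⁻¹ * x = b.1 * (a.1⁻¹ * (x * a.1 * x⁻¹)) * (x * a.1⁻¹ * x⁻¹) * x := by group
            _ = b.1 * (b.1⁻¹ * (x * b.1 * x⁻¹)) * (x * a.1⁻¹ * x⁻¹) * x := by rw [h1]
            _ = x * (b.1 * a.1⁻¹) := by group
        have h2 : orderOf (b.1 * a.1⁻¹) ∣ 2 ^ 6 := hcentK x hxo _ hfix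
        have h3 : orderOf (b.1 * a.1⁻¹) ∣ J := hDcard ▸ Subgroup.orderOf_dvd_natCard _ (mul_mem b.2 (inv_mem a.2))
        exact Subtype.ext (mul_inv_eq_one.1 (orderOf_eq_one_iff.1 (Nat.eq_one_of_dvd_coprimes
          ((Nat.coprime_two_right.2 hJodd).pow_right 6) h3 h2))).symm
      intro a ha
      obtain ⟨b, hb⟩ := (Finite.injective_iff_surjective.1 hψ) ⟨a, ha⟩
      have hb' : b.1⁻¹ * (x * b.1 * x⁻¹) = a := congrArg Subtype.val hb
      have hx2 : x * x = 1 := invol_mul_self hxo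
      have hxi : x⁻¹ = x := invol_inv hxo
      rw [← hb']
      calc x * (b.1⁻¹ * (x * b.1 * x⁻¹)) * x⁻¹ = x * b.1⁻¹ * x * b.1 * (x * x)⁻¹ := by group
        _ = x * b.1⁻¹ * x⁻¹ * b.1 := by rw [hx2, inv_one, mul_one, hxi]
        _ = (b.1⁻¹ * (x * b.1 * x⁻¹))⁻¹ := by group
    let χ : D' → {d : H // d ∈ K ∧ orderOf d = 2} := fun a => ⟨((x * a.1 : K) : H), (x * a.1).2, by
      rw [Subgroup.orderOf_coe, invol_iff]
      refine ⟨?_, fun h' => ?_⟩
      · calc x * a.1 * (x * a.1) = (x * a.1 * x⁻¹) * (x * x) * a.1 := by group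
          _ = 1 := by rw [hxinv _ a.2, invol_mul_self hxo, mul_one, inv_mul_cancel]
      · have hxa : x ∈ D' := eq_inv_of_mul_eq_one_left h' ▸ inv_mem a.2
        have := Subgroup.orderOf_dvd_natCard _ hxa
        rw [hxo, hDcard] at this
        exact Nat.not_even_iff_odd.2 hJodd (even_iff_two_dvd.2 this)⟩
    have hχ : Function.Injective χ := fun a b h' => Subtype.ext (mul_left_cancel
      (Subtype.ext (congrArg Subtype.val h' :) : x * a.1 = x * b.1))
    have hχs : Function.Surjective χ :=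
      (Nat.bijective_iff_injective_and_card χ).2 ⟨hχ, by rw [hDcard]⟩ |>.2
    obtain ⟨a, ha⟩ := hχs ⟨z, hzK, hz⟩
    obtain ⟨b, hb⟩ := hχs ⟨y, hC hyC, hyo⟩
    have ha' : ((x * a.1 : K) : H) = z := congrArg Subtype.val ha
    have hb' : ((x * b.1 : K) : H) = y := congrArg Subtype.val hb
    have hzy : Commute z y := (mem_centralizer_singleton_iff.1 hyC).symm
    have hmem : x * a.1 * (x * b.1) = a.1⁻¹ * b.1 := by
      calc x * a.1 * (x * b.1) = x * a.1 * x⁻¹ * (x * x) * b.1 := by group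
        _ = a.1⁻¹ * b.1 := by rw [hxinv _ a.2, invol_mul_self hxo, mul_one]
    have h1 : z * y = 1 := by
      have hsq : (z * y) ^ 2 = 1 := by
        rw [hzy.mul_pow, pow_two, pow_two, invol_mul_self hz, invol_mul_self hyo, mul_one]
      have hodd : Odd (orderOf (z * y)) := by
        rw [← ha', ← hb', ← Subgroup.coe_mul, hmem, Subgroup.orderOf_coe]
        exact hJodd.of_dvd_nat (hDcard ▸ Subgroup.orderOf_dvd_natCard _ (mul_mem (inv_mem a.2) b.2))
      exact eq_one_of_odd_of_pow_two (k := 1) hodd (by rw [pow_one]; exact hsq)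
    exact hyz (mul_left_cancel (h1.trans (invol_mul_self hz).symm))

end CfsgLib.Spor.HeldTri
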