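import Cfsg.Agent.Lib.Spor.HeldTri.Mask
import Cfsg.Agent.Lib.Spor.HeldFusion.Main

/-!
# Held's trichotomy: certificates for pattern 1
-/

set_option autoImplicit false
set_option maxRecDepth 100000

namespace CfsgLib.Spor.HeldTri

open CfsgLib.Spor.HeldRecog CfsgLib.Spor.HeldFusion

/-- the number of elements of `E` commuting with a code -/
noncomputable def fixN (n : ℕ) : ℕ := ((fourCodes 0).filter fun a => mulC n a == mulC a n).length

/-- the centraliser of `E` is `E` -/
noncomputable def selfCentOK : Bool :=
  (List.range 168).all fun a => (List.range 128).all fun q =>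
    (fourCodes 0).contains (128 * a + q) ||
      (fourCodes 0).any fun v => mulC (128 * a + q) v != mulC v (128 * a + q)

theorem selfCent_ok : selfCentOK = true := by decide +kernel

theorem eData : ((fourCodes 0).all fun a => (fourCodes 0).all fun b => mulC a b == mulC b a) = true ∧
    ((fourCodes 0).all fun a => mulC a a == 0) = true ∧
    (fourCodes 0).Nodup ∧ (fourCodes 0).length = 16 ∧ zCodes 1 = (fourCodes 0).tail := by
  decide +kernel

/-- every class other than that of `E` with four fixed points in `E` commutes with one without -/
noncomputable def badOK : Bool :=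
  ([1, 2, 3, 4, 5, 6]).all fun c => fixN ((classL c).getD 0 0) != 4 ||
    ([1, 2, 3, 4, 5, 6]).any fun c' => (classL c').any fun y =>
      mulC ((classL c).getD 0 0) y == mulC y ((classL c).getD 0 0) && fixN y != 4

theorem bad_ok : badOK = true := by decide +kernel

theorem four_lt {n : ℕ} (hn : n ∈ fourCodes 0) : n < 21504 := by
  simp only [fourCodes, List.mem_cons] at hn
  rcases hn with rfl | rfl | hn
  · norm_num
  · norm_num [zCode]
  · exact (classL_lt (by norm_num) hn).1

end CfsgLib.Spor.HeldTri
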