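import Cfsg.Agent.Lib.Spor.HeldTri.Fusion
import Cfsg.Agent.Lib.Spor.HeldTri.EBranchChecks
import Cfsg.Agent.Lib.Invol.SECriterion.Factor
import Cfsg.Agent.Lib.PGroup.Basic

/-!
# Held's trichotomy: pattern 1

The conjugates of `t` in the centraliser are the involutions of a normal elementary abelian group `E`
of order 16; the strong embedding setting of `N(E)` forces `G = N(E)`.
-/

set_option autoImplicit false
set_option linter.unusedSectionVars false
set_option linter.style.haveILetI false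
set_option maxRecDepth 100000

namespace CfsgLib.Spor.HeldTri

open CfsgLib.Spor.HeldRecog CfsgLib.Spor.HeldFusion Subgroup CfsgLib.Invol CfsgLib.SECrit

/-- the elementary abelian group of order 16 in the centraliser -/
noncomputable def eC : Subgroup (Cen splitTab) :=
  listSub (fun n => (fourCodes 0).contains n) (List.contains_iff_mem.2 List.mem_cons_self)
    (fun _ hn => four_lt (List.contains_iff_mem.1 hn)) fun a b ha hb => by
      have h := four_closed.1
      simp only [List.all_eq_true, List.contains_iff_mem] at h ha hb ⊢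
      exact h a ha b hb

theorem mem_eC {x : Cen splitTab} : x ∈ eC ↔ x.val ∈ fourCodes 0 := List.contains_iff_mem

theorem card_eC : Nat.card eC = 16 := by
  rw [card_list_subgroup eC (fourCodes 0) (fun x => mem_eC) eData.2.2.1 (fun n hn => four_lt hn), eData.2.2.2.1]

theorem eC_facts {x y : Cen splitTab} (hx : x ∈ eC) (hy : y ∈ eC) : x * y = y * x ∧ x * x = 1 := by
  have h := eData
  simp only [List.all_eq_true, beq_iff_eq] at h
  refine ⟨Cen.ext ?_, Cen.ext ?_⟩
  · rw [split_mul_val, split_mul_val]; exact h.1 _ (mem_eC.1 hx) _ (mem_eC.1 hy)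
  · rw [split_mul_val, split_one_val]; exact h.2.1 _ (mem_eC.1 hx)

/-- whatever centralises `eC` lies in it -/
theorem mem_eC_of_commute {x : Cen splitTab} (h : ∀ v ∈ eC, x * v = v * x) : x ∈ eC := by
  have h1 := selfCent_ok
  simp only [selfCentOK, List.all_eq_true, List.mem_range, Bool.or_eq_true, List.contains_iff_mem,
    List.any_eq_true, bne_iff_ne] at h1
  have hx := x.lt
  have e1 : 128 * (x.val / 128) + x.val % 128 = x.val := Nat.div_add_mod _ _
  rcases h1 (x.val / 128) (by omega) (x.val % 128) (Nat.mod_lt _ (by norm_num)) with h2 | ⟨v, hv, h2⟩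
  · rw [e1] at h2; exact mem_eC.2 h2
  · rw [e1] at h2
    refine absurd ?_ h2
    have h3 := congrArg Cen.val (h (el v) (mem_eC.2 (by rw [el_val (four_lt hv)]; exact hv)))
    rw [split_mul_val, split_mul_val, el_val (four_lt hv)] at h3
    exact h3

variable {G : Type*} [Group G] [Finite G] {t : G}
variable (e : Cen splitTab ≃* centralizer ({t} : Set G)) (he : ((e ⟨64, by norm_num⟩ : _) : G) = t)
  (ht : orderOf t = 2) (hp : patt e = 1)

/-- the image of `eC` -/
noncomputable def eG : Subgroup G := eC.map (incl e)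

theorem card_eG : Nat.card (eG e) = 16 := by
  rw [eG, Subgroup.card_map_of_injective (incl_injective e), card_eC]

theorem eG_comm {u v : G} (hu : u ∈ eG e) (hv : v ∈ eG e) : u * v = v * u := by
  obtain ⟨x, hx, rfl⟩ := hu
  obtain ⟨y, hy, rfl⟩ := hv
  rw [← map_mul, (eC_facts hx hy).1, map_mul]

theorem eG_sq {u : G} (hu : u ∈ eG e) : u * u = 1 := by
  obtain ⟨x, hx, rfl⟩ := hu
  rw [← map_mul, (eC_facts hx hx).2, map_one]

theorem eG_le : eG e ≤ centralizer ({t} : Set G) := by
  rintro _ ⟨x, -, rfl⟩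
  exact incl_mem e x

include he in
theorem t_mem_eG : t ∈ eG e := by
  refine ⟨el zCode, mem_eC.2 ?_, incl_z e he⟩
  rw [el_val (by norm_num [zCode]), fourCodes]
  exact List.mem_cons_of_mem _ List.mem_cons_self

include he ht hp in
theorem zType_iff (x : Cen splitTab) : IsConj t (incl e x) ↔ x ∈ eC ∧ x ≠ 1 := by
  have h1 : zMem 1 x.val = true ↔ x.val ∈ (fourCodes 0).tail := by
    rw [← eData.2.2.2.2, zMem, testBit_maskOf]
  have h2 : x = 1 ↔ x.val = 0 := ⟨fun h => by rw [h, split_one_val], fun h => Cen.ext (by rw [h, split_one_val])⟩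
  rw [zMem_val e he ht, hp, h1, mem_eC, ne_eq, h2]
  have hnd := eData.2.2.1
  rw [show fourCodes 0 = 0 :: (fourCodes 0).tail from rfl, List.nodup_cons] at hnd
  rw [show fourCodes 0 = 0 :: (fourCodes 0).tail from rfl, List.mem_cons, List.tail_cons]
  exact ⟨fun h => ⟨Or.inr h, fun h0 => hnd.1 (h0 ▸ h)⟩, fun h => h.1.resolve_left h.2⟩

include he ht hp in
theorem isConj_of_mem {v : G} (hv : v ∈ eG e) (hv1 : v ≠ 1) : IsConj t v := by
  obtain ⟨x, hx, rfl⟩ := hv
  exact (zType_iff e he ht hp x).2 ⟨hx, fun h => hv1 (by rw [h, map_one])⟩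

include he ht hp in
theorem mem_eG_of_conj {v : G} (hv : IsConj t v) (hc : Commute v t) : v ∈ eG e := by
  obtain ⟨x, rfl⟩ := exists_incl e (mem_centralizer_singleton_iff.2 hc.eq)
  exact mem_map_of_mem _ ((zType_iff e he ht hp x).1 hv).1

include he ht hp in
/-- commuting is an equivalence on the conjugates of `t` -/
theorem mem_normalizer_of_conj_mem {g : G} (hg : g * t * g⁻¹ ∈ eG e) : g ∈ normalizer (eG e : Set G) := by
  have hsub : (eG e).map (MulAut.conj g⁻¹).toMonoidHom ≤ eG e := by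
    rintro _ ⟨y, hy, rfl⟩
    show g⁻¹ * y * g⁻¹⁻¹ ∈ eG e
    by_cases hy1 : y = 1
    · rw [hy1]; simp
    refine mem_eG_of_conj e he ht hp ((isConj_of_mem e he ht hp hy hy1).trans (isConj_iff.2 ⟨g⁻¹, rfl⟩)) ?_
    show g⁻¹ * y * g⁻¹⁻¹ * t = t * (g⁻¹ * y * g⁻¹⁻¹)
    calc g⁻¹ * y * g⁻¹⁻¹ * t = g⁻¹ * (y * (g * t * g⁻¹)) * g := by group
      _ = g⁻¹ * ((g * t * g⁻¹) * y) * g := by rw [eG_comm e hy hg]
      _ = t * (g⁻¹ * y * g⁻¹⁻¹) := by group
  have heq := eq_of_le_of_card_ge hsub (by rw [card_map_of_injective (MulEquiv.injective _)])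
  refine (inv_mem_iff).1 (Subgroup.mem_normalizer_iff.2 fun v => ?_)
  constructor
  · intro hv; rw [← heq]; exact ⟨v, hv, rfl⟩
  · intro hv
    rw [← heq] at hv
    obtain ⟨w, hw, hwv⟩ := hv
    have h1 : g⁻¹ * w * g⁻¹⁻¹ = g⁻¹ * v * g⁻¹⁻¹ := hwv
    exact (mul_left_cancel (mul_right_cancel h1)) ▸ hw

include he ht hp in
theorem cent_le_normalizer : centralizer ({t} : Set G) ≤ normalizer (eG e : Set G) := fun g hg =>
  mem_normalizer_of_conj_mem e he ht hp (by
    rw [mul_inv_eq_iff_eq_mul.2 (mem_centralizer_singleton_iff.1 hg)]; exact t_mem_eG e he)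

include he ht hp in
theorem exists_normalizer_fuse {v : G} (hv : v ∈ eG e) (hv1 : v ≠ 1) :
    ∃ g ∈ normalizer (eG e : Set G), g * t * g⁻¹ = v := by
  obtain ⟨g, hg⟩ := isConj_iff.1 (isConj_of_mem e he ht hp hv hv1)
  exact ⟨g, mem_normalizer_of_conj_mem e he ht hp (hg ▸ hv), hg⟩

include he ht hp in
theorem mem_eG_of_normalizes {y : G} (hy : IsConj t y) (hyN : y ∈ normalizer (eG e : Set G)) : y ∈ eG e := by
  obtain ⟨k, hk⟩ := isConj_iff.1 hy
  have hyo : orderOf y = 2 := hk ▸ invol_conj ht k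
  obtain ⟨x, hx, hx1, hxy⟩ : ∃ x ∈ eG e, x ≠ 1 ∧ Commute y x := by
    have hct : y * t * y⁻¹ ∈ eG e := (Subgroup.mem_normalizer_iff.1 hyN t).1 (t_mem_eG e he)
    by_cases h0 : y * t * y⁻¹ = t
    · exact ⟨t, t_mem_eG e he, invol_ne_one ht, mul_inv_eq_iff_eq_mul.1 h0⟩
    refine ⟨t * (y * t * y⁻¹), mul_mem (t_mem_eG e he) hct, fun h => h0 ?_, mul_inv_eq_iff_eq_mul.1 ?_⟩
    · rw [eq_inv_of_mul_eq_one_right h, invol_inv ht]
    · calc y * (t * (y * t * y⁻¹)) * y⁻¹ = (y * t * y⁻¹) * ((y * y) * t * (y * y)⁻¹) := by group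
        _ = (y * t * y⁻¹) * t := by rw [invol_mul_self hyo]; group
        _ = t * (y * t * y⁻¹) := eG_comm e hct (t_mem_eG e he)
  obtain ⟨g, hg, hgx⟩ := exists_normalizer_fuse e he ht hp hx hx1
  have h1 : g⁻¹ * y * g⁻¹⁻¹ ∈ eG e := by
    refine mem_eG_of_conj e he ht hp (hy.trans (isConj_iff.2 ⟨g⁻¹, rfl⟩)) ?_
    show g⁻¹ * y * g⁻¹⁻¹ * t = t * (g⁻¹ * y * g⁻¹⁻¹)
    calc g⁻¹ * y * g⁻¹⁻¹ * t = g⁻¹ * (y * (g * t * g⁻¹)) * g := by group
      _ = g⁻¹ * ((g * t * g⁻¹) * y) * g := by rw [hgx, hxy.eq]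
      _ = t * (g⁻¹ * y * g⁻¹⁻¹) := by group
  exact (Subgroup.mem_normalizer_iff.1 (inv_mem hg) y).2 h1

include he ht hp in
theorem crit : Crit (normalizer (eG e : Set G)) t where
  invol := ht
  mem := cent_le_normalizer e he ht hp (mem_centralizer_singleton_iff.2 rfl)
  sylow := by
    refine Nat.not_even_iff_odd.1 fun hev => not_dvd_card e he ht ?_
    rw [← (centralizer ({t} : Set G)).index_mul_card, ← Nat.card_congr e.toEquiv, Cen.natCard]
    obtain ⟨k, hk⟩ := hev
    exact ⟨k * 21, by rw [hk]; ring⟩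
  fuse g hg := mem_normalizer_of_conj_mem e he ht hp
    (mem_eG_of_normalizes e he ht hp (isConj_iff.2 ⟨g, rfl⟩) hg)
  prod g hc hne := by
    have hu : g * t * g⁻¹ ∈ eG e := mem_eG_of_conj e he ht hp (isConj_iff.2 ⟨g, rfl⟩) hc.symm
    have hne1 : t * (g * t * g⁻¹) ≠ 1 := fun h => hne (by rw [eq_inv_of_mul_eq_one_right h, invol_inv ht])
    obtain ⟨k, hk, hkt⟩ := exists_normalizer_fuse e he ht hp (mul_mem (t_mem_eG e he) hu) hne1
    intro c hc'
    have h1 : k⁻¹ * c * k ∈ centralizer ({t} : Set G) := by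
      rw [mem_centralizer_singleton_iff]
      calc k⁻¹ * c * k * t = k⁻¹ * (c * (k * t * k⁻¹)) * k := by group
        _ = k⁻¹ * ((k * t * k⁻¹) * c) * k := by rw [hkt, mem_centralizer_singleton_iff.1 hc']
        _ = t * (k⁻¹ * c * k) := by group
    have h2 := mul_mem (mul_mem hk (cent_le_normalizer e he ht hp h1)) (inv_mem hk)
    rwa [show k * (k⁻¹ * c * k) * k⁻¹ = c by group] at h2

include he in
/-- the centraliser of `E` is `E` -/
theorem mem_eG_of_centralizes {g : G} (hg : ∀ v ∈ eG e, g * v = v * g) : g ∈ eG e := by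
  obtain ⟨x, rfl⟩ := exists_incl e (mem_centralizer_singleton_iff.2 (hg t (t_mem_eG e he)))
  exact mem_map_of_mem _ (mem_eC_of_commute fun v hv => incl_injective e (by
    rw [map_mul, map_mul]; exact hg _ (mem_map_of_mem _ hv)))

include he ht hp in
theorem card_normalizer_eG : Nat.card (normalizer (eG e : Set G)) = 322560 := by
  classical
  have h15 : Nat.card {v : eG e // v ≠ 1} = 15 := by
    haveI := Fintype.ofFinite (eG e)
    rw [Nat.card_eq_fintype_card, Fintype.card_subtype_compl, Fintype.card_subtype_eq, ← Nat.card_eq_fintype_card,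
      card_eG]
  have hk : ∀ v : {v : eG e // v ≠ 1}, ∃ g ∈ normalizer (eG e : Set G), g * t * g⁻¹ = (v.1 : G) := fun v =>
    exists_normalizer_fuse e he ht hp v.1.2 fun h => v.2 (Subtype.ext h)
  choose k hkN hkt using hk
  let f : {v : eG e // v ≠ 1} × centralizer ({t} : Set G) → normalizer (eG e : Set G) :=
    fun p => ⟨k p.1 * p.2, mul_mem (hkN p.1) (cent_le_normalizer e he ht hp p.2.2)⟩
  have hval : ∀ p, (f p : G) * t * (f p : G)⁻¹ = (p.1.1 : G) := fun p => by
    show k p.1 * (p.2 : G) * t * (k p.1 * (p.2 : G))⁻¹ = _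
    rw [← hkt p.1]
    calc k p.1 * (p.2 : G) * t * (k p.1 * (p.2 : G))⁻¹
        = k p.1 * ((p.2 : G) * t * (p.2 : G)⁻¹) * (k p.1)⁻¹ := by group
      _ = _ := by rw [mul_inv_eq_iff_eq_mul.2 (mem_centralizer_singleton_iff.1 p.2.2)]
  have hbij : Function.Bijective f := by
    refine ⟨fun p q hpq => ?_, fun g => ?_⟩
    · have h1 : p.1 = q.1 := Subtype.ext (Subtype.ext (by rw [← hval, hpq, hval]))
      refine Prod.ext h1 (Subtype.ext ?_)
      have h2 : k p.1 * (p.2 : G) = k q.1 * (q.2 : G) := congrArg Subtype.val hpq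
      rw [h1] at h2
      exact mul_left_cancel h2
    · have hv : (g : G) * t * (g : G)⁻¹ ∈ eG e := (Subgroup.mem_normalizer_iff.1 g.2 t).1 (t_mem_eG e he)
      let v : {v : eG e // v ≠ 1} := ⟨⟨_, hv⟩, fun h => invol_ne_one ht
        (conj_eq_one_iff.1 (congrArg Subtype.val h))⟩
      refine ⟨⟨v, ⟨(k v)⁻¹ * g, mem_centralizer_singleton_iff.2 (mul_inv_eq_iff_eq_mul.1 ?_)⟩⟩,
        Subtype.ext (mul_inv_cancel_left _ _)⟩
      calc (k v)⁻¹ * g * t * ((k v)⁻¹ * g)⁻¹ = (k v)⁻¹ * ((g : G) * t * (g : G)⁻¹) * k v := by group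
        _ = (k v)⁻¹ * (v.1 : G) * k v := rfl
        _ = t := by rw [← hkt v]; group
  rw [← Nat.card_congr (Equiv.ofBijective f hbij), Nat.card_prod, h15, ← Nat.card_congr e.toEquiv, Cen.natCard]

/-- `incl` and the number of fixed points in `E` -/
theorem card_fix (y : Cen splitTab) :
    Nat.card (eG e ⊓ centralizer ({incl e y} : Set G) : Subgroup G) = fixN y.val := by
  have h1 : eG e ⊓ centralizer ({incl e y} : Set G) = (eC ⊓ centralizer ({y} : Set (Cen splitTab))).map (incl e) := by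
    ext g
    constructor
    · rintro ⟨⟨x, hx, rfl⟩, hg⟩
      exact ⟨x, ⟨hx, mem_centralizer_singleton_iff.2 (incl_injective e (by
        rw [map_mul, map_mul]; exact mem_centralizer_singleton_iff.1 hg))⟩, rfl⟩
    · rintro ⟨x, ⟨hx, hxy⟩, rfl⟩
      exact ⟨mem_map_of_mem _ hx, mem_centralizer_singleton_iff.2 (by
        rw [← map_mul, mem_centralizer_singleton_iff.1 hxy, map_mul])⟩
  rw [h1, Subgroup.card_map_of_injective (incl_injective e), fixN]
  refine card_list_subgroup _ _ (fun x => ?_) (eData.2.2.1.filter _)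
    fun n hn => four_lt (List.mem_filter.1 hn).1
  rw [Subgroup.mem_inf, mem_eC, mem_centralizer_singleton_iff, List.mem_filter, beq_iff_eq]
  exact and_congr Iff.rfl
    ⟨fun h => (congrArg Cen.val h).symm, fun h => Cen.ext (by rw [split_mul_val, split_mul_val]; exact h.symm)⟩

section Bad

variable {M : Subgroup G} (h : Crit M t)
include h

theorem smul_base {x : G} : x • ((1 : G) : G ⧸ M) = ((1 : G) : G ⧸ M) ↔ x ∈ M := by
  rw [smul_coe_eq_iff]; simp

/-- the odd core of a two point stabiliser gives elements of odd order in the centraliser of `x` -/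
theorem exists_commuting_fuse {x : G} (hx : orderOf x = 2) {q : G ⧸ M} (hq : ((1 : G) : G ⧸ M) ≠ q)
    (hxM : x ∈ M) (hxq : x • q = q) {v w : G} (hv : IsConj t v) (hw : IsConj t w) (hvM : v ∈ M) (hwM : w ∈ M)
    (hxv : Commute x v) (hxw : Commute x w) : ∃ r ∈ M, Commute x r ∧ r * v * r⁻¹ = w := by
  classical
  haveI : Fact (Nat.Prime 2) := ⟨Nat.prime_two⟩
  set p : G ⧸ M := ((1 : G) : G ⧸ M) with hp'
  set N := pairStab p q with hN
  have hxp : x • p = p := (smul_base h).2 hxM
  have hxN : x ∈ N := mem_pairStab_of_fix hxp hxq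
  haveI : (Cfsg.pPrimeCore 2 N).Characteristic := Coprime.pPrimeCore_characteristic 2
  let K : Subgroup N :=
    { carrier := {r | r ∈ Cfsg.pPrimeCore 2 N ∧ (r : G) • p = p}
      one_mem' := ⟨one_mem _, one_smul G p⟩
      mul_mem' := fun {a b} ha hb => ⟨mul_mem ha.1 hb.1, by rw [Subgroup.coe_mul, mul_smul, hb.2, ha.2]⟩
      inv_mem' := fun {a} ha => ⟨Subgroup.inv_mem _ ha.1, by rw [Subgroup.coe_inv, inv_smul_eq_iff, ha.2]⟩ }
  let S : Subgroup N := K ⊓ (centralizer ({v} : Set G)).comap N.subtype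
  have hSodd : Odd (Nat.card S) := by
    have hd : Nat.card S ∣ Nat.card (Cfsg.pPrimeCore 2 N) := card_dvd_of_le fun r hr => hr.1.1
    exact Odd.of_dvd_nat (Nat.coprime_two_right.1 (CfsgLib.PGroup.card_pPrimeCore_coprime 2)) hd
  obtain ⟨r₀, hr₀, hr₀p, -, hr₀v⟩ := h.exists_core_conj hq hv hw ((smul_base h).2 hvM) ((smul_base h).2 hwM)
  let T := {r : N // r ∈ K ∧ (r : G) * v * (r : G)⁻¹ = w}
  have hr0K : r₀ ∈ K := ⟨hr₀, hr₀p⟩
  have hcard : Nat.card T = Nat.card S := by
    refine Nat.card_congr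
      { toFun := fun r => ⟨r₀⁻¹ * r.1, K.mul_mem (K.inv_mem hr0K) r.2.1, ?_⟩
        invFun := fun s => ⟨r₀ * s.1, K.mul_mem hr0K s.2.1, ?_⟩
        left_inv := fun r => Subtype.ext (mul_inv_cancel_left _ _)
        right_inv := fun s => Subtype.ext (inv_mul_cancel_left _ _) }
    · refine mem_centralizer_singleton_iff.2 (mul_inv_eq_iff_eq_mul.1 ?_)
      show ((r₀⁻¹ * r.1 : N) : G) * v * ((r₀⁻¹ * r.1 : N) : G)⁻¹ = v
      calc ((r₀⁻¹ * r.1 : N) : G) * v * ((r₀⁻¹ * r.1 : N) : G)⁻¹
          = (r₀ : G)⁻¹ * ((r.1 : G) * v * (r.1 : G)⁻¹) * r₀ := by simp [mul_assoc]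
        _ = v := by rw [r.2.2, ← hr₀v]; group
    · have h1 : (s.1 : G) * v = v * (s.1 : G) := mem_centralizer_singleton_iff.1 s.2.2
      show ((r₀ * s.1 : N) : G) * v * ((r₀ * s.1 : N) : G)⁻¹ = w
      calc ((r₀ * s.1 : N) : G) * v * ((r₀ * s.1 : N) : G)⁻¹
          = (r₀ : G) * ((s.1 : G) * v * (s.1 : G)⁻¹) * (r₀ : G)⁻¹ := by simp [mul_assoc]
        _ = w := by rw [mul_inv_eq_iff_eq_mul.2 h1, hr₀v]
  let σ : T → T := fun r => ⟨⟨x, hxN⟩ * r.1 * (⟨x, hxN⟩ : N)⁻¹, ⟨(inferInstance :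
      (Cfsg.pPrimeCore 2 N).Normal).conj_mem _ r.2.1.1 _, by
      show (x * (r.1 : G) * x⁻¹) • p = p
      rw [invol_inv hx, mul_smul, mul_smul, hxp, r.2.1.2, hxp]⟩, by
    show x * (r.1 : G) * x⁻¹ * v * (x * (r.1 : G) * x⁻¹)⁻¹ = w
    calc x * (r.1 : G) * x⁻¹ * v * (x * (r.1 : G) * x⁻¹)⁻¹
        = x * ((r.1 : G) * (x⁻¹ * v * x) * (r.1 : G)⁻¹) * x⁻¹ := by group
      _ = x * ((r.1 : G) * v * (r.1 : G)⁻¹) * x⁻¹ := by rw [mul_assoc x⁻¹ v x, ← hxv.eq, inv_mul_cancel_left]
      _ = w := by rw [r.2.2, hxw.eq, mul_inv_cancel_right]⟩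
  have hinv : Function.Involutive σ := fun r => Subtype.ext (Subtype.ext (by
    show x * (x * (r.1 : G) * x⁻¹) * x⁻¹ = (r.1 : G)
    rw [invol_inv hx]
    calc x * (x * (r.1 : G) * x) * x = (x * x) * (r.1 : G) * (x * x) := by group
      _ = _ := by rw [invol_mul_self hx, one_mul, mul_one]))
  haveI := Fintype.ofFinite T
  obtain ⟨r, hr⟩ := Equiv.Perm.exists_fixed_point_of_prime (p := 2) (n := 1) (σ := hinv.toPerm)
    (by rw [← Nat.card_eq_fintype_card, hcard]; exact hSodd.not_two_dvd_nat)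
    (Equiv.ext fun r => by rw [pow_one, pow_two]; exact hinv r)
  have h1 : x * (r.1 : G) * x⁻¹ = (r.1 : G) := congrArg (fun r : T => (r.1 : G)) hr
  exact ⟨r.1, (smul_base h).1 r.2.1.2, mul_inv_eq_iff_eq_mul.1 h1, r.2.2⟩

end Bad

include he ht hp in
/-- an involution of `N(E)` fixing two points has four fixed points on `E` -/
theorem card_fix_of_bad {x : G} (hx : orderOf x = 2) (hxM : x ∈ normalizer (eG e : Set G))
    {q : G ⧸ normalizer (eG e : Set G)} (hq : ((1 : G) : G ⧸ normalizer (eG e : Set G)) ≠ q) (hxq : x • q = q) :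
    Nat.card (eG e ⊓ centralizer ({x} : Set G) : Subgroup G) = 4 := by
  classical
  have h := crit e he ht hp
  set E := eG e with hE
  set F := E ⊓ centralizer ({x} : Set G) with hF
  have hcj : ∀ v ∈ E, x * v * x⁻¹ ∈ E := fun v hv => (Subgroup.mem_normalizer_iff.1 hxM v).1 hv
  have hxc : ¬ ∀ v ∈ E, x * v = v * x := fun hc => hq (h.fix_unique
    (isConj_of_mem e he ht hp (mem_eG_of_centralizes e he hc) (invol_ne_one hx)) ((smul_base h).2 hxM) hxq)
  let φ : E →* E := MonoidHom.mk' (fun v => ⟨(v : G) * (x * v * x⁻¹), mul_mem v.2 (hcj v v.2)⟩) fun a b => by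
    refine Subtype.ext ?_
    show (a : G) * b * (x * ((a : G) * b) * x⁻¹) = (a : G) * (x * a * x⁻¹) * ((b : G) * (x * b * x⁻¹))
    calc (a : G) * b * (x * ((a : G) * b) * x⁻¹) = (a : G) * (((b : G) * (x * a * x⁻¹)) * (x * b * x⁻¹)) := by group
      _ = (a : G) * (((x * a * x⁻¹) * b) * (x * b * x⁻¹)) := by rw [eG_comm e b.2 (hcj a a.2)]
      _ = _ := by group
  have hker : φ.ker = F.subgroupOf E := by
    ext v
    rw [MonoidHom.mem_ker, Subgroup.mem_subgroupOf, hF, Subgroup.mem_inf, mem_centralizer_singleton_iff,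
      Subtype.ext_iff]
    show (v : G) * (x * v * x⁻¹) = 1 ↔ _
    constructor
    · intro h1
      refine ⟨v.2, (mul_inv_eq_iff_eq_mul.1 ?_).symm⟩
      rw [eq_inv_of_mul_eq_one_right h1]
      exact (eq_inv_of_mul_eq_one_left (eG_sq e v.2)).symm
    · rintro ⟨-, h1⟩
      rw [mul_inv_eq_iff_eq_mul.2 h1.symm, eG_sq e v.2]
  have hsq : ∀ v : E, x * (φ v : G) * x⁻¹ = (φ v : G) := fun v => by
    show x * ((v : G) * (x * v * x⁻¹)) * x⁻¹ = (v : G) * (x * v * x⁻¹)
    calc x * ((v : G) * (x * v * x⁻¹)) * x⁻¹ = (x * v * x⁻¹) * ((x * x) * v * (x * x)⁻¹) := by group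
      _ = (x * v * x⁻¹) * v := by rw [invol_mul_self hx]; group
      _ = _ := eG_comm e (hcj v v.2) v.2
  have hrange : φ.range = F.subgroupOf E := by
    refine le_antisymm ?_ ?_
    · rintro _ ⟨v, rfl⟩
      exact Subgroup.mem_subgroupOf.2 ⟨(φ v).2, mem_centralizer_singleton_iff.2
        (mul_inv_eq_iff_eq_mul.1 (hsq v)).symm⟩
    · intro w hw
      rw [Subgroup.mem_subgroupOf] at hw
      by_cases hw1 : w = 1
      · rw [hw1]; exact one_mem _
      obtain ⟨v, hv⟩ : ∃ v : E, φ v ≠ 1 := by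
        by_contra hc
        push Not at hc
        refine hxc fun v hv => ?_
        have h1 : (⟨v, hv⟩ : E) ∈ φ.ker := hc _
        rw [hker, Subgroup.mem_subgroupOf] at h1
        exact (mem_centralizer_singleton_iff.1 h1.2).symm
      have hcv : Commute x (φ v : G) := mul_inv_eq_iff_eq_mul.1 (hsq v)
      obtain ⟨r, hr, hxr, hrv⟩ := exists_commuting_fuse h hx hq hxM hxq
        (isConj_of_mem e he ht hp (φ v).2 fun h1 => hv (Subtype.ext h1))
        (isConj_of_mem e he ht hp w.2 fun h1 => hw1 (Subtype.ext h1))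
        (le_normalizer (φ v).2) (le_normalizer w.2) hcv
        (mem_centralizer_singleton_iff.1 hw.2).symm
      refine ⟨⟨r * v * r⁻¹, (Subgroup.mem_normalizer_iff.1 hr v).1 v.2⟩, Subtype.ext ?_⟩
      show r * (v : G) * r⁻¹ * (x * (r * (v : G) * r⁻¹) * x⁻¹) = (w : G)
      rw [← hrv]
      show _ = r * ((v : G) * (x * v * x⁻¹)) * r⁻¹
      calc r * (v : G) * r⁻¹ * (x * (r * (v : G) * r⁻¹) * x⁻¹)
          = r * (v : G) * r⁻¹ * ((x * r) * (v : G) * (x * r)⁻¹) := by group
        _ = r * (v : G) * r⁻¹ * ((r * x) * (v : G) * (r * x)⁻¹) := by rw [hxr.eq]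
        _ = _ := by group
  have h1 := φ.ker.card_eq_card_quotient_mul_card_subgroup
  rw [Nat.card_congr (QuotientGroup.quotientKerEquivRange φ).toEquiv, hrange, hker,
    Nat.card_congr (subgroupOfEquivOfLe (inf_le_left : F ≤ E)).toEquiv] at h1
  rw [hE, card_eG] at h1
  nlinarith

include he ht hp in
theorem normalizer_eG_eq_top : normalizer (eG e : Set G) = ⊤ := by
  classical
  haveI : Fact (Nat.Prime 2) := ⟨Nat.prime_two⟩
  by_contra hM
  have h := crit e he ht hp
  set M := normalizer (eG e : Set G) with hMdef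
  set p : G ⧸ M := ((1 : G) : G ⧸ M) with hp'
  have hfree : ∀ c : G, orderOf c = 2 → ∃ a : G ⧸ M, c • a ≠ a := by
    intro c hc
    by_contra hcon
    push Not at hcon
    set K := MonoidHom.ker (MulAction.toPermHom G (G ⧸ M)) with hK
    have hKfix : ∀ k ∈ K, ∀ a : G ⧸ M, k • a = a := fun k hk a => Equiv.ext_iff.1 hk a
    have hcK : c ∈ K := Equiv.ext hcon
    have hKt : ∀ v ∈ eG e, v ∈ K → v = 1 := fun v hv hvK => by
      by_contra hv1
      obtain ⟨g, hg⟩ : ∃ g, g ∉ M := by
        by_contra hh; push Not at hh; exact hM (eq_top_iff.2 fun g _ => hh g)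
      have := h.fix_unique (isConj_of_mem e he ht hp hv hv1) (hKfix v hvK p) (hKfix v hvK (g : G ⧸ M))
      rw [hp', QuotientGroup.eq, inv_one, one_mul] at this
      exact hg this
    have hcE : c ∈ eG e := mem_eG_of_centralizes e he fun v hv => by
      have hcM : c ∈ M := (smul_base h).1 (hcon p)
      have h1 : c * v * c⁻¹ * v⁻¹ ∈ eG e :=
        mul_mem ((Subgroup.mem_normalizer_iff.1 hcM v).1 hv) (inv_mem hv)
      have h2 : c * v * c⁻¹ * v⁻¹ ∈ K := by
        rw [show c * v * c⁻¹ * v⁻¹ = c * (v * c⁻¹ * v⁻¹) by group]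
        exact mul_mem hcK ((MonoidHom.normal_ker _).conj_mem _ (inv_mem hcK) v)
      exact mul_inv_eq_iff_eq_mul.1 (mul_inv_eq_one.1 (hKt _ h1 h2))
    exact invol_ne_one hc (hKt c hcE hcK)
  -- a `t`-conjugate or the number of fixed points is four
  have hgood : ∀ x ∈ M, orderOf x = 2 → ∀ a : G ⧸ M, x • a = a → a = p := by
    intro x hxM hxo a ha
    by_contra hap
    obtain ⟨d, hd, hdp, hxd⟩ := h.exists_commuting_invol hxo ((smul_base h).2 hxM)
    have hdM : d ∈ M := (smul_base h).1 hdp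
    obtain ⟨g, hg, hgd⟩ := exists_normalizer_fuse e he ht hp (mem_eG_of_normalizes e he ht hp hd hdM)
      (invol_ne_one (h.orderOf_conj hd))
    set x' := g⁻¹ * x * g with hx'
    have hx'C : x' ∈ centralizer ({t} : Set G) := by
      rw [mem_centralizer_singleton_iff, hx']
      calc g⁻¹ * x * g * t = g⁻¹ * (x * (g * t * g⁻¹)) * g := by group
        _ = g⁻¹ * ((g * t * g⁻¹) * x) * g := by rw [hgd, hxd.eq]
        _ = _ := by group
    have hx'o : orderOf x' = 2 := by
      rw [hx']; simpa using invol_conj hxo g⁻¹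
    obtain ⟨y, hy⟩ := exists_incl e hx'C
    have hx'M : x' ∈ M := cent_le_normalizer e he ht hp hx'C
    set q := g⁻¹ • a with hq
    have hqp : p ≠ q := fun hh => hap (by
      rw [eq_inv_smul_iff, (smul_base h).2 hg] at hh; exact hh.symm)
    have hx'q : x' • q = q := by
      rw [hx', hq, smul_smul, show g⁻¹ * x * g * g⁻¹ = g⁻¹ * x by group, mul_smul, ha]
    have hx'p : x' • p = p := (smul_base h).2 hx'M
    have hnt : ¬ IsConj t x' := fun hc => hqp (h.fix_unique hc hx'p hx'q)
    have hy2 : y * y = 1 := incl_injective e (by rw [map_mul, map_one, hy, invol_mul_self hx'o])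
    have hpc : ∀ {c : ℕ} {n : ℕ}, c < 7 → n ∈ classL c → ¬ IsConj t (incl e (el n)) → c ∈ [1, 2, 3, 4, 5, 6] := by
      intro c n hc hn hnot
      have hc0 : c ≠ 0 := fun h0 => hnot ((patt_iff e hc hn).2 (by rw [hp, h0]; rfl))
      simp only [List.mem_cons, List.not_mem_nil, or_false]
      omega
    rcases invol_cases y hy2 with rfl | rfl | ⟨c, hc, hyc⟩
    · rw [map_one] at hy; exact invol_ne_one hx'o hy.symm
    · exact hnt (by rw [← hy, incl_z e he])
    have hcl : c ∈ [1, 2, 3, 4, 5, 6] := hpc hc hyc (by rw [el_of_val, hy]; exact hnt)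
    have hlen : ∀ k < 7, 0 < (classL k).length := by decide +kernel
    have hrep : (classL c).getD 0 0 ∈ classL c := by
      rw [getD_get _ _ (hlen c hc)]; exact List.getElem_mem _
    obtain ⟨b, hb⟩ := isConj_iff.1 (class_isConj hc hyc : IsConj (el ((classL c).getD 0 0)) (el y.val))
    rw [el_of_val] at hb
    set r := (classL c).getD 0 0 with hr
    set u := incl e (el r) with hu
    set k := incl e b with hk
    have hku : k * u * k⁻¹ = x' := by rw [hk, hu, ← map_inv, ← map_mul, ← map_mul, hb, hy]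
    have hkM : k ∈ M := cent_le_normalizer e he ht hp (incl_mem e b)
    have huM : u ∈ M := cent_le_normalizer e he ht hp (incl_mem e _)
    have huo : orderOf u = 2 := by
      have := invol_conj hx'o k⁻¹
      rwa [show k⁻¹ * x' * k⁻¹⁻¹ = u by rw [← hku]; group] at this
    set q' := k⁻¹ • q with hq'
    have hq'p : p ≠ q' := fun hh => hqp (by
      rw [eq_inv_smul_iff, (smul_base h).2 hkM] at hh; exact hh)
    have huq : u • q' = q' := by
      rw [hq', smul_smul, show u * k⁻¹ = k⁻¹ * x' by rw [← hku]; group, mul_smul, hx'q]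
    have hfour := card_fix_of_bad e he ht hp huo huM hq'p huq
    rw [hu, card_fix, el_val (classL_lt hc hrep).1] at hfour
    have hb2 := bad_ok
    simp only [badOK, List.all_eq_true, Bool.or_eq_true, bne_iff_ne, ne_eq, List.any_eq_true, Bool.and_eq_true,
      beq_iff_eq] at hb2
    obtain ⟨c', hc', w, hw, hcomm, hne4⟩ := (hb2 c hcl).resolve_left fun hh => hh hfour
    have hc'7 : c' < 7 ∧ c' ≠ 0 := by
      simp only [List.mem_cons, List.not_mem_nil, or_false] at hc'
      omega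
    have hwlt := (classL_lt hc'7.1 hw).1
    have hwo : orderOf (incl e (el w)) = 2 := by
      rw [orderOf_injective _ (incl_injective e), invol_iff]
      obtain ⟨-, hw2, hw1, -⟩ := classL_lt hc'7.1 hw
      refine ⟨hw2, fun hh => ?_⟩
      · exact hw1 (by have := congrArg Cen.val hh; rwa [el_val hwlt, split_one_val] at this)
    have hcw : Commute u (incl e (el w)) := by
      refine Commute.map (Cen.ext ?_) (incl e)
      rw [split_mul_val, split_mul_val, el_val hwlt, el_val (classL_lt hc hrep).1]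
      exact hcomm
    have hwM : incl e (el w) ∈ M := cent_le_normalizer e he ht hp (incl_mem e _)
    have hwp := (smul_base h).2 hwM
    have hsingle : ∀ a b : G ⧸ M, incl e (el w) • a = a → incl e (el w) • b = b → a = b := by
      intro a b ha hb
      by_contra hab
      obtain ⟨o, hop, ho⟩ : ∃ o : G ⧸ M, p ≠ o ∧ incl e (el w) • o = o := by
        by_cases hpa : p = a
        · exact ⟨b, hpa ▸ hab, hb⟩
        · exact ⟨a, hpa, ha⟩
      have := card_fix_of_bad e he ht hp hwo hwM hop ho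
      rw [card_fix, el_val hwlt] at this
      exact hne4 this
    have hwt := h.isConj_of_single_fix hfree huo hq'p ((smul_base h).2 huM) huq hwo hcw hsingle
    have := (patt_iff e hc'7.1 hw).1 hwt
    rw [hp] at this
    obtain ⟨hlt, hne⟩ := hc'7
    interval_cases c' <;> first | exact hne rfl | exact absurd this (by decide)
  -- strong embedding with a further class of involutions
  obtain ⟨g, hg⟩ : ∃ g, g ∉ M := by
    by_contra hh; push Not at hh; exact hM (eq_top_iff.2 fun g _ => hh g)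
  have h192 : (192 : ℕ) ∈ classL 4 := by decide +kernel
  set y := incl e (el 192) with hy
  have hyM : y ∈ M := cent_le_normalizer e he ht hp (incl_mem e _)
  have hyo : orderOf y = 2 := by
    rw [hy, orderOf_injective _ (incl_injective e), invol_iff]
    obtain ⟨hlt, hw2, hw1, -⟩ := classL_lt (by norm_num) h192
    refine ⟨hw2, fun hh => ?_⟩
    · exact hw1 (by have := congrArg Cen.val hh; rwa [el_val hlt, split_one_val] at this)
  have hynt : ¬ IsConj t y := fun hh => by
    have := (patt_iff e (by norm_num) h192).1 hh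
    rw [hp] at this; exact absurd this (by decide)
  set x := g * t * g⁻¹ with hx
  have hxo : orderOf x = 2 := invol_conj ht g
  have heven : Even (orderOf (x * y)) := by
    by_contra hodd
    exact hynt ((isConj_iff.2 ⟨g, rfl⟩ : IsConj t x).trans
      (Invol.isConj_of_odd hxo hyo (Nat.not_even_iff_odd.1 hodd)))
  set w := (x * y) ^ (orderOf (x * y) / 2) with hw
  have hwo : orderOf w = 2 := orderOf_pow_half heven
  have hwx : Commute w x := commute_pow_half (invol_conj_mul hxo hyo) heven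
  have hwy : Commute w y := commute_pow_half (invol_conj_mul' hxo hyo) heven
  have hwg : w • (g : G ⧸ M) = (g : G ⧸ M) := h.smul_of_commute (isConj_iff.2 ⟨g, rfl⟩) hwx (h.fix_coe g)
  have hwp : w • p = p := hgood y hyM hyo _ (by
    rw [smul_smul, ← hwy.eq, mul_smul, (smul_base h).2 hyM])
  have := hgood w ((smul_base h).1 hwp) hwo _ hwg
  rw [hp', QuotientGroup.eq, mul_one] at this
  exact hg (inv_mem_iff.1 this)

include he ht hp in
theorem card_of_pattern_one : Nat.card G = 322560 := by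
  rw [← card_normalizer_eG e he ht hp, normalizer_eG_eq_top e he ht hp, Subgroup.card_top]

include he ht hp in
/-- **pattern 1 does not occur in a simple group** -/
theorem false_of_pattern_one [IsSimpleGroup G] : False := by
  rcases (Subgroup.normalizer_eq_top_iff.1 (normalizer_eG_eq_top e he ht hp)).eq_bot_or_eq_top with hb | hb
  · have := card_eG e; rw [hb, Subgroup.card_bot] at this; omega
  · have := card_eG e; rw [hb, Subgroup.card_top, card_of_pattern_one e he ht hp] at this; omega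

end CfsgLib.Spor.HeldTri
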