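import Cfsg.Agent.Lib.Spor.HeldTri.EBranchChecks

/-!
# Held's trichotomy: a complement to `E` in the Sylow group
-/

set_option autoImplicit false
set_option maxRecDepth 100000

namespace CfsgLib.Spor.HeldTri

open CfsgLib.Spor.HeldRecog CfsgLib.Spor.HeldFusion

/-- a complement to `E` in the Sylow group -/
def compList : List ℕ := sRes.flatMap fun a => (List.range 8).map fun y => 128 * a + y

theorem comp_ok : (compList.all fun x => compList.all fun y => compList.contains (mulC x y)) = true ∧
    (compList.all fun x => inS x) = true ∧ compList.contains 0 = true ∧ compList.Nodup ∧ compList.length = 64 ∧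
    ((fourCodes 0).all fun x => inS x && (x == 0 || !compList.contains x)) = true := by
  decide +kernel

end CfsgLib.Spor.HeldTri
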