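import Cfsg.Agent.Lib.Spor.HeldTri.EBranch
import Cfsg.Agent.Lib.Spor.HeldTri.EBranchIsoChecks
import Cfsg.Agent.Lib.Spor.AffineStab
import Cfsg.Agent.Lib.Coprime.Gaschutz

/-!
# Held's trichotomy: pattern 1 gives the stabiliser of a vector in `SL(5, 2)`

`E` has a complement in a Sylow 2-subgroup, so in `G` by Gaschütz, and it acts faithfully.
-/

set_option autoImplicit false
set_option linter.unusedSectionVars false
set_option linter.style.haveILetI false

namespace CfsgLib.Spor.HeldTri

open CfsgLib.Spor.HeldRecog CfsgLib.Spor.HeldFusion Subgroup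

theorem inS_eC {x : Cen splitTab} (hx : x ∈ eC) : x ∈ sylC ∧ (x.val = 0 ∨ x.val ∉ compList) := by
  have h := comp_ok.2.2.2.2.2
  simp only [List.all_eq_true, Bool.and_eq_true, Bool.or_eq_true, beq_iff_eq, Bool.not_eq_eq_eq_not,
    Bool.not_true] at h
  obtain ⟨h1, h2⟩ := h _ (mem_eC.1 hx)
  refine ⟨mem_sylC.2 h1, h2.imp_right fun h3 hm => ?_⟩
  rw [List.contains_iff_mem.2 hm] at h3
  simp at h3

theorem comp_lt {n : ℕ} (hn : n ∈ compList) : n < 21504 := by
  have h := comp_ok.2.1
  simp only [List.all_eq_true] at h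
  exact inS_lt (h n hn)

/-- the complement to `E` in the Sylow group of the centraliser -/
noncomputable def compC : Subgroup (Cen splitTab) :=
  listSub (fun n => compList.contains n) comp_ok.2.2.1 (fun _ hn => comp_lt (List.contains_iff_mem.1 hn))
    fun a b ha hb => by
      have h := comp_ok.1
      simp only [List.all_eq_true, List.contains_iff_mem] at h ha hb ⊢
      exact h a ha b hb

theorem mem_compC {x : Cen splitTab} : x ∈ compC ↔ x.val ∈ compList := List.contains_iff_mem

theorem compC_facts : compC ≤ sylC ∧ compC ⊓ eC = ⊥ ∧ Nat.card compC = 64 := by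
  refine ⟨fun x hx => mem_sylC.2 ?_, eq_bot_iff.2 fun x hx => ?_, ?_⟩
  · have h := comp_ok.2.1
    simp only [List.all_eq_true] at h
    exact h _ (mem_compC.1 hx)
  · obtain ⟨h1, h2⟩ := hx
    rcases (inS_eC h2).2 with h0 | h0
    · exact Cen.ext (h0.trans split_one_val.symm)
    · exact absurd (mem_compC.1 h1) h0
  · rw [card_list_subgroup compC compList (fun x => mem_compC) comp_ok.2.2.2.1 (fun n hn => comp_lt hn),
      comp_ok.2.2.2.2.1]

variable {G : Type*} [Group G] [Finite G] {t : G}
variable (e : Cen splitTab ≃* centralizer ({t} : Set G)) (he : ((e ⟨64, by norm_num⟩ : _) : G) = t)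
  (ht : orderOf t = 2) (hp : patt e = 1)

include he ht hp in
/-- **pattern 1 gives the stabiliser of a vector** -/
theorem stabilizer_of_pattern_one : ∃ v : Fin 5 → ZMod 2, v ≠ 0 ∧
    Nonempty (G ≃* MulAction.stabilizer (Matrix.SpecialLinearGroup (Fin 5) (ZMod 2)) v) := by
  haveI hn : (eG e).Normal := Subgroup.normalizer_eq_top_iff.1 (normalizer_eG_eq_top e he ht hp)
  haveI hcomm : IsMulCommutative (eG e) := ⟨⟨fun a b => Subtype.ext (eG_comm e a.2 b.2)⟩⟩
  have hG := card_of_pattern_one e he ht hp
  set U := sylT e with hU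
  set A := compC.map (incl e) with hA
  have hEU : eG e ≤ U := map_mono fun x hx => (inS_eC hx).1
  have hAU : A ≤ U := map_mono compC_facts.1
  have hinf : A ⊓ eG e = ⊥ := by
    rw [hA, eG, ← map_inf _ _ _ (incl_injective e), compC_facts.2.1, Subgroup.map_bot]
  have hsup : eG e ⊔ A = U := by
    refine eq_of_le_of_card_ge (sup_le hEU hAU) ?_
    have hle : Nat.card (eG e × A) ≤ Nat.card (eG e ⊔ A : Subgroup G) :=
      Nat.card_le_card_of_injective
        (fun p => (⟨p.1.1 * p.2.1, mul_mem (mem_sup_left p.1.2) (mem_sup_right p.2.2)⟩ :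
          (eG e ⊔ A : Subgroup G)))
        fun p q hpq => Subgroup.mul_injective_of_disjoint (disjoint_iff.2 ((inf_comm (eG e) A).trans hinf))
          (congrArg Subtype.val hpq :)
    rw [hU, card_sylT]
    rw [Nat.card_prod, card_eG, hA, Subgroup.card_map_of_injective (incl_injective e), compC_facts.2.2] at hle
    exact hle
  have D : CfsgLib.Coprime.GzData (eG e) U A := ⟨hAU, hinf, hsup⟩
  have hidx : U.index = 315 := by
    have h := U.index_mul_card
    rw [hU, card_sylT, hG] at h
    rw [hU]
    omega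
  obtain ⟨M, hM⟩ := CfsgLib.Coprime.gaschutz_exists D (by rw [card_eG, hidx]; norm_num)
  have hcardM : Nat.card M = 20160 := by
    have h := hM.card_mul_card
    rw [card_eG, hG] at h
    omega
  refine CfsgLib.Spor.Affine.nonempty_equiv_stabilizer (eG e) M
    ⟨hcomm, fun u hu => by rw [pow_two]; exact eG_sq e hu⟩ (card_eG e) hM hcardM fun m hm hfix => ?_
  have hmE : m ∈ eG e := mem_eG_of_centralizes e he fun v hv => mul_inv_eq_iff_eq_mul.1 (hfix v hv)
  exact Subgroup.disjoint_def.1 hM.disjoint hmE hm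

end CfsgLib.Spor.HeldTri
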