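import Cfsg.Agent.Lib.Spor.HeldTri.NodeChecks
import Cfsg.Agent.Lib.Spor.HeldFusion.OtherTools

/-!
# Held's trichotomy: checks on the four-group of the pattern of He
-/

set_option autoImplicit false
set_option maxRecDepth 100000

namespace CfsgLib.Spor.HeldTri

open CfsgLib.Spor.HeldRecog CfsgLib.Spor.HeldFusion

/-- the four-group -/
def vList : List ℕ := [0, 97, 161, 192]

/-- a code centralises the four-group -/
noncomputable def vComm (w : ℕ) : Bool := vList.all fun a => mulC a w == mulC w a

theorem v_node : nodeL oneOhSevenNodes 1 = vList := by decide

theorem v_short : oneOhSevenNodes.all (fun N => decide (N.L.length ≤ 4)) = true := by decide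

theorem v_label : (vList.all fun a => !zMem 107 (mulC zCode a) ||
    vList.any (fun q => zMem 107 (mulC (mulC zCode a) q) != zMem 107 (mulC zCode q)) || a == 0) = true := by
  decide +kernel

theorem v_cover : (allCodes.all fun w => !vComm w || vList.contains w || !vList.contains (mulC w w) ||
    vList.any fun a => zMem 107 (mulC w a)) = true := by decide +kernel

theorem v_card : (allCodes.filter vComm).length = 256 := by decide +kernel

theorem v_witness : (vComm 2 && vComm 16 && mulC 2 2 == 0 && !vList.contains 2 &&
    !vList.contains (mulC (mulC (mulC 2 16) 2) (splitTab.inverse 16))) = true := by decide +kernel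

end CfsgLib.Spor.HeldTri
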