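import Cfsg.Agent.Lib.Spor.HeldTri.Generic
import Cfsg.Agent.Lib.Spor.HeldTri.CentSixtyFour
import Cfsg.Agent.Lib.Spor.HeldTri.FourChecks
import Mathlib.GroupTheory.QuotientGroup.Basic

/-!
# Held's trichotomy: the four-group of the pattern of He

`{1, q, b, b'}` has no separating labels; its centraliser modulo itself has one class of involutions with a
centraliser of order 64 in the image of `gen0`, so lies in `gen0`.
-/

set_option autoImplicit false
set_option linter.unusedSectionVars false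
set_option linter.style.haveILetI false
set_option maxRecDepth 100000

namespace CfsgLib.Spor.HeldTri

open CfsgLib.Spor.HeldRecog CfsgLib.Spor.HeldFusion Subgroup CfsgLib.Invol

theorem card_map_quot {W : Type*} [Group W] [Finite W] (N L : Subgroup W) [N.Normal] :
    Nat.card L = Nat.card (L.map (QuotientGroup.mk' N)) * Nat.card (L ⊓ N : Subgroup W) := by
  have h1 := card_eq_card_quotient_mul_card_subgroup ((QuotientGroup.mk' N).comp L.subtype).ker
  rwa [Nat.card_congr (QuotientGroup.quotientKerEquivRange _).toEquiv, MonoidHom.range_comp,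
    Subgroup.range_subtype, ← MonoidHom.comap_ker, QuotientGroup.ker_mk',
    ← Subgroup.card_map_of_injective (K := N.comap L.subtype) L.subtype_injective,
    Subgroup.map_comap_eq, Subgroup.range_subtype] at h1

variable {G : Type*} [Group G] [Finite G] {t : G}
variable (e : Cen splitTab ≃* centralizer ({t} : Set G)) (he : ((e ⟨64, by norm_num⟩ : _) : G) = t)
  (ht : orderOf t = 2)

include he ht in
/-- **the four-group is good** -/
theorem good_four (hm : patt e = 107) (hctl : Ctl t (gen0 e)) : Good (gen0 e) (nodeG e vList) := by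
  classical
  have h : ListOK (patt e) oneOhSevenNodes oneOhSevenWit := hm.symm ▸ oneOhSeven_ok
  have hi : 1 < oneOhSevenNodes.length := by decide
  have hshape : (oneOhSevenNodes.getD 1 ⟨[], 0, 0, []⟩).shapeOK (patt e) = true := node_shape h hi
  have hLv : ∀ {q : ℕ}, q ∈ vList → q ∈ (oneOhSevenNodes.getD 1 ⟨[], 0, 0, []⟩).L := fun {q} hq => by
    have hv := v_node
    rw [← hv] at hq
    exact hq
  intro g hg
  by_contra hgG
  obtain ⟨V, hVdef⟩ : ∃ V, V = nodeG e vList := ⟨_, rfl⟩
  rw [← hVdef] at hg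
  have hVn : V = nodeG e (nodeL oneOhSevenNodes 1) := by rw [hVdef, v_node]
  have hP : Pure t V := hVn ▸ pure_nodeG e he ht hshape
  have hVC : V ≤ centralizer ({t} : Set G) := by
    rw [hVdef]; rintro _ ⟨x, -, rfl⟩; exact incl_mem e x
  have hVG : V ≤ gen0 e := hVC.trans (cent_le_gen0 e)
  obtain ⟨eo, heo, heG, heP⟩ := hctl.exists_outside (hctl.pGroup_of_pure hP) hg hgG
  set W := centralizer (V : Set G) with hW
  have hWc : ∀ {x : G}, x ∈ W ↔ ∀ p ∈ V, Commute x p := fun {x} =>
    ⟨fun hx p hp => (mem_centralizer_iff.1 hx p hp).symm, fun hx => mem_centralizer_iff.2 fun p hp => (hx p hp).eq.symm⟩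
  have hVW : V ≤ W := fun x hx => hWc.2 fun p hp => hP.comm hx hp
  have hVinv : ∀ p ∈ V, p * p = 1 := hP.sq
  -- conjugates of `t` inside and outside
  have hlab : ∀ d f : G, IsConj t d → d ∈ gen0 e → d ∈ W → IsConj t f → f ∉ gen0 e → f ∈ W →
      ∃ p ∈ V, ∃ k ∈ W, k * f * k⁻¹ = d * p := by
    intro d f hd hdG hdW hf hfG hfW
    obtain ⟨p, hp, -, k, hk, hkf⟩ := hctl.label hP hd hdG hf hfG (hWc.1 hdW) (hWc.1 hfW)
      fun w hwo hwP hwc hwd hdw hnone => by
        obtain ⟨j, hj, hlt, -⟩ := exists_larger e he ht h hctl hi hd hdG (fun x hx => hWc.1 hdW x (hVn ▸ hx))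
          hwo (fun hx => hwP (hVn ▸ hx)) (fun x hx => hwc x (hVn ▸ hx)) hwd hdw (fun x hx => hnone x (hVn ▸ hx))
        have h4 := List.all_eq_true.1 v_short _ (node_mem (ns := oneOhSevenNodes) j hj)
        have h4' : (nodeL oneOhSevenNodes j).length ≤ 4 := of_decide_eq_true h4
        rw [v_node] at hlt
        have h5 : vList.length = 4 := rfl
        omega
    exact ⟨p, hp, k, hWc.2 hk, hkf⟩
  have heW : eo ∈ W := hWc.2 heP
  have htW : t ∈ W := hWc.2 fun p hp => (mem_centralizer_singleton_iff.1 (hVC hp)).symm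
  obtain ⟨p₀, hp₀, k₀, hk₀, hk₀e⟩ := hlab t eo (IsConj.refl t) hctl.mem htW heo heG heW
  have hk₀G : k₀ ∉ gen0 e := fun hk => heG (by
    rw [show eo = k₀⁻¹ * (t * p₀) * k₀ by rw [← hk₀e]; group]
    exact mul_mem (mul_mem (inv_mem hk) (mul_mem hctl.mem (hVG hp₀))) hk)
  have hconj : ∀ u ∈ W, IsConj t u → u ∈ gen0 e → ∃ k ∈ W, ∃ p ∈ V, k * t * k⁻¹ = u * p := by
    intro u huW hut huG
    obtain ⟨p, hp, k, hk, hke⟩ := hlab u eo hut huG huW heo heG heW
    refine ⟨k * k₀⁻¹, mul_mem hk (inv_mem hk₀), p * p₀, mul_mem hp hp₀, ?_⟩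
    have hc : Commute (k * k₀⁻¹) p₀ := hWc.1 (mul_mem hk (inv_mem hk₀)) p₀ hp₀
    have h2 : k * k₀⁻¹ * (t * p₀) * (k * k₀⁻¹)⁻¹ = u * p := by rw [← hk₀e, ← hke]; group
    calc k * k₀⁻¹ * t * (k * k₀⁻¹)⁻¹
        = k * k₀⁻¹ * (t * p₀) * (k * k₀⁻¹)⁻¹ * (k * k₀⁻¹ * p₀ * (k * k₀⁻¹)⁻¹)⁻¹ := by group
      _ = u * p * p₀ := by
        rw [h2, hc.eq, mul_inv_cancel_right, inv_eq_of_mul_eq_one_left (hVinv p₀ hp₀)]
      _ = u * (p * p₀) := mul_assoc _ _ _
  -- labels separate the coset of `t`
  have hA : ∀ k ∈ W, ∀ p ∈ V, k * t * k⁻¹ = t * p → Commute k t := by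
    intro k hk p hp hkt
    have hp1 : p = 1 := by
      rw [hVn] at hp
      obtain ⟨a, ha, rfl⟩ := nodeG_cases e hshape hp
      have hlt := ((shape_facts hshape).2.2.1 a ha).1
      have hl := v_label
      simp only [List.all_eq_true, Bool.or_eq_true, Bool.not_eq_eq_eq_not, Bool.not_true, List.any_eq_true,
        bne_iff_ne, beq_iff_eq] at hl
      have hz : (zCode : ℕ) < 21504 := by norm_num [zCode]
      have ha' : a ∈ vList := v_node ▸ ha
      rcases hl a ha' with (h0 | ⟨q, hq, hne⟩) | h0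
      · exfalso
        have h1 : IsConj t (incl e (el (mulC zCode a))) := by
          rw [el_mul hz hlt, map_mul, incl_z e he, ← hkt]; exact isConj_iff.2 ⟨k, rfl⟩
        rw [zMem_el e he ht (mulC_lt hz hlt), hm, h0] at h1
        exact Bool.false_ne_true h1
      · refine absurd (Bool.eq_iff_iff.2 ?_) hne
        have hql := ((shape_facts hshape).2.2.1 q (hLv hq)).1
        have hqV : incl e (el q) ∈ V := hVn ▸ el_mem_nodeG e hshape (hLv hq)
        rw [← hm, ← zMem_el e he ht (mulC_lt (mulC_lt hz hlt) hql), ← zMem_el e he ht (mulC_lt hz hql),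
          el_mul (mulC_lt hz hlt) hql, el_mul hz hlt, el_mul hz hql, map_mul, map_mul, map_mul, incl_z e he, ← hkt]
        have hc : Commute k (incl e (el q)) := hWc.1 hk _ hqV
        have e1 : k * t * k⁻¹ * incl e (el q) = k * (t * incl e (el q)) * k⁻¹ := by
          rw [mul_assoc (k * t), hc.inv_left.eq]; group
        rw [e1]
        exact ⟨fun h' => h'.trans (isConj_iff.2 ⟨k, rfl⟩).symm, fun h' => h'.trans (isConj_iff.2 ⟨k, rfl⟩)⟩
      · rw [h0, el_zero, map_one]
    rw [hp1, mul_one] at hkt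
    exact mul_inv_eq_iff_eq_mul.1 hkt
  -- the quotient
  set N := V.subgroupOf W with hN
  haveI : N.Normal := ⟨fun x hx y => by
    rw [mem_subgroupOf] at hx ⊢
    rwa [Subgroup.coe_mul, Subgroup.coe_mul, InvMemClass.coe_inv, (hWc.1 y.2 _ hx).eq, mul_inv_cancel_right]⟩
  set π := QuotientGroup.mk' N with hπ
  have hπeq : ∀ x y : W, π x = π y ↔ ∃ p ∈ V, (y : G) = (x : G) * p := fun x y => by
    rw [hπ, QuotientGroup.mk'_apply, QuotientGroup.mk'_apply, QuotientGroup.eq, mem_subgroupOf]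
    exact ⟨fun hm' => ⟨_, hm', by simp⟩, fun ⟨p, hp, hp'⟩ => by simpa [hp'] using hp⟩
  set tz : W := ⟨t, htW⟩ with htz
  set K := ((gen0 e).subgroupOf W).map π with hK
  have hKmem : ∀ x : W, π x ∈ K ↔ (x : G) ∈ gen0 e := by
    refine fun x => ⟨fun hx => ?_, fun hx => ⟨x, hx, rfl⟩⟩
    obtain ⟨y, hy, hxy⟩ := hx
    obtain ⟨p, hp, hp'⟩ := (hπeq y x).1 hxy
    rw [hp']
    exact mul_mem hy (hVG hp)
  have hcent : centralizer ({π tz} : Set (W ⧸ N)) = ((centralizer ({t} : Set G)).subgroupOf W).map π := by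
    refine le_antisymm (fun x hx => ?_) ?_
    · obtain ⟨x, rfl⟩ := QuotientGroup.mk'_surjective N x
      have h1 : π x * π tz * (π x)⁻¹ = π tz := mul_inv_eq_iff_eq_mul.2 (mem_centralizer_singleton_iff.1 hx)
      rw [← map_inv, ← map_mul, ← map_mul, eq_comm, hπeq] at h1
      obtain ⟨p, hp, hp'⟩ := h1
      exact ⟨x, mem_centralizer_singleton_iff.2 (hA x x.2 p hp (by simpa using hp')).eq, rfl⟩
    · rintro _ ⟨x, hx, rfl⟩
      refine mem_centralizer_singleton_iff.2 ?_
      rw [← map_mul, ← map_mul]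
      exact congrArg π (Subtype.ext (mem_centralizer_singleton_iff.1 hx))
  have hvC : ∀ {a : ℕ}, a ∈ vList → a < 21504 ∧ incl e (el a) ∈ V := fun {a} ha =>
    ⟨((shape_facts hshape).2.2.1 a (hLv ha)).1, hVn ▸ el_mem_nodeG e hshape (hLv ha)⟩
  have hvmem : ∀ x : Cen splitTab, incl e x ∈ V → x.val ∈ vList := fun x hx => by
    rw [hVn] at hx
    obtain ⟨a, ha, hax⟩ := nodeG_cases e hshape hx
    rw [← incl_injective e hax, el_val ((shape_facts hshape).2.2.1 a ha).1]
    exact v_node ▸ ha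
  have hvcomm : ∀ x : Cen splitTab, incl e x ∈ W ↔ vComm x.val = true := by
    intro x
    simp only [vComm, List.all_eq_true, beq_iff_eq, hWc]
    refine ⟨fun hx a ha => ?_, fun hx p hp => ?_⟩
    · have h1 : el a * x = x * el a := incl_injective e (by rw [map_mul, map_mul]; exact (hx _ (hvC ha).2).eq.symm)
      have h2 := congrArg Cen.val h1
      rwa [split_mul_val, split_mul_val, el_val (hvC ha).1] at h2
    · rw [hVn] at hp
      obtain ⟨a, ha, rfl⟩ := nodeG_cases e hshape hp
      show _ = _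
      rw [← map_mul, ← map_mul]
      refine congrArg (incl e) (Cen.ext ?_)
      rw [split_mul_val, split_mul_val, el_val (hvC (v_node ▸ ha)).1]
      exact (hx a (v_node ▸ ha)).symm
  have hC256 : Nat.card ((centralizer ({t} : Set G)).subgroupOf W) = 256 := by
    rw [← v_card, ← card_list_subgroup (W.comap (incl e)) (allCodes.filter vComm)
      (fun x => by rw [mem_comap, hvcomm, List.mem_filter, and_iff_right (mem_allCodes.2 x.lt)])
      (allCodes_nodup.filter _) fun a ha => mem_allCodes.1 (List.mem_filter.1 ha).1]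
    refine (Nat.card_eq_of_bijective (fun x : W.comap (incl e) =>
      (⟨⟨incl e x.1, x.2⟩, mem_subgroupOf.2 (incl_mem e x.1)⟩ : (centralizer ({t} : Set G)).subgroupOf W))
      ⟨fun a b hab => Subtype.ext (incl_injective e (congrArg (fun z => ((z.1 : W) : G)) hab :)), fun x => ?_⟩).symm
    obtain ⟨y, hy⟩ := exists_incl e (mem_subgroupOf.1 x.2)
    exact ⟨⟨y, by rw [mem_comap, hy]; exact x.1.2⟩, Subtype.ext (Subtype.ext hy)⟩
  have hN4 : Nat.card N = 4 := by
    rw [hN, Nat.card_congr (subgroupOfEquivOfLe hVW).toEquiv, hVn, card_nodeG e hshape]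
    exact congrArg List.length v_node
  have hz2 : orderOf (π tz) = 2 := by
    rw [invol_iff, ← map_mul]
    refine ⟨by rw [show tz * tz = 1 from Subtype.ext (invol_mul_self ht), map_one], fun h1 => ?_⟩
    rw [← map_one π, eq_comm, hπeq] at h1
    obtain ⟨p, hp, hp'⟩ := h1
    rw [show ((tz : W) : G) = t from rfl, OneMemClass.coe_one, one_mul] at hp'
    exact hP.none p hp (hp' ▸ IsConj.refl t)
  have hclass2 : ∀ x : W, orderOf (π x) = 2 → Commute (π x) (π tz) →
      ∃ u : W, IsConj t (u : G) ∧ (u : G) ∈ gen0 e ∧ π u = π x := by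
    intro x hxo hxc
    have hx : π x ∈ centralizer ({π tz} : Set (W ⧸ N)) := mem_centralizer_singleton_iff.2 hxc.eq
    rw [hcent] at hx
    obtain ⟨y, hy, hyx⟩ := hx
    obtain ⟨v, hv⟩ := exists_incl e (mem_subgroupOf.1 hy)
    have hcov := v_cover
    simp only [List.all_eq_true, Bool.or_eq_true, Bool.not_eq_eq_eq_not, Bool.not_true,
      List.contains_eq_mem, decide_eq_false_iff_not, List.any_eq_true] at hcov
    have hyW : incl e v ∈ W := hv ▸ y.2
    rcases hcov v.val (mem_allCodes.2 v.lt) with ((h0 | h0) | h0) | ⟨a, ha, haz⟩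
    · rw [(hvcomm v).1 hyW] at h0
      exact absurd h0 Bool.noConfusion
    · exfalso
      refine invol_ne_one hxo ?_
      rw [← hyx, ← map_one π, eq_comm, hπeq]
      exact ⟨incl e v, by rw [← el_of_val v]; exact (hvC (of_decide_eq_true h0)).2, by rw [OneMemClass.coe_one, one_mul]; exact hv.symm⟩
    · refine absurd ?_ h0
      have h1 : π (y * y) = π 1 := by rw [map_mul, hyx, map_one, invol_mul_self hxo]
      obtain ⟨p, hp, hp'⟩ := (hπeq 1 (y * y)).1 h1.symm
      rw [OneMemClass.coe_one, one_mul, Subgroup.coe_mul, ← hv, ← map_mul] at hp'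
      have := hvmem _ (hp' ▸ hp)
      rwa [split_mul_val] at this
    · refine ⟨⟨incl e (v * el a), (map_mul (incl e) v (el a)).symm ▸ mul_mem hyW (hVW (hvC ha).2)⟩,
        ?_, cent_le_gen0 e (incl_mem e _), ?_⟩
      · show IsConj t (incl e (v * el a))
        rw [zMem_val e he ht, hm, split_mul_val, el_val (hvC ha).1]
        exact haz
      · rw [← hyx, eq_comm, hπeq]
        exact ⟨incl e (el a), (hvC ha).2, (map_mul (incl e) v (el a)).trans (congrArg (· * incl e (el a)) hv)⟩
  have hclassU : ∀ u : W, IsConj t (u : G) → (u : G) ∈ gen0 e → IsConj (π tz) (π u) := by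
    intro u hut huG
    obtain ⟨k, hk, p, hp, hkp⟩ := hconj u u.2 hut huG
    refine isConj_iff.2 ⟨π ⟨k, hk⟩, ?_⟩
    rw [← map_inv, ← map_mul, ← map_mul, eq_comm, hπeq]
    exact ⟨p, hp, hkp⟩
  have hclass : ∀ x : W ⧸ N, orderOf x = 2 → IsConj (π tz) x := by
    intro x hxo
    obtain ⟨x, rfl⟩ := QuotientGroup.mk'_surjective N x
    by_cases hodd : Odd (orderOf (π tz * π x))
    · exact isConj_of_odd hz2 hxo hodd
    have heven := Nat.not_odd_iff_even.1 hodd
    set w := (π tz * π x) ^ (orderOf (π tz * π x) / 2) with hw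
    obtain ⟨w', hw'⟩ := QuotientGroup.mk'_surjective N w
    have hwo : orderOf (π w') = 2 := hw' ▸ orderOf_pow_half heven
    have hwz : Commute (π w') (π tz) := hw' ▸ commute_pow_half (invol_conj_mul hz2 hxo) heven
    have hwx : Commute (π w') (π x) := hw' ▸ commute_pow_half (invol_conj_mul' hz2 hxo) heven
    obtain ⟨u, hut, huG, huw⟩ := hclass2 w' hwo hwz
    obtain ⟨k, hk⟩ := isConj_iff.1 (hclassU u hut huG)
    rw [huw] at hk
    obtain ⟨k', hk'⟩ := QuotientGroup.mk'_surjective N k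
    have hxz : Commute (π (k'⁻¹ * x * k')) (π tz) := by
      rw [map_mul, map_mul, map_inv, show π k' = k from hk']
      have h1 := hwx.symm.map (MulAut.conj k⁻¹).toMonoidHom
      rwa [show (MulAut.conj k⁻¹).toMonoidHom (π x) = k⁻¹ * π x * k by simp,
        show (MulAut.conj k⁻¹).toMonoidHom (π w') = π tz by rw [← hk]; simp [mul_assoc]] at h1
    have hxo' : orderOf (π (k'⁻¹ * x * k')) = 2 := by
      have := invol_conj hxo (π k')⁻¹
      rwa [inv_inv, ← map_inv, ← map_mul, ← map_mul] at this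
    obtain ⟨u', hut', huG', huw'⟩ := hclass2 _ hxo' hxz
    have h2 := hclassU u' hut' huG'
    rw [huw'] at h2
    exact h2.trans (isConj_iff.2 ⟨π k', by rw [map_mul, map_mul, map_inv]; group; rfl⟩)
  have hfuse : ∀ x : W ⧸ N, x * π tz * x⁻¹ ∈ K → x ∈ K := by
    intro x hx
    obtain ⟨x, rfl⟩ := QuotientGroup.mk'_surjective N x
    rw [← map_inv, ← map_mul, ← map_mul, hKmem] at hx
    exact (hKmem x).2 (hctl.fuse x (by simpa using hx))
  have hcentK : centralizer ({π tz} : Set (W ⧸ N)) ≤ K := by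
    rw [hcent]
    exact map_mono fun x hx => cent_le_gen0 e hx
  have hcard : Nat.card (centralizer ({π tz} : Set (W ⧸ N))) = 64 := by
    rw [hcent]
    have h1 := card_map_quot N ((centralizer ({t} : Set G)).subgroupOf W)
    rw [hC256, inf_eq_right.2 (fun x hx => mem_subgroupOf.2 (hVC (mem_subgroupOf.1 hx))), hN4, ← hπ] at h1
    omega
  have hy : ∃ y ∈ centralizer ({π tz} : Set (W ⧸ N)), orderOf y = 2 ∧
      ∃ s ∈ centralizer ({π tz} : Set (W ⧸ N)), ¬ Commute y s := by
    have hwit := v_witness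
    simp only [Bool.and_eq_true, beq_iff_eq, Bool.not_eq_eq_eq_not, Bool.not_true, List.contains_eq_mem,
      decide_eq_false_iff_not] at hwit
    obtain ⟨⟨⟨⟨hy2, hs2⟩, hsq⟩, hyV⟩, hcomm⟩ := hwit
    have l2 : (2 : ℕ) < 21504 := by norm_num
    have l16 : (16 : ℕ) < 21504 := by norm_num
    let y : W := ⟨incl e (el 2), (hvcomm _).2 (by rw [el_val l2]; exact hy2)⟩
    let s : W := ⟨incl e (el 16), (hvcomm _).2 (by rw [el_val l16]; exact hs2)⟩
    have hmemC : ∀ x : W, (x : G) ∈ centralizer ({t} : Set G) → π x ∈ centralizer ({π tz} : Set (W ⧸ N)) :=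
      fun x hx => by rw [hcent]; exact ⟨x, hx, rfl⟩
    refine ⟨π y, hmemC y (incl_mem e _), ?_, π s, hmemC s (incl_mem e _), fun hc => hcomm ?_⟩
    · rw [invol_iff, ← map_mul]
      refine ⟨?_, fun h1 => hyV ?_⟩
      · rw [show y * y = 1 from Subtype.ext (by
          show incl e (el 2) * incl e (el 2) = 1
          rw [← map_mul, ← el_mul l2 l2, hsq, el_zero, map_one]), map_one]
      · rw [← map_one π, eq_comm, hπeq] at h1
        obtain ⟨p, hp, hp'⟩ := h1
        rw [OneMemClass.coe_one, one_mul] at hp'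
        have := hvmem (el 2) ((show incl e (el 2) = p from hp') ▸ hp)
        rwa [el_val l2] at this
    · have h1 : π (y * s * y * s⁻¹) = π 1 := by
        have hy2' : π y * π y = 1 := by
          rw [← map_mul, show y * y = 1 from Subtype.ext (by
            show incl e (el 2) * incl e (el 2) = 1
            rw [← map_mul, ← el_mul l2 l2, hsq, el_zero, map_one]), map_one]
        rw [map_mul, map_mul, map_mul, map_inv, map_one, hc.eq, mul_assoc (π s) (π y), hy2', mul_one, mul_inv_cancel]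
      obtain ⟨p, hp, hp'⟩ := (hπeq 1 _).1 h1.symm
      rw [OneMemClass.coe_one, one_mul] at hp'
      have h2 : incl e (el 2 * el 16 * el 2 * (el 16)⁻¹) = p := by rw [← hp', map_mul, map_mul, map_mul, map_inv]; rfl
      have := hvmem _ (h2 ▸ hp)
      rwa [split_mul_val, split_mul_val, split_mul_val, split_inv_val, el_val l2, el_val l16] at this
  have htop := eq_top_of_cent_sixtyFour K hz2 hcentK hfuse hcard hclass hy
  exact hk₀G ((hKmem ⟨k₀, hk₀⟩).1 (htop ▸ mem_top _))

include he ht in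
/-- **generation in the pattern of He** -/
theorem gen0_oneOhSeven (hm : patt e = 107) : gen0 e = ⊤ := by
  have h : ListOK (patt e) oneOhSevenNodes oneOhSevenWit := hm.symm ▸ oneOhSeven_ok
  have hctl := ctl e he ht (hm.symm ▸ sqOK_oneOhSeven)
  refine gen0_eq_top_of e he ht h hctl (nodes_good e he ht h hctl fun i hi hf _ => ?_)
  have hi' : i = 0 ∨ i = 1 := by
    have : oneOhSevenNodes.length = 2 := rfl
    omega
  rcases hi' with rfl | rfl
  · rw [hm, oneOhSeven_cert] at hf
    exact Bool.noConfusion hf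
  · rw [v_node]
    exact good_four e he ht hm hctl

end CfsgLib.Spor.HeldTri
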