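import Cfsg.Agent.Lib.Spor.HeldFusion.Cent

/-!
# Held's trichotomy: membership of codes in a fused class, and the square check in the Sylow group
-/

set_option autoImplicit false
set_option maxRecDepth 100000

namespace CfsgLib.Spor.HeldTri

open CfsgLib.Spor.HeldRecog CfsgLib.Spor.HeldFusion

/-- the bit set of a list -/
noncomputable def maskOf : List ℕ → ℕ
  | [] => 0
  | a :: l => Nat.lor (2 ^ a) (maskOf l)

theorem testBit_maskOf (l : List ℕ) (x : ℕ) : (maskOf l).testBit x = true ↔ x ∈ l := by
  induction l with
  | nil => simp [maskOf]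
  | cons a l ih =>
    rw [maskOf, show Nat.lor (2 ^ a) (maskOf l) = 2 ^ a ||| maskOf l from rfl, Nat.testBit_or, Bool.or_eq_true,
      Nat.testBit_two_pow, decide_eq_true_eq, ih, List.mem_cons]
    exact or_congr ⟨Eq.symm, Eq.symm⟩ Iff.rfl

/-- the codes of the conjugates of the central involution in the pattern `m` -/
def zCodes (m : ℕ) : List ℕ := zCode :: ((List.range 7).filter fun c => m.testBit c).flatMap classL

/-- membership in `zCodes` -/
noncomputable def zMem (m x : ℕ) : Bool := (maskOf (zCodes m)).testBit x

theorem zMem_iff {m x : ℕ} : zMem m x = true ↔ x = zCode ∨ ∃ c < 7, m.testBit c = true ∧ x ∈ classL c := by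
  rw [zMem, testBit_maskOf, zCodes, List.mem_cons, List.mem_flatMap]
  simp only [List.mem_filter, List.mem_range]
  exact or_congr Iff.rfl ⟨fun ⟨c, ⟨hc, hb⟩, h⟩ => ⟨c, hc, hb, h⟩, fun ⟨c, hc, hb, h⟩ => ⟨c, ⟨hc, hb⟩, h⟩⟩

/-- in the Sylow group the square of the product of two of them, if an involution, is one of them -/
noncomputable def sqOK (m : ℕ) : Bool :=
  ((zCodes m).filter inS).all fun d => ((zCodes m).filter inS).all fun v =>
    mulC (mulC d v) (mulC d v) == 0 ||
      (mulC (mulC (mulC d v) (mulC d v)) (mulC (mulC d v) (mulC d v)) != 0 || zMem m (mulC (mulC d v) (mulC d v)))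

theorem sqOK_eleven : sqOK 11 = true := by decide +kernel

theorem sqOK_fortyThree : sqOK 43 = true := by decide +kernel

theorem sqOK_oneOhSeven : sqOK 107 = true := by decide +kernel

/-- every class but `5`, `6` meets both sides, those two one each -/
theorem side_meet : ∀ c < 7, ((classL c).any fun x => aList.contains x || bList.contains x) = true := by
  decide +kernel

end CfsgLib.Spor.HeldTri
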