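import Cfsg.Agent.Lib.Spor.HeldTri.Base
import Cfsg.Agent.Lib.Spor.HeldTri.Mask
import Cfsg.Agent.Lib.Spor.HeldTri.Reach

/-!
# Held's trichotomy: `C ⊔ N(A) ⊔ N(B)` controls the fusion of `t`
-/

set_option autoImplicit false
set_option linter.unusedSectionVars false
set_option linter.style.haveILetI false

namespace CfsgLib.Spor.HeldTri

open CfsgLib.Spor.HeldRecog CfsgLib.Spor.HeldFusion Subgroup

variable {G : Type*} [Group G] [Finite G] {t : G}
variable (e : Cen splitTab ≃* centralizer ({t} : Set G)) (he : ((e ⟨64, by norm_num⟩ : _) : G) = t)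
  (ht : orderOf t = 2)

/-- the subgroup generated by the centraliser and the normalisers of the two sides -/
noncomputable def gen0 : Subgroup G :=
  centralizer ({t} : Set G) ⊔ normalizer (sideA e : Set G) ⊔ normalizer (sideB e : Set G)

theorem cent_le_gen0 : centralizer ({t} : Set G) ≤ gen0 e := le_sup_left.trans le_sup_left

include he ht in
/-- conjugates of `t` in the centraliser by code -/
theorem zMem_el {x : ℕ} (hx : x < 21504) : IsConj t (incl e (el x)) ↔ zMem (patt e) x = true := by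
  rw [isConj_iff_pattern e he ht, zMem_iff, el_val hx]
  exact or_congr ⟨fun h => el_inj hx (by norm_num [zCode]) h, fun h => by rw [h]⟩ Iff.rfl

include he ht in
theorem zMem_val (x : Cen splitTab) : IsConj t (incl e x) ↔ zMem (patt e) x.val = true := by
  rw [← zMem_el e he ht x.lt, el_of_val]

include he ht in
/-- a conjugate of `t` in the centraliser is one of `t` under `gen0` -/
theorem conj_in_gen0 {x : Cen splitTab} (hx : IsConj t (incl e x)) :
    ∃ k ∈ gen0 e, k * t * k⁻¹ = incl e x := by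
  rcases (isConj_iff_pattern e he ht x).1 hx with rfl | ⟨c, hc, hb, hxc⟩
  · exact ⟨1, one_mem _, by rw [incl_z e he]; group⟩
  have h := side_meet c hc
  simp only [List.any_eq_true, Bool.or_eq_true, List.contains_iff_mem] at h
  obtain ⟨r, hr, hAB⟩ := h
  obtain ⟨a, ha⟩ := isConj_iff.1 ((class_isConj hc hr).symm.trans (class_isConj hc hxc))
  have hrt : IsConj t (incl e (el r)) := (patt_iff e hc hr).2 hb
  have hlt := (classL_lt hc hr).1
  obtain ⟨n, hn, hnt⟩ : ∃ n ∈ gen0 e, n * t * n⁻¹ = incl e (el r) := by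
    rcases hAB with h' | h'
    · obtain ⟨n, hn, hnt⟩ := transitive_sideA e he ht
        (Subgroup.mem_map_of_mem _ (mem_subA.2 (by rw [el_val hlt]; exact h'))) hrt
      exact ⟨n, (le_sup_right.trans le_sup_left : normalizer (sideA e : Set G) ≤ gen0 e) hn, hnt⟩
    · obtain ⟨n, hn, hnt⟩ := transitive_sideB e he ht
        (Subgroup.mem_map_of_mem _ (mem_subB.2 (by rw [el_val hlt]; exact h'))) hrt
      exact ⟨n, (le_sup_right : normalizer (sideB e : Set G) ≤ gen0 e) hn, hnt⟩
  refine ⟨incl e a * n, mul_mem (cent_le_gen0 e (incl_mem e a)) hn, ?_⟩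
  rw [← el_of_val x, ← ha, map_mul, map_mul, map_inv, ← hnt]
  group

include he ht in
/-- a 2-subgroup of `gen0` is conjugate in it into `sylT` -/
theorem into_sylT {R : Subgroup G} (hR : R ≤ gen0 e) (hp : IsPGroup 2 R) :
    ∃ h ∈ gen0 e, ∀ r ∈ R, h * r * h⁻¹ ∈ sylT e := by
  haveI : Fact (Nat.Prime 2) := ⟨Nat.prime_two⟩
  have hS : ((sylG e he ht : Sylow 2 G) : Subgroup G) ≤ gen0 e := (sylT_le e).trans (cent_le_gen0 e)
  obtain ⟨h, hh⟩ := CfsgLib.Invol.exists_conj_le_sylow
    (hp.comap_of_injective (gen0 e).subtype (gen0 e).subtype_injective) ((sylG e he ht).subtype hS)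
  refine ⟨h, h.2, fun r hr => ?_⟩
  have h1 := hh ⟨r, hR hr⟩ hr
  exact h1

include he ht in
theorem fuse_gen0 (g : G) (hg : g * t * g⁻¹ ∈ gen0 e) : g ∈ gen0 e := by
  have h2 : IsPGroup 2 (zpowers (g * t * g⁻¹)) :=
    IsPGroup.of_card (n := 1) (by rw [Nat.card_zpowers, CfsgLib.Invol.invol_conj ht, pow_one])
  obtain ⟨h, hh, hc⟩ := into_sylT e he ht (zpowers_le.2 hg) h2
  obtain ⟨x, -, hx⟩ := hc _ (mem_zpowers _)
  obtain ⟨k, hk, hkt⟩ := conj_in_gen0 e he ht (x := x) (hx ▸ isConj_iff.2 ⟨h * g, by group⟩)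
  have hcent : k⁻¹ * h * g ∈ centralizer ({t} : Set G) := by
    refine mem_centralizer_singleton_iff.2 (mul_inv_eq_iff_eq_mul.1 ?_)
    calc k⁻¹ * h * g * t * (k⁻¹ * h * g)⁻¹ = k⁻¹ * (h * (g * t * g⁻¹) * h⁻¹) * k := by group
      _ = k⁻¹ * incl e x * k := by rw [hx]
      _ = t := by rw [← hkt]; group
  have := mul_mem (mul_mem (inv_mem hh) hk) (cent_le_gen0 e hcent)
  simpa [mul_assoc] using this

include he ht in
theorem ctl (hsq : sqOK (patt e) = true) : Ctl t (gen0 e) where
  invol := ht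
  cent := cent_le_gen0 e
  fuse := fuse_gen0 e he ht
  into R hR hp := by
    obtain ⟨h, hh, hc⟩ := into_sylT e he ht hR hp
    exact ⟨h, hh, fun r hr => sylT_le e (hc r hr)⟩
  sq d v hd hv hdG hvG hne h4 := by
    have hdo : orderOf d = 2 := by
      obtain ⟨g, rfl⟩ := isConj_iff.1 hd; exact CfsgLib.Invol.invol_conj ht g
    have hvo : orderOf v = 2 := by
      obtain ⟨g, rfl⟩ := isConj_iff.1 hv; exact CfsgLib.Invol.invol_conj ht g
    have hpow : (d * v) ^ (2 ^ 2) = 1 := by
      rw [show (2 : ℕ) ^ 2 = 2 + 2 from rfl, pow_add, pow_two]; exact h4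
    obtain ⟨s, -, hs⟩ := (Nat.dvd_prime_pow Nat.prime_two).1 (orderOf_dvd_of_pow_eq_one hpow)
    obtain ⟨h, -, hc⟩ := into_sylT e he ht (R := closure ({d, v} : Set G))
      ((closure_le _).2 (by rintro x (rfl | rfl) <;> assumption)) (CfsgLib.Invol.two_group_of_pair hdo hvo hs)
    obtain ⟨x, hxS, hx⟩ := hc d (subset_closure (by simp))
    obtain ⟨y, hyS, hy⟩ := hc v (subset_closure (by simp))
    have hxz : zMem (patt e) x.val = true :=
      (zMem_val e he ht x).1 (hx ▸ hd.trans (isConj_iff.2 ⟨h, rfl⟩))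
    have hyz : zMem (patt e) y.val = true :=
      (zMem_val e he ht y).1 (hy ▸ hv.trans (isConj_iff.2 ⟨h, rfl⟩))
    have hmem : ∀ {w : Cen splitTab}, w ∈ sylC → zMem (patt e) w.val = true →
        w.val ∈ (zCodes (patt e)).filter inS := fun {w} hw hz =>
      List.mem_filter.2 ⟨(testBit_maskOf _ _).1 hz, mem_sylC.1 hw⟩
    simp only [sqOK, List.all_eq_true, Bool.or_eq_true, beq_iff_eq, bne_iff_ne] at hsq
    have hp : incl e (x * y * (x * y)) = h * (d * v * (d * v)) * h⁻¹ := by
      rw [map_mul, map_mul, hx, hy]; group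
    rcases hsq _ (hmem hxS hxz) _ (hmem hyS hyz) with h0 | h0 | h0
    · refine absurd ?_ hne
      have h1 : x * y * (x * y) = 1 := Cen.ext (by
        rw [split_mul_val, split_mul_val, split_one_val]; exact h0)
      rw [h1, map_one] at hp
      exact conj_eq_one_iff.1 hp.symm
    · refine absurd ?_ h0
      have h1 : x * y * (x * y) * (x * y * (x * y)) = 1 := by
        apply incl_injective e
        rw [map_mul, hp, map_one, show h * (d * v * (d * v)) * h⁻¹ * (h * (d * v * (d * v)) * h⁻¹) =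
          h * (d * v * (d * v) * (d * v * (d * v))) * h⁻¹ by group, h4]
        group
      have h2 := congrArg Cen.val h1
      simp only [split_mul_val, split_one_val] at h2
      exact h2
    · have h1 : IsConj t (incl e (x * y * (x * y))) :=
        (zMem_val e he ht _).2 (by rw [split_mul_val, split_mul_val]; exact h0)
      rw [hp] at h1
      exact h1.trans (isConj_iff.2 ⟨h, rfl⟩).symm

end CfsgLib.Spor.HeldTri
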