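import Cfsg.Agent.Lib.Spor.HeldTri.NodeChecks

/-!
# Held's trichotomy: good nodes generate
-/

set_option autoImplicit false
set_option linter.unusedSectionVars false
set_option linter.style.haveILetI false

namespace CfsgLib.Spor.HeldTri

open CfsgLib.Spor.HeldRecog CfsgLib.Spor.HeldFusion Subgroup CfsgLib.Invol

variable {G : Type*} [Group G] [Finite G] {t : G}
variable (e : Cen splitTab ≃* centralizer ({t} : Set G)) (he : ((e ⟨64, by norm_num⟩ : _) : G) = t)
  (ht : orderOf t = 2)
variable {ns : List Node} {wit : List ℕ}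

include he ht in
/-- all nodes are good, those without certificate by hypothesis -/
theorem nodes_good (h : ListOK (patt e) ns wit) (hctl : Ctl t (gen0 e))
    (hspec : ∀ i < ns.length, (ns.getD i ⟨[], 0, 0, []⟩).certOK (patt e) = false →
      (∀ j < ns.length, (nodeL ns i).length < (nodeL ns j).length → Good (gen0 e) (nodeG e (nodeL ns j))) →
      Good (gen0 e) (nodeG e (nodeL ns i))) :
    ∀ i < ns.length, Good (gen0 e) (nodeG e (nodeL ns i)) := by
  have key : ∀ k i, i < ns.length → Nat.card G ≤ (nodeL ns i).length + k → Good (gen0 e) (nodeG e (nodeL ns i)) := by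
    intro k
    induction k using Nat.strong_induction_on with
    | _ k ih =>
    intro i hi hk
    have hbig : ∀ j < ns.length, (nodeL ns i).length < (nodeL ns j).length →
        Good (gen0 e) (nodeG e (nodeL ns j)) := fun j hj hlt => by
      have hle : (nodeL ns j).length ≤ Nat.card G := by
        rw [← card_nodeG e (node_shape h hj)]
        exact Subgroup.card_le_card_group _
      exact ih (Nat.card G - (nodeL ns j).length) (by omega) j hj (by omega)
    cases hc : (ns.getD i ⟨[], 0, 0, []⟩).certOK (patt e) with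
    | true => exact good_step e he ht h hctl hi hc hbig
    | false => exact hspec i hi hc hbig
  exact fun i hi => key _ i hi (Nat.le_add_left _ _)

include he ht in
/-- the first node consists of `1` and an involution of class 4 -/
theorem nodeG_root (h : ListOK (patt e) ns wit) :
    ∃ y ∈ gen0 e, orderOf y = 2 ∧ ¬ IsConj t y := by
  have hroot := h.root
  simp only [rootOK, Bool.and_eq_true, decide_eq_true_eq, beq_iff_eq] at hroot
  obtain ⟨⟨⟨hpos, hL0⟩, -⟩, -⟩ := hroot
  have hs := node_shape h hpos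
  have hmem : (192 : ℕ) ∈ (ns.getD 0 ⟨[], 0, 0, []⟩).L := by rw [hL0]; simp [rootCodes]
  obtain ⟨hlt, -, h2⟩ := (shape_facts hs).2.2.1 192 hmem
  refine ⟨incl e (el 192), cent_le_gen0 e (incl_mem e _), ?_, (pure_nodeG e he ht hs).none _ (el_mem_nodeG e hs hmem)⟩
  rw [orderOf_injective _ (incl_injective e), invol_iff, ← el_mul hlt hlt, h2, el_zero]
  exact ⟨rfl, fun h' => by simpa using el_inj hlt (by norm_num) (h'.trans el_zero.symm)⟩

include he ht in
/-- **every involution of `gen0` not conjugate to `t` is good** -/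
theorem invol_good (h : ListOK (patt e) ns wit) (hctl : Ctl t (gen0 e))
    (hgood : ∀ i < ns.length, Good (gen0 e) (nodeG e (nodeL ns i))) {w : G} (hw : w ∈ gen0 e) (hwo : orderOf w = 2)
    (hwt : ¬ IsConj t w) : Good (gen0 e) (zpowers w) := by
  obtain ⟨a, ha, hac⟩ := hctl.into (zpowers w) (zpowers_le.2 hw)
    (IsPGroup.of_card (n := 1) (by rw [Nat.card_zpowers, hwo, pow_one]))
  obtain ⟨x, hx⟩ := exists_incl e (hac w (mem_zpowers w))
  have hxt : ¬ IsConj t (incl e x) := fun h' => hwt (h'.trans (isConj_iff.2 ⟨a⁻¹, by rw [hx]; group⟩))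
  have hx2 : x * x = 1 := incl_injective e (by
    rw [map_mul, map_one, hx, show a * w * a⁻¹ * (a * w * a⁻¹) = a * (w * w) * a⁻¹ by group, invol_mul_self hwo,
      mul_one, mul_inv_cancel])
  rcases invol_cases x hx2 with rfl | rfl | ⟨c, hc, hxc⟩
  · rw [map_one] at hx
    exact absurd (conj_eq_one_iff.1 hx.symm) (invol_ne_one hwo)
  · exact (hxt (by rw [incl_z e he])).elim
  have hroot := h.root
  simp only [rootOK, Bool.and_eq_true, decide_eq_true_eq, beq_iff_eq, List.all_eq_true, Bool.or_eq_true,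
    List.mem_range] at hroot
  obtain ⟨⟨⟨hu, huz⟩, hucomm⟩, huy⟩ := (hroot.2 c hc).resolve_left fun hb => hxt (by
    rw [← el_of_val x]; exact (patt_iff e hc hxc).2 hb)
  set u := wit.getD c 0 with hu'
  set r := (classL c).getD 0 0 with hr'
  have hrl : r < 21504 := by
    have hl : ∀ k < 7, 0 < (classL k).length := by decide +kernel
    rw [hr', getD_get _ _ (hl c hc)]
    exact (classL_lt hc (List.getElem_mem _)).1
  obtain ⟨b, hb⟩ := isConj_iff.1 (class_isConj hc hxc : IsConj (el r) (el x.val))
  rw [el_of_val, ← hr'] at hb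
  have hut : IsConj t (incl e (el u)) := (zMem_el e he ht hu).2 huz
  obtain ⟨g, hg⟩ := isConj_iff.1 hut
  have hgG : g ∈ gen0 e := hctl.fuse g (hg ▸ cent_le_gen0 e (incl_mem e _))
  set y := g⁻¹ * incl e (el r) * g with hy
  have hyt : ¬ IsConj t y := fun h' => hxt (h'.trans (isConj_iff.2 ⟨incl e b * g, by
    rw [hy, ← hb, map_mul, map_mul, map_inv]; group⟩))
  have hy2 : y * y = 1 := by
    have h2 : el r * el r = 1 := by
      rw [show el r = b⁻¹ * x * b by rw [← hb]; group, show b⁻¹ * x * b * (b⁻¹ * x * b) = b⁻¹ * (x * x) * b by group, hx2]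
      group
    rw [hy, show g⁻¹ * incl e (el r) * g * (g⁻¹ * incl e (el r) * g) = g⁻¹ * (incl e (el r) * incl e (el r)) * g by group,
      ← map_mul, h2, map_one]
    group
  have hy1 : y ≠ 1 := fun h' => by
    have h1 : incl e (el r) = 1 := by
      calc incl e (el r) = g * y * g⁻¹ := by rw [hy]; group
        _ = 1 := by rw [h']; group
    rw [← hb, incl_injective e (h1.trans (map_one (incl e)).symm)] at hx
    rw [mul_one, mul_inv_cancel, map_one] at hx
    exact invol_ne_one hwo (conj_eq_one_iff.1 hx.symm)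
  have hPure : Pure t (zpowers y) := by
    have hcases : ∀ p ∈ zpowers y, p = 1 ∨ p = y := fun p hp => by
      obtain ⟨i, rfl⟩ := mem_zpowers_iff.1 hp
      rcases Int.even_or_odd' i with ⟨j, rfl | rfl⟩
      · left; rw [zpow_mul, zpow_two, hy2, one_zpow]
      · right; rw [zpow_add, zpow_mul, zpow_two, hy2, one_zpow, one_mul, zpow_one]
    refine ⟨fun p hp => ?_, fun p hp => ?_⟩ <;> rcases hcases p hp with rfl | rfl
    · exact mul_one 1
    · exact hy2
    · intro h'
      obtain ⟨k, hk⟩ := isConj_iff.1 h'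
      rw [conj_eq_one_iff] at hk
      rw [hk, orderOf_one] at ht
      omega
    · exact hyt
  have hc2 : incl e (el r) * incl e (el u) = incl e (el u) * incl e (el r) := by
    rw [← map_mul, ← map_mul, ← el_mul hrl hu, ← el_mul hu hrl, hucomm]
  have hyC : zpowers y ≤ centralizer ({t} : Set G) := zpowers_le.2 (mem_centralizer_singleton_iff.2 (by
    calc y * t = g⁻¹ * (incl e (el r) * (g * t * g⁻¹)) * g := by rw [hy]; group
      _ = g⁻¹ * (g * t * g⁻¹ * incl e (el r)) * g := by rw [hg, hc2]
      _ = t * y := by rw [hy]; group))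
  have hty : IsConj t (t * y) := by
    have h1 : IsConj t (incl e (el u) * incl e (el r)) := by
      rw [← map_mul, ← el_mul hu hrl]; exact (zMem_el e he ht (mulC_lt hu hrl)).2 huy
    refine h1.trans (isConj_iff.2 ⟨g⁻¹, ?_⟩)
    rw [hy, ← hg]; group
  obtain ⟨j, hj, d, hd, hQ⟩ := exists_node e he ht h hPure hyC (mem_zpowers y) hy1 hty
  refine (((hgood j hj).transfer (k := d⁻¹) (inv_mem (cent_le_gen0 e hd)) (Q := zpowers y) ?_).transfer
    (k := a⁻¹ * (incl e b * g)) (mul_mem (inv_mem ha) (mul_mem (cent_le_gen0 e (incl_mem e b)) hgG)) ?_)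
  · intro p hp
    rw [hQ, inv_inv]
    simpa [mul_assoc] using hp
  · intro p hp
    obtain ⟨i, rfl⟩ := mem_zpowers_iff.1 hp
    refine mem_zpowers_iff.2 ⟨i, ?_⟩
    rw [show w = a⁻¹ * (incl e b * g) * y * (a⁻¹ * (incl e b * g))⁻¹ by
      calc w = a⁻¹ * incl e x * a := by rw [hx]; group
        _ = _ := by rw [← hb, map_mul, map_mul, map_inv, hy]; group, conj_zpow]

include he ht in
/-- **generation from good nodes** -/
theorem gen0_eq_top_of (h : ListOK (patt e) ns wit) (hctl : Ctl t (gen0 e))
    (hgood : ∀ i < ns.length, Good (gen0 e) (nodeG e (nodeL ns i))) : gen0 e = ⊤ := by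
  obtain ⟨y, hy, hyo, hyt⟩ := nodeG_root e he ht h
  exact hctl.eq_top hyo hy hyt fun w hw hwo hwt => invol_good e he ht h hctl hgood hw hwo hwt

include he ht in
theorem gen0_eq_top_of_cert (h : ListOK (patt e) ns wit) (hsq : sqOK (patt e) = true)
    (hc : ns.all (Node.certOK (patt e)) = true) : gen0 e = ⊤ :=
  gen0_eq_top_of e he ht h (ctl e he ht hsq) (nodes_good e he ht h (ctl e he ht hsq) fun i hi hf => by
    rw [List.all_eq_true.1 hc _ (node_mem i hi)] at hf
    exact Bool.noConfusion hf)

include he ht in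
/-- **generation in the pattern of `SL(5, 2)`** -/
theorem gen0_eleven (hm : patt e = 11) : gen0 e = ⊤ :=
  gen0_eq_top_of_cert e he ht (hm.symm ▸ eleven_ok) (hm.symm ▸ sqOK_eleven) (hm.symm ▸ eleven_cert)

include he ht in
/-- **generation in the pattern of `M₂₄`** -/
theorem gen0_fortyThree (hm : patt e = 43) : gen0 e = ⊤ :=
  gen0_eq_top_of_cert e he ht (hm.symm ▸ fortyThree_ok) (hm.symm ▸ sqOK_fortyThree) (hm.symm ▸ fortyThree_cert)

end CfsgLib.Spor.HeldTri
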