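import Cfsg.Agent.Lib.Spor.HeldRecog.Amalgam.Exists
import Cfsg.Agent.Lib.Spor.HeldRecog.Present
import Cfsg.Agent.Lib.Spor.HeldRecog.Quotient
import Cfsg.Agent.Lib.Spor.HeldTri.AmLin.Checks
import Cfsg.Agent.Lib.Spor.HeldTri.AmLin.Model
import Cfsg.Agent.Lib.Spor.HeldTri.AmLin.PG.All
import Cfsg.Agent.Lib.Spor.HeldTri.AmLin.PN.All
import Cfsg.Agent.Lib.Spor.HeldTri.AmM24.Checks
import Cfsg.Agent.Lib.Spor.HeldTri.AmM24.Model
import Cfsg.Agent.Lib.Spor.HeldTri.AmM24.PG.All
import Cfsg.Agent.Lib.Spor.HeldTri.AmM24.PN.All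

/-!
# Held's trichotomy: the three branches

A group generated by the centraliser and the two normalisers is determined by the fusion pattern.
-/

set_option autoImplicit false
set_option linter.unusedSectionVars false
set_option linter.style.haveILetI false
set_option maxRecDepth 100000

namespace CfsgLib.Spor.HeldTri

open CfsgLib.Spor.TC CfsgLib.Spor.HeldRecog CfsgLib.Spor.HeldFusion Subgroup

theorem relsN_sub_lin : ∀ r ∈ AmLin.relsN, (r.1.map fun x => [0, 1, 2, 3, 5, 6].getD x 7, r.2) ∈ AmLin.relsP := by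
  decide +kernel

theorem relsM_sub_lin : ∀ r ∈ Enum.relsM, (r.1.map fun x => [0, 1, 2, 3, 4].getD x 6, r.2) ∈ AmLin.relsN := by
  decide +kernel

theorem relsN_sub_M24 : ∀ r ∈ AmM24.relsN, (r.1.map fun x => [0, 1, 2, 3, 5, 6].getD x 7, r.2) ∈ AmM24.relsP := by
  decide +kernel

theorem relsM_sub_M24 : ∀ r ∈ Enum.relsM, (r.1.map fun x => [0, 1, 2, 3, 4].getD x 6, r.2) ∈ AmM24.relsN := by
  decide +kernel

theorem card_lin : Nat.card (Pres 7 AmLin.relsP) ≠ 0 ∧ Nat.card (Pres 7 AmLin.relsP) ≤ 9999360 := by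
  have h := AmLin.PG.cosetCert.card_le (rels' := AmLin.relsN) (l := 6) (by decide) relsN_sub_lin
    (AmLin.PN.cosetCert.card_le (rels' := Enum.relsM) (l := 5) (by decide) relsM_sub_lin Enum.PM.cosetCert.card_le_bot)
  exact ⟨h.1, h.2.trans (by norm_num)⟩

theorem card_mathieu : Nat.card (Pres 7 AmM24.relsP) ≠ 0 ∧ Nat.card (Pres 7 AmM24.relsP) ≤ 244823040 := by
  have h := AmM24.PG.cosetCert.card_le (rels' := AmM24.relsN) (l := 6) (by decide) relsN_sub_M24
    (AmM24.PN.cosetCert.card_le (rels' := Enum.relsM) (l := 5) (by decide) relsM_sub_M24 Enum.PM.cosetCert.card_le_bot)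
  exact ⟨h.1, h.2.trans (by norm_num)⟩

variable {G : Type*} [Group G] [Finite G] {t : G}
variable (e : Cen splitTab ≃* centralizer ({t} : Set G)) (he : ((e ⟨64, by norm_num⟩ : _) : G) = t)
  (ht : orderOf t = 2)
  (hgen : centralizer ({t} : Set G) ⊔ normalizer (sideA e : Set G) ⊔ normalizer (sideB e : Set G) = ⊤)

include ht in
theorem nontrivial_of_involution : Nontrivial G :=
  ⟨⟨t, 1, fun h => by rw [h, orderOf_one] at ht; exact absurd ht (by norm_num)⟩⟩

include he ht hgen in
/-- **Pattern `{0, 1, 3}`: the five dimensional linear group.** -/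
theorem iso_lin (hm : patt e = 11) : Nonempty (G ≃* Matrix.SpecialLinearGroup (Fin 5) (ZMod 2)) := by
  haveI := nontrivial_of_involution ht
  obtain ⟨g, hg, -, htop⟩ := Amalgam.exists_letters_of_data AmLin.am_valid e he ht hm
  haveI := AmLin.simple_SL5
  exact iso_of_generators card_lin.1 (by rw [AmLin.card_SL5]; exact card_lin.2) AmLin.sat_mL
    (presHom_surjective_of_range AmLin.sat_mL AmLin.closure_mL) hg (htop hgen)

include he ht hgen in
/-- **Pattern `{0, 1, 3, 5}`: the Mathieu group.** -/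
theorem iso_mathieu (hm : patt e = 43) : Nonempty (G ≃* Cfsg.M24) := by
  haveI := nontrivial_of_involution ht
  obtain ⟨g, hg, -, htop⟩ := Amalgam.exists_letters_of_data AmM24.am_valid e he ht hm
  haveI := isSimpleGroup_M24
  exact iso_of_generators card_mathieu.1 (by rw [card_M24]; exact card_mathieu.2) AmM24.sat_mM
    (presHom_surjective_of_range AmM24.sat_mM AmM24.closure_mM) hg (htop hgen)

include he ht hgen in
/-- **Pattern `{0, 1, 3, 5, 6}`: the Held group.** -/
theorem iso_held (hm : patt e = 107) : Cfsg.Spor.IsoHe G := by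
  haveI := nontrivial_of_involution ht
  obtain ⟨g, hg, -, htop⟩ := Amalgam.exists_letters_of_data Amalgam.amHe_valid e he ht hm
  exact isoHe_of_generators g hg (htop hgen)

end CfsgLib.Spor.HeldTri
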