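import Cfsg.Agent.Lib.Spor.HeldTri.Cent
import Cfsg.Agent.Lib.Spor.HeldFusion.Main

/-!
# Held's trichotomy: the outer automorphism of the centraliser

The inverse transpose followed by exchanging the first two coordinates fixes the transvection and exchanges the
classes `0, 1` and `5, 6`.
-/

set_option autoImplicit false
set_option linter.unusedSectionVars false
set_option maxRecDepth 100000

namespace CfsgLib.Spor.HeldTri

open CfsgLib.Spor.HeldRecog CfsgLib.Spor.HeldFusion Matrix
open CfsgLib.Spor.SLFiveTransv (SL5 M5)

/-- the exchange of the first two coordinates -/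
def swapIdx : Fin 5 ≃ Fin 5 := Equiv.swap 0 1

/-- inverse transpose, then exchange -/
noncomputable def sigmaHom : SL5 →* SL5 where
  toFun A := ⟨((A⁻¹ : SL5) : M5).transpose.submatrix swapIdx swapIdx, by
    rw [Matrix.det_submatrix_equiv_self, Matrix.det_transpose]; exact (A⁻¹ : SL5).2⟩
  map_one' := Subtype.ext (by simp)
  map_mul' A B := Subtype.ext (by
    show ((A * B)⁻¹ : SL5).1.transpose.submatrix swapIdx swapIdx =
      (A⁻¹ : SL5).1.transpose.submatrix swapIdx swapIdx * (B⁻¹ : SL5).1.transpose.submatrix swapIdx swapIdx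
    rw [Matrix.submatrix_mul_equiv, ← Matrix.transpose_mul, _root_.mul_inv_rev]
    rfl)

theorem sigmaHom_coe (A : SL5) : ((sigmaHom A : SL5) : M5) =
    ((A⁻¹ : SL5) : M5).transpose.submatrix swapIdx swapIdx := rfl

theorem sigmaHom_invol (A : SL5) : sigmaHom (sigmaHom A) = A := by
  have h : ∀ i, swapIdx (swapIdx i) = i := fun i => Equiv.swap_apply_self 0 1 i
  refine Subtype.ext (Matrix.ext fun i j => ?_)
  rw [sigmaHom_coe, ← map_inv, sigmaHom_coe, inv_inv]
  simp [h]

/-- the automorphism -/
noncomputable def sigma : SL5 ≃* SL5 where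
  toFun := sigmaHom
  invFun := sigmaHom
  left_inv := sigmaHom_invol
  right_inv := sigmaHom_invol
  map_mul' := map_mul sigmaHom

theorem sigma_coe_invol {A : SL5} (hA : A * A = 1) : ((sigma A : SL5) : M5) =
    (A : M5).transpose.submatrix swapIdx swapIdx := by
  show ((sigmaHom A : SL5) : M5) = _
  rw [sigmaHom_coe, inv_eq_of_mul_eq_one_left hA]

/-- the images of the class representatives -/
def tauReps : List ℕ := [1, 56, 62, 21248, 21312, 9016, 21251]

/-- the permutation of the classes -/
def classPerm (c : ℕ) : ℕ := [1, 0, 2, 3, 4, 6, 5].getD c c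

theorem tau_check : ((List.range 7).all fun c => (classL (classPerm c)).contains (tauReps.getD c 0) &&
    (List.range 5).all fun i => (List.range 5).all fun j =>
      (mulM (qMat (tauReps.getD c 0 % 128)) (hMat (tauReps.getD c 0 / 128))).testBit (5 * i + j) ==
        (mulM (qMat ((classL c).getD 0 0 % 128)) (hMat ((classL c).getD 0 0 / 128))).testBit
          (5 * [1, 0, 2, 3, 4].getD j 0 + [1, 0, 2, 3, 4].getD i 0)) = true := by
  decide +kernel

theorem sigma_fix {s : SL5} (hs : (s : M5) = Matrix.transvection 0 1 1) : sigma s = s := by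
  have h2 : s * s = 1 := by
    rw [← toSL_z s hs, ← map_mul, ← el_mul (by norm_num [zCode]) (by norm_num [zCode]),
      show mulC zCode zCode = 0 by decide +kernel, el_zero, map_one]
  refine Subtype.ext (Matrix.ext fun i j => ?_)
  rw [sigma_coe_invol h2, hs]
  fin_cases i <;> fin_cases j <;> decide +kernel

variable (s : SL5) (hs : (s : M5) = Matrix.transvection 0 1 1)

include hs in
theorem sigma_mem {x : SL5} (hx : x ∈ Subgroup.centralizer ({s} : Set SL5)) :
    sigma x ∈ Subgroup.centralizer ({s} : Set SL5) := by
  rw [Subgroup.mem_centralizer_singleton_iff, ← sigma_fix hs, ← map_mul, ← map_mul,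
    Subgroup.mem_centralizer_singleton_iff.1 hx]

/-- the automorphism of the centraliser -/
noncomputable def sigmaC : Subgroup.centralizer ({s} : Set SL5) ≃* Subgroup.centralizer ({s} : Set SL5) where
  toFun x := ⟨sigma x, sigma_mem s hs x.2⟩
  invFun x := ⟨sigma x, sigma_mem s hs x.2⟩
  left_inv x := Subtype.ext (sigmaHom_invol x)
  right_inv x := Subtype.ext (sigmaHom_invol x)
  map_mul' x y := Subtype.ext (map_mul sigma (x : SL5) y)

/-- the automorphism of the table -/
noncomputable def tau : Cen splitTab ≃* Cen splitTab :=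
  (centIso s hs).trans ((sigmaC s hs).trans (centIso s hs).symm)

theorem toSL_tau (x : Cen splitTab) : toSL (tau s hs x) = sigma (toSL x) :=
  congrArg Subtype.val ((centIso s hs).apply_symm_apply (sigmaC s hs (centIso s hs x)))

theorem tau_z : tau s hs (el zCode) = el zCode := by
  refine toSL_injective ?_
  rw [toSL_tau, toSL_z s hs, sigma_fix hs]

theorem tau_class {c : ℕ} (hc : c < 7) : (tau s hs (el ((classL c).getD 0 0))).val ∈ classL (classPerm c) := by
  have h := tau_check
  simp only [List.all_eq_true, Bool.and_eq_true, List.contains_iff_mem, List.mem_range, beq_iff_eq] at h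
  obtain ⟨hmem, hbits⟩ := h c hc
  have hperm : classPerm c < 7 := by
    have : ∀ k < 7, classPerm k < 7 := by decide
    exact this c hc
  have hlt := (classL_lt hperm hmem).1
  have hr : (classL c).getD 0 0 ∈ classL c := by
    have hl : ∀ k < 7, (classL k).contains ((classL k).getD 0 0) = true := by decide +kernel
    exact List.contains_iff_mem.1 (hl c hc)
  obtain ⟨hrl, hr2, -, -⟩ := classL_lt hc hr
  suffices h2 : tau s hs (el ((classL c).getD 0 0)) = el (tauReps.getD c 0) by rwa [h2, el_val hlt]
  refine toSL_injective ?_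
  rw [toSL_tau]
  refine Subtype.ext (Matrix.ext fun i j => ?_)
  rw [sigma_coe_invol (by rw [← map_mul, hr2, map_one])]
  show matC (el ((classL c).getD 0 0)).val (swapIdx j) (swapIdx i) = matC (el (tauReps.getD c 0)).val i j
  rw [el_val hlt, el_val hrl, matC, matC, ← toMat_mul, ← toMat_mul]
  have hb := hbits i.val i.2 j.val j.2
  have hsw : ∀ k : Fin 5, ([1, 0, 2, 3, 4] : List ℕ).getD k.val 0 = (swapIdx k).val := by decide
  rw [hsw, hsw] at hb
  simp only [toMat, hb]

section Pattern

variable {G : Type*} [Group G] [Finite G] {t : G}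
variable (e : Cen splitTab ≃* Subgroup.centralizer ({t} : Set G))

/-- the twisted identification -/
noncomputable def twist : Cen splitTab ≃* Subgroup.centralizer ({t} : Set G) := (tau s hs).trans e

theorem twist_z (he : ((e ⟨64, by norm_num⟩ : _) : G) = t) : ((twist s hs e ⟨64, by norm_num⟩ : _) : G) = t := by
  have h64 : (⟨64, by norm_num⟩ : Cen splitTab) = el zCode := Cen.ext (el_val (by norm_num [zCode])).symm
  rw [h64] at he ⊢
  show ((e (tau s hs (el zCode)) : _) : G) = t
  rw [tau_z, he]

theorem patt_twist {c : ℕ} (hc : c < 7) : (patt (twist s hs e)).testBit c = (patt e).testBit (classPerm c) := by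
  have hperm : classPerm c < 7 := by
    have : ∀ k < 7, classPerm k < 7 := by decide
    exact this c hc
  have hl : ∀ k < 7, (classL k).contains ((classL k).getD 0 0) = true := by decide +kernel
  rw [Bool.eq_iff_iff, ← patt_iff (twist s hs e) hc (List.contains_iff_mem.1 (hl c hc)),
    ← patt_iff e hperm (tau_class s hs hc), el_of_val]
  rfl

theorem patt_ext {m n : ℕ} (hm : m < 128) (hn : n < 128) (h : ∀ c < 7, m.testBit c = n.testBit c) : m = n := by
  refine Nat.eq_of_testBit_eq fun c => ?_
  by_cases hc : c < 7
  · exact h c hc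
  · rw [Nat.testBit_lt_two_pow (hm.trans_le (Nat.pow_le_pow_right (show 0 < 2 by norm_num) (not_lt.1 hc))),
      Nat.testBit_lt_two_pow (hn.trans_le (Nat.pow_le_pow_right (show 0 < 2 by norm_num) (not_lt.1 hc)))]

theorem patt_twist_two (hm : patt e = 2) : patt (twist s hs e) = 1 :=
  patt_ext (patOf_lt _) (by norm_num) fun c hc => by
    rw [patt_twist s hs e hc, hm]; interval_cases c <;> rfl

theorem patt_twist_seventyFive (hm : patt e = 75) : patt (twist s hs e) = 43 :=
  patt_ext (patOf_lt _) (by norm_num) fun c hc => by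
    rw [patt_twist s hs e hc, hm]; interval_cases c <;> rfl

end Pattern

end CfsgLib.Spor.HeldTri
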