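import Cfsg.Agent.Lib.Spor.HeldTri.Patterns
import Cfsg.Agent.Lib.Spor.HeldTri.Tau
import Cfsg.Agent.Lib.Spor.HeldTri.Four
import Cfsg.Agent.Lib.Spor.HeldTri.EBranch
import Cfsg.Agent.Lib.Spor.HeldTri.Identify
import Cfsg.Agent.Lib.Spor.Held.Final

/-!
# Held's trichotomy: groups with the centraliser of a transvection of `SL(5, 2)`
-/

set_option autoImplicit false
set_option linter.unusedSectionVars false

namespace CfsgLib.Spor.HeldTri

open CfsgLib.Spor.HeldRecog CfsgLib.Spor.HeldFusion Subgroup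
open CfsgLib.Spor.SLFiveTransv (SL5 M5)

variable {G : Type*} [Group G] [Finite G] {t : G} (ht : orderOf t = 2)
variable (s : SL5) (hs : (s : M5) = Matrix.transvection 0 1 1)

include ht hs in
/-- **the four cases**, given that the pattern is not empty -/
theorem four_cases (e : Cen splitTab ≃* centralizer ({t} : Set G)) (he : ((e ⟨64, by norm_num⟩ : _) : G) = t)
    (hne : patt e ≠ 0) :
    (∃ e' : Cen splitTab ≃* centralizer ({t} : Set G), ((e' ⟨64, by norm_num⟩ : _) : G) = t ∧ patt e' = 1) ∨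
      Nonempty (G ≃* Matrix.SpecialLinearGroup (Fin 5) (ZMod 2)) ∨ Nonempty (G ≃* Cfsg.M24) ∨
        Cfsg.Spor.IsoHe G := by
  rcases patt_cases e he ht with h | h | h | h | h | h | h
  · exact absurd h hne
  · exact Or.inl ⟨e, he, h⟩
  · exact Or.inl ⟨_, twist_z s hs e he, patt_twist_two s hs e h⟩
  · exact Or.inr (Or.inl (iso_lin e he ht (gen0_eleven e he ht h) h))
  · exact Or.inr (Or.inr (Or.inl (iso_mathieu e he ht (gen0_fortyThree e he ht h) h)))
  · have h' := patt_twist_seventyFive s hs e h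
    have he' := twist_z s hs e he
    exact Or.inr (Or.inr (Or.inl (iso_mathieu _ he' ht (gen0_fortyThree _ he' ht h') h')))
  · exact Or.inr (Or.inr (Or.inr (iso_held e he ht (gen0_oneOhSeven e he ht h) h)))

include ht hs in
theorem not_commutative_of_simple [IsSimpleGroup G]
    (f : centralizer ({t} : Set G) ≃* centralizer ({s} : Set SL5)) : ¬ IsMulCommutative G := by
  intro hc
  have hp : (Nat.card G).Prime := by
    letI : CommGroup G := { (inferInstance : Group G) with mul_comm := fun a b => hc.is_comm.comm a b }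
    exact IsSimpleGroup.prime_card
  have h1 : 21504 ∣ Nat.card G := by
    rw [← SLFiveTransv.card_centralizer s hs, ← Nat.card_congr f.toEquiv]
    exact Subgroup.card_subgroup_dvd_card _
  exact absurd ((hp.eq_one_or_self_of_dvd 2 (dvd_trans (by norm_num) h1)).resolve_left (by norm_num)) fun h2 => by
    rw [← h2] at h1
    exact absurd (Nat.le_of_dvd (by norm_num) h1) (by norm_num)

include ht hs in
/-- **Held's trichotomy for simple groups** -/
theorem trichotomy [IsSimpleGroup G] (f : centralizer ({t} : Set G) ≃* centralizer ({s} : Set SL5)) :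
    Nonempty (G ≃* Matrix.SpecialLinearGroup (Fin 5) (ZMod 2)) ∨ Nonempty (G ≃* Cfsg.M24) ∨
      Nonempty (G ≃* Cfsg.Spor.He) := by
  obtain ⟨e, he⟩ := exists_model_of_equiv s ht hs f
  rcases four_cases ht s hs e he (patt_ne_zero e he ht (not_commutative_of_simple ht s hs f)) with ⟨e', he', h⟩ | h
  · exact (false_of_pattern_one e' he' ht h).elim
  · exact h

include ht in
/-- a conjugate of `t` other than `t` commuting with it excludes the empty pattern -/
theorem patt_ne_zero_of_fused (e : Cen splitTab ≃* centralizer ({t} : Set G))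
    (he : ((e ⟨64, by norm_num⟩ : _) : G) = t)
    (h : ∃ g : G, g * t * g⁻¹ ∈ centralizer ({t} : Set G) ∧ g * t * g⁻¹ ≠ t) : patt e ≠ 0 := by
  intro h0
  obtain ⟨g, hg, hne⟩ := h
  obtain ⟨x, hx⟩ := exists_incl e hg
  rcases (isConj_iff_pattern e he ht x).1 (hx ▸ isConj_iff.2 ⟨g, rfl⟩) with rfl | ⟨c, -, hb, -⟩
  · exact hne (hx.symm.trans (incl_z e he))
  · rw [h0, Nat.zero_testBit] at hb
    exact Bool.false_ne_true hb

include ht hs in
/-- **the order decides** -/
theorem iso_of_card {H : Type*} [Group H] [Finite H] [IsSimpleGroup G] [IsSimpleGroup H] {k : H} (hk : orderOf k = 2)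
    (f : centralizer ({t} : Set G) ≃* centralizer ({s} : Set SL5))
    (f' : centralizer ({k} : Set H) ≃* centralizer ({s} : Set SL5)) (hcard : Nat.card G = Nat.card H) :
    Nonempty (G ≃* H) := by
  rcases trichotomy ht s hs f with ⟨⟨φ⟩⟩ | ⟨⟨φ⟩⟩ | ⟨⟨φ⟩⟩ <;> rcases trichotomy hk s hs f' with ⟨⟨ψ⟩⟩ | ⟨⟨ψ⟩⟩ | ⟨⟨ψ⟩⟩
  all_goals
    first
    | exact ⟨φ.trans ψ.symm⟩
    | (exfalso
       rw [Nat.card_congr φ.toEquiv, Nat.card_congr ψ.toEquiv] at hcard
       simp only [AmLin.card_SL5, card_M24, CfsgLib.Spor.Held.isHe.2] at hcard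
       omega)

end CfsgLib.Spor.HeldTri
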