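import Cfsg.Agent.Lib.Spor.HeldFusion.Cent

/-!
# Held's trichotomy: which involutions may lie in the conjugate of the subgroup of order 128

For a representative `s` of the class 0 (resp. 1): twelve involutions of the classes 3, 5 (resp. 3, 6) commuting with
`s`; for any other one `n` an involution `g` commuting with `s` makes `n * (g * n * g)` a further element of the
classes 0 and 1.
-/

set_option autoImplicit false
set_option maxRecDepth 100000

namespace CfsgLib.Spor.HeldTri

open CfsgLib.Spor.HeldRecog CfsgLib.Spor.HeldFusion

/-- the representative of the case -/
def meetRep (i : Bool) : ℕ := if i then 1 else 56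

/-- the classes other than 0 and 1 allowed in the case -/
def meetClasses (i : Bool) : List ℕ := if i then [3, 6] else [3, 5]

/-- the exceptional involutions -/
def meetGood (i : Bool) : List ℕ :=
  if i then [128, 160, 10752, 10768, 9472, 10753, 9520, 10833, 9473, 129, 9585, 225]
  else [21248, 21304, 12416, 12472, 19456, 19512, 21254, 21374, 12421, 12541, 19459, 19579]

/-- involutions commuting with the representative -/
def meetMovers (i : Bool) : List ℕ := if i then [16, 32, 10240, 1792, 17664] else [24, 40, 17920, 14976, 9600]

/-- a long element of the subgroup of order 128 other than the representative and its product with the centre -/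
def meetBad (i : Bool) (n : ℕ) : Bool :=
  (class0 ++ class1).contains n && !(n == meetRep i) && !(n == meetRep i ^^^ zCode)

/-- the involutions allowed -/
def meetAllowed (i : Bool) : List ℕ := [zCode, meetRep i, meetRep i ^^^ zCode] ++ meetGood i

theorem meet_ok : ∀ i : Bool, (meetClasses i).all (fun k => (classL k).all fun n =>
    !(mulC n (meetRep i) == mulC (meetRep i) n) || (meetGood i).contains n ||
      (meetMovers i).any fun g => meetBad i (mulC n (mulC (mulC g n) g))) = true ∧
    (meetMovers i).all (fun g => decide (g < 21504) && mulC g g == 0 &&
      mulC g (meetRep i) == mulC (meetRep i) g) = true ∧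
    mulC (meetRep i) zCode = (meetRep i ^^^ zCode) ∧
    (classL (if i then 1 else 0)).contains (meetRep i) = true ∧ meetRep i < 128 := by
  decide +kernel

/-- the conjugates commuting with one of them inside the subgroup of order 128 -/
theorem meet_count : (class0 ++ class1).all (fun s =>
    decide (((zCode :: (class0 ++ class1)).filter fun y => mulC y s == mulC s y).length = 21)) = true ∧
    ((zCode :: (class0 ++ class1)).all fun y => decide (y < 128)) = true ∧ (zCode :: (class0 ++ class1)).Nodup := by
  decide +kernel

theorem high_classes : ((List.range 7).all fun k => (classL k).all fun n =>
    if k < 3 then decide (n < 128) else decide (128 ≤ n)) = true := by decide +kernel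

/-- no element outside the subgroup of order 128 has all its conjugates by the element of order seven inside the
Sylow subgroup modulo it -/
theorem core_ok : (sRes.all fun a => a == 0 || (List.range 7).any fun k =>
    !(sRes.contains (splitTab.lmul ((List.range k).foldl (fun x _ => splitTab.lmul x (sevenC / 128)) 0)
      (splitTab.lmul a ((List.range (7 - k)).foldl (fun x _ => splitTab.lmul x (sevenC / 128)) 0))))) = true := by
  decide +kernel

end CfsgLib.Spor.HeldTri
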