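import Cfsg.Agent.Lib.Spor.HeldTri.Base
import Cfsg.Agent.Lib.Spor.HeldFusion.OtherTools

/-!
# Held's trichotomy: the possible patterns of the class of `t` in the centraliser
-/

set_option autoImplicit false
set_option linter.unusedSectionVars false
set_option linter.style.haveILetI false
set_option maxRecDepth 100000

namespace CfsgLib.Spor.HeldTri

open CfsgLib.Spor.HeldRecog CfsgLib.Spor.HeldFusion Subgroup

theorem roots_ok : ((List.range 7).map fun c => rootsCode splitTab ((classL c).getD 0 0)) = [48, 48, 16, 16, 0, 8, 8] ∧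
    ((List.range 7).map fun c => rootsComm splitTab ((classL c).getD 0 0)) = [48, 48, 32, 16, 16, 8, 8] := by
  decide +kernel

/-- the number of square roots of each class -/
def rootN (c : ℕ) : ℕ := [48, 48, 16, 16, 0, 8, 8].getD c 0

/-- the number of roots of the central involution commuting with each class -/
def commN (c : ℕ) : ℕ := [48, 48, 32, 16, 16, 8, 8].getD c 0

theorem roots_val {c : ℕ} (hc : c < 7) :
    rootsCode splitTab ((classL c).getD 0 0) = rootN c ∧ rootsComm splitTab ((classL c).getD 0 0) = commN c := by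
  rw [rootN, commN, ← roots_ok.1, ← roots_ok.2]
  refine ⟨?_, ?_⟩
  all_goals
    conv_rhs => rw [List.getD_eq_getElem?_getD, List.getElem?_map, List.getElem?_range hc]
    rfl

/-- odd number of conjugates and constant degree on a side -/
def localOdd (L : List ℕ) (m : ℕ) : Bool :=
  (omegaL L m).length % 2 == 1 && ((omegaL L m).map (degL L m)).all (fun d => d == degL L m ((omegaL L m).headD 0))

/-- all conditions -/
def triOK (m : ℕ) : Bool := localOdd labA m && localOdd labB m && !m.testBit 2 && !m.testBit 4

theorem tri_cases : ((List.range 128).filter triOK) = [0, 1, 2, 11, 43, 75, 107] := by decide +kernel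

variable {G : Type*} [Group G] [Finite G] {t : G}
variable (e : Cen splitTab ≃* centralizer ({t} : Set G)) (he : ((e ⟨64, by norm_num⟩ : _) : G) = t)
  (ht : orderOf t = 2)

/-- counting in the centraliser -/
theorem card_incl (P : G → Prop) (hP : ∀ a, P a → a ∈ centralizer ({t} : Set G)) :
    Nat.card {x : Cen splitTab // P (incl e x)} = Nat.card {a : G // P a} := by
  refine Nat.card_eq_of_bijective (fun x => ⟨incl e x.1, x.2⟩) ⟨fun x y h => Subtype.ext
    (incl_injective e (congrArg Subtype.val h :)), fun a => ?_⟩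
  obtain ⟨x, hx⟩ := exists_incl e (hP a.1 a.2)
  exact ⟨⟨x, by rw [hx]; exact a.2⟩, Subtype.ext hx⟩

include he in
/-- **reciprocity** between a conjugate of `t` and its mirror -/
theorem roots_eq {g : G} {x x' : Cen splitTab} (hx : incl e x = g * t * g⁻¹) (hx' : incl e x' = g⁻¹ * t * g) :
    Nat.card {a : Cen splitTab // a * a = x} = Nat.card {a : Cen splitTab // a * a = el zCode ∧ Commute a x'} := by
  have hinj := incl_injective e
  have h1 : Nat.card {a : Cen splitTab // a * a = x} =
      Nat.card {a : G // a * a = g * t * g⁻¹ ∧ Commute a t} := by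
    rw [← card_incl e (fun a => a * a = g * t * g⁻¹ ∧ Commute a t) fun a h => mem_centralizer_singleton_iff.2 h.2.eq]
    refine Nat.card_congr (Equiv.subtypeEquivRight fun a => ?_)
    rw [← map_mul, ← hx, hinj.eq_iff]
    exact (and_iff_left (mem_centralizer_singleton_iff.1 (incl_mem e a))).symm
  have h2 : Nat.card {a : Cen splitTab // a * a = el zCode ∧ Commute a x'} =
      Nat.card {a : G // a * a = t ∧ Commute a (g⁻¹ * t * g)} := by
    rw [← card_incl e (fun a => a * a = t ∧ Commute a (g⁻¹ * t * g)) fun a h =>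
      mem_centralizer_singleton_iff.2 (by rw [← h.1, mul_assoc])]
    refine Nat.card_congr (Equiv.subtypeEquivRight fun a => ?_)
    rw [← hx', ← map_mul]
    exact and_congr ⟨fun h => by rw [h, incl_z e he], fun h => hinj (h.trans (incl_z e he).symm)⟩
      ⟨fun h => h.map (incl e), fun h => hinj (by rw [map_mul, map_mul]; exact h.eq)⟩
  rw [h1, h2]
  refine Nat.card_congr (Equiv.subtypeEquiv (MulAut.conj g⁻¹).toEquiv fun a => ?_)
  show _ ↔ MulAut.conj g⁻¹ a * MulAut.conj g⁻¹ a = t ∧ Commute (MulAut.conj g⁻¹ a) (g⁻¹ * t * g)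
  have hg : MulAut.conj g⁻¹ (g * t * g⁻¹) = t := by simp [mul_assoc]
  have hg' : MulAut.conj g⁻¹ t = g⁻¹ * t * g := by simp
  refine and_congr ?_ ?_
  · conv_rhs => rw [← map_mul, ← hg, EmbeddingLike.apply_eq_iff_eq]
  · rw [← hg']
    exact ⟨fun h => h.map _, fun h => (MulAut.conj g⁻¹).injective (by rw [map_mul, map_mul]; exact h.eq)⟩

include he in
theorem roots_class {g : G} {x x' : Cen splitTab} {c c' : ℕ} (hc : c < 7) (hc' : c' < 7) (hxc : x.val ∈ classL c)
    (hxc' : x'.val ∈ classL c') (hx : incl e x = g * t * g⁻¹) (hx' : incl e x' = g⁻¹ * t * g) :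
    rootN c = commN c' := by
  have hzc : ∀ a : Cen splitTab, Commute a (el zCode) := z_central
  have hrep : ∀ {k}, k < 7 → (classL k).getD 0 0 < 21504 := fun {k} hk => by
    have h : ∀ k < 7, 0 < (classL k).length := by decide +kernel
    rw [getD_get _ _ (h k hk)]
    exact (classL_lt hk (List.getElem_mem _)).1
  have hconj : ∀ {k} {y : Cen splitTab}, k < 7 → y.val ∈ classL k → IsConj (el ((classL k).getD 0 0)) y :=
    fun {k y} hk hy => el_of_val y ▸ class_isConj hk hy
  have h := roots_eq e he hx hx'
  rw [← card_roots_isConj (hconj hc hxc), ← card_comm_isConj hzc (hconj hc' hxc'), card_roots split_mul_val,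
    card_roots_comm split_mul_val (el zCode) _ (el_val (by norm_num [zCode])), el_val (hrep hc), el_val (hrep hc'),
    (roots_val hc).1, (roots_val hc').2] at h
  exact h

include he ht in
/-- **classes 2 and 4 are not fused with `t`** -/
theorem testBit_two_four : (patt e).testBit 2 = false ∧ (patt e).testBit 4 = false := by
  have key : ∀ c, c < 7 → (patt e).testBit c = true → ∃ c' < 7, rootN c = commN c' ∧ rootN c' = commN c := by
    intro c hc hb
    have hlen : ∀ k < 7, 0 < (classL k).length := by decide +kernel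
    have hmem : (classL c).getD 0 0 ∈ classL c := by
      rw [getD_get _ _ (hlen c hc)]
      exact List.getElem_mem _
    have hv := (classL_lt hc hmem)
    obtain ⟨g, hg⟩ := isConj_iff.1 ((patt_iff e hc hmem).2 hb)
    have hX : g * t * g⁻¹ ∈ centralizer ({t} : Set G) := hg.symm ▸ incl_mem e _
    have hX' : g⁻¹ * t * g ∈ centralizer ({t} : Set G) := by
      refine mem_centralizer_singleton_iff.2 ?_
      calc g⁻¹ * t * g * t = g⁻¹ * (t * (g * t * g⁻¹)) * g := by group
        _ = g⁻¹ * ((g * t * g⁻¹) * t) * g := by rw [mem_centralizer_singleton_iff.1 hX]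
        _ = t * (g⁻¹ * t * g) := by group
    obtain ⟨x', hx'⟩ := exists_incl e hX'
    have hzx : x' ≠ el zCode := fun h => by
      rw [h, incl_z e he] at hx'
      have h' : g * t * g⁻¹ = t := by
        calc g * t * g⁻¹ = g * (g⁻¹ * t * g) * g⁻¹ := by rw [← hx']
          _ = t := by group
      exact hv.2.2.2 (el_inj hv.1 (by norm_num [zCode]) (incl_injective e
        (hg.symm.trans (h'.trans (incl_z e he).symm))))
    have hconj : IsConj t (incl e x') := isConj_iff.2 ⟨g⁻¹, by rw [hx', inv_inv]⟩
    obtain ⟨c', hc', -, hxc'⟩ := ((isConj_iff_pattern e he ht x').1 hconj).resolve_left hzx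
    refine ⟨c', hc', roots_class e he hc hc' (by rw [el_val hv.1]; exact hmem) hxc' hg.symm hx', ?_⟩
    exact roots_class e he (g := g⁻¹) hc' hc hxc' (by rw [el_val hv.1]; exact hmem) (by rw [inv_inv]; exact hx')
      (by rw [inv_inv]; exact hg.symm)
  refine ⟨?_, ?_⟩
  · by_contra h
    obtain ⟨c', hc', -, h'⟩ := key 2 (by norm_num) (by simpa using h)
    exact absurd h' ((by decide : ∀ k < 7, rootN k ≠ commN 2) c' hc')
  · by_contra h
    obtain ⟨c', hc', h', -⟩ := key 4 (by norm_num) (by simpa using h)
    exact absurd h' ((by decide : ∀ k < 7, rootN 4 ≠ commN k) c' hc')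

include he ht in
theorem localOdd_side {L : List ℕ} {m : ℕ} (D : Side t L m)
    (hN : Nat.card (normalizer (D.A : Set G) ⊓ centralizer {t} : Subgroup G) = 3072) : localOdd L m = true := by
  simp only [localOdd, Bool.and_eq_true, List.all_eq_true, List.mem_map, forall_exists_index, and_imp,
    forall_apply_eq_imp_iff₂, beq_iff_eq]
  constructor
  · by_contra h
    refine not_dvd_card e he ht ?_
    have hd := Subgroup.card_subgroup_dvd_card (normalizer (D.A : Set G))
    rw [D.card_normalizer hN] at hd
    refine dvd_trans ?_ hd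
    obtain ⟨k, hk⟩ : 2 ∣ (omegaL L m).length := Nat.dvd_of_mod_eq_zero (by omega)
    exact ⟨k * 3, by rw [hk]; ring⟩
  · intro v hv
    have hmem : ∀ u ∈ omegaL L m, u < 64 ∧ IsConj t (D.f u) := fun u hu =>
      ⟨List.mem_range.1 (List.mem_filter.1 hu).1,
        (D.f_class u (List.mem_range.1 (List.mem_filter.1 hu).1)).2 (List.mem_filter.1 hu).2⟩
    have h0 : (omegaL L m).headD 0 ∈ omegaL L m := by
      cases hl : omegaL L m with
      | nil => rw [hl] at hv; simp at hv
      | cons a l => simp
    obtain ⟨hv1, hv2⟩ := hmem v hv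
    obtain ⟨hu1, hu2⟩ := hmem _ h0
    rw [← D.card_deg hv1, ← D.card_deg hu1]
    exact degree_const D.A D.pgroup D.comm D.closed (D.f_mem _ hv1) hv2 (D.f_mem _ hu1) hu2

include he ht in
/-- **the possible patterns** -/
theorem patt_cases :
    patt e = 0 ∨ patt e = 1 ∨ patt e = 2 ∨ patt e = 11 ∨ patt e = 43 ∨ patt e = 75 ∨ patt e = 107 := by
  have h : patt e ∈ (List.range 128).filter triOK := by
    refine List.mem_filter.2 ⟨List.mem_range.2 (patOf_lt _), ?_⟩
    rw [triOK, (testBit_two_four e he ht).1, (testBit_two_four e he ht).2,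
      localOdd_side e he ht (sideDataA e he ht) (by
        rw [show (sideDataA e he ht).A = sideA e from rfl, sideA, card_normalizer_inf, normalizer_subA.1]),
      localOdd_side e he ht (sideDataB e he ht) (by
        rw [show (sideDataB e he ht).A = sideB e from rfl, sideB, card_normalizer_inf, normalizer_subB.1])]
    rfl
  rw [tri_cases] at h
  simpa using h

include he ht in
/-- the empty pattern makes `t` isolated -/
theorem patt_ne_zero [IsSimpleGroup G] (hns : ¬ IsMulCommutative G) : patt e ≠ 0 := fun h =>
  false_of_isolated_pattern hns ht (by rw [nComm_eq e he ht, h])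

end CfsgLib.Spor.HeldTri
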