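import Cfsg.Agent.Lib.Spor.HeldTri.MeetChecks
import Cfsg.Agent.Lib.Spor.HeldTri.Patterns

/-!
# Held's trichotomy: two subgroups of order 128 meeting in few conjugates of the centre force the Held group's pattern
-/

set_option autoImplicit false
set_option linter.unusedSectionVars false

namespace CfsgLib.Spor.HeldTri

open CfsgLib.Spor.HeldRecog CfsgLib.Spor.HeldFusion Subgroup

variable {G : Type*} [Group G] [Finite G] {t : G}
variable (e : Cen splitTab ≃* centralizer ({t} : Set G)) (he : ((e ⟨64, by norm_num⟩ : _) : G) = t)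
  (ht : orderOf t = 2)

theorem val_mul_small {x y : Cen splitTab} (hx : x.val < 128) (hy : y.val < 128) : (x * y).val < 128 := by
  obtain ⟨-, hdiv, -⟩ := splitTab_valid.mul_facts x.lt y.lt
  have h0 : x.val / 128 = 0 ∧ y.val / 128 = 0 := ⟨Nat.div_eq_of_lt hx, Nat.div_eq_of_lt hy⟩
  have hl := (splitTab_valid.lone (show 0 < 168 by norm_num)).1
  have h : (x * y).val / 128 = 0 := by
    rw [split_mul_val]
    show splitTab.mul x.val y.val / 128 = 0
    rw [hdiv, h0.1, h0.2, hl]
  omega

/-- membership in the classes by the size of the code -/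
theorem class_high {k n : ℕ} (hk : k < 7) (hn : n ∈ classL k) : if k < 3 then n < 128 else 128 ≤ n := by
  have h := List.all_eq_true.1 (List.all_eq_true.1 high_classes k (List.mem_range.2 hk)) n hn
  split_ifs at h ⊢ with h3 <;> simpa using h

include he ht in
/-- the conjugates of `t` among the elements of the subgroup of order 128, given that class 2 is not fused -/
theorem low_conj (x : Cen splitTab) (hx : x.val < 128) (h : IsConj t (incl e x)) :
    x.val ∈ zCode :: (class0 ++ class1) := by
  rcases (isConj_iff_pattern e he ht x).1 h with rfl | ⟨k, hk, hb, hxk⟩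
  · rw [el_val (by norm_num [zCode])]; exact List.mem_cons_self
  · refine List.mem_cons_of_mem _ (List.mem_append.2 ?_)
    have hh := class_high hk hxk
    rcases (show k = 0 ∨ k = 1 ∨ k = 2 ∨ 3 ≤ k by omega) with rfl | rfl | rfl | h3
    · exact Or.inl hxk
    · exact Or.inr hxk
    · rw [(testBit_two_four e he ht).1] at hb; exact absurd hb Bool.false_ne_true
    · rw [if_neg (by omega)] at hh; omega

include he ht in
/-- twenty-nine conjugates give both small classes -/
theorem bits_of_twentyNine (h : {x : Cen splitTab | x.val < 128 ∧ IsConj t (incl e x)}.ncard = 29) :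
    (patt e).testBit 0 = true ∧ (patt e).testBit 1 = true := by
  by_contra hb
  obtain ⟨k, L, hk, hLk, hkL⟩ : ∃ k L, (k = 0 ∧ L = class1 ∨ k = 1 ∧ L = class0) ∧
      (patt e).testBit k = false ∧ L.length = 14 := by
    rcases Bool.eq_false_or_eq_true ((patt e).testBit 0) with h0 | h0
    · refine ⟨1, class0, Or.inr ⟨rfl, rfl⟩, ?_, rfl⟩
      rcases Bool.eq_false_or_eq_true ((patt e).testBit 1) with h1 | h1
      · exact absurd ⟨h0, h1⟩ hb
      · exact h1
    · exact ⟨0, class1, Or.inl ⟨rfl, rfl⟩, h0, rfl⟩
  have hsub : {x : Cen splitTab | x.val < 128 ∧ IsConj t (incl e x)} ⊆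
      (fun n : ℕ => el n) '' {n | n ∈ zCode :: L} := by
    rintro x ⟨hx, hc⟩
    refine ⟨x.val, ?_, el_of_val x⟩
    have hm := low_conj e he ht x hx hc
    rcases List.mem_cons.1 hm with hz | hm
    · exact List.mem_cons.2 (Or.inl hz)
    refine List.mem_cons_of_mem _ ?_
    have hnot : ∀ {n : ℕ}, x.val = n → n ∈ classL k → False := fun hn hmem => by
      have hk7 : k < 7 := by rcases hk with ⟨rfl, -⟩ | ⟨rfl, -⟩ <;> norm_num
      have := (patt_iff e hk7 hmem).1 (hn ▸ (el_of_val x).symm ▸ hc)
      rw [hLk] at this
      exact Bool.false_ne_true this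
    rcases hk with ⟨rfl, rfl⟩ | ⟨rfl, rfl⟩ <;> rcases List.mem_append.1 hm with h0 | h1
    · exact (hnot rfl h0).elim
    · exact h1
    · exact h0
    · exact (hnot rfl h1).elim
  have hle : ((fun n : ℕ => el n) '' {n | n ∈ zCode :: L}).ncard ≤ 15 := by
    refine (Set.ncard_image_le (List.finite_toSet _)).trans ?_
    rw [show {n | n ∈ zCode :: L} = ((zCode :: L).toFinset : Set ℕ) by ext; simp, Set.ncard_coe_finset]
    exact (List.toFinset_card_le _).trans (by rw [List.length_cons, hkL])
  have hle' := Set.ncard_le_ncard hsub ((List.finite_toSet _).image _)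
  omega

include he ht in
/-- **few common conjugates**: the pattern is that of the Held group -/
theorem patt_eq_of_meet (h29 : {x : Cen splitTab | x.val < 128 ∧ IsConj t (incl e x)}.ncard = 29)
    (hsym : ∀ (c : G) (x : Cen splitTab), x.val < 128 → incl e x = c * t * c⁻¹ → c * t * c⁻¹ ≠ t →
      ∃ y : Cen splitTab, y.val < 128 ∧ incl e y = c⁻¹ * t * c)
    (hmeet : ∀ (c : G) (x y : Cen splitTab), x.val < 128 → y.val < 128 → c * t * c⁻¹ ≠ t →
      (∃ s : Cen splitTab, s.val < 128 ∧ incl e s = c * t * c⁻¹) → incl e x = c * incl e y * c⁻¹ →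
      IsConj t (incl e x) → incl e x = t ∨ incl e x = c * t * c⁻¹ ∨ incl e x = c * t * c⁻¹ * t) :
    patt e = 107 := by
  obtain ⟨h0, h1⟩ := bits_of_twentyNine e he ht h29
  by_contra hne
  -- the case: one of the two classes has a representative with few candidates
  obtain ⟨i, hi⟩ : ∃ i : Bool, ∀ k, k < 7 → (patt e).testBit k = true → 3 ≤ k → k ∈ meetClasses i := by
    rcases patt_cases e he ht with h | h | h | h | h | h | h <;> rw [h] at h0 h1 ⊢
    · exact absurd h0 (by decide)
    · exact absurd h1 (by decide)
    · exact absurd h0 (by decide)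
    · exact ⟨false, fun k hk hb h3 => by interval_cases k <;> first | decide | exact absurd hb (by decide)⟩
    · exact ⟨false, fun k hk hb h3 => by interval_cases k <;> first | decide | exact absurd hb (by decide)⟩
    · exact ⟨true, fun k hk hb h3 => by interval_cases k <;> first | decide | exact absurd hb (by decide)⟩
    · exact absurd h hne
  obtain ⟨hok, hmov, hσz, hσmem, hσ128⟩ := meet_ok i
  set σ := meetRep i with hσdef
  have hzv : zCode < 21504 := by norm_num [zCode]
  have hσlt : σ < 21504 := by omega
  have hσk : IsConj t (incl e (el σ)) := by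
    have hk7 : (if i then 1 else 0) < 7 := by split_ifs <;> norm_num
    refine (patt_iff e hk7 (List.contains_iff_mem.1 hσmem)).2 ?_
    split_ifs
    · exact h1
    · exact h0
  obtain ⟨c, hc⟩ := isConj_iff.1 hσk
  set S := c * t * c⁻¹ with hS
  have hSσ : S = incl e (el σ) := hc
  have hinj := incl_injective e
  have hSt : S ≠ t := fun h => by
    have hk7 : (if i then 1 else 0) < 7 := by split_ifs <;> norm_num
    refine (classL_lt hk7 (List.contains_iff_mem.1 hσmem)).2.2.2 (el_inj hσlt hzv (hinj ?_))
    rw [← hSσ, h, incl_z e he]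
  obtain ⟨x', hx', hx'e⟩ := hsym c (el σ) (by rw [el_val hσlt]; exact hσ128) hSσ.symm hSt
  have hx'z : x' ≠ el zCode := fun h => hSt (by
    rw [h, incl_z e he] at hx'e
    calc S = c * (c⁻¹ * t * c) * c⁻¹ := by rw [← hx'e]
      _ = t := by group)
  have hx'm : x'.val ∈ class0 ++ class1 := by
    rcases List.mem_cons.1 (low_conj e he ht x' hx' (isConj_iff.2 ⟨c⁻¹, by rw [hx'e, inv_inv]⟩)) with h | h
    · exact absurd (by rw [← el_of_val x', h]) hx'z
    · exact h
  -- the 21 conjugates
  obtain ⟨hcount, hsmall, hnd⟩ := meet_count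
  set L := (zCode :: (class0 ++ class1)).filter fun y => mulC y x'.val == mulC x'.val y with hL
  have hL21 : L.length = 21 := by simpa [hL] using List.all_eq_true.1 hcount _ hx'm
  have hyconj : ∀ n ∈ zCode :: (class0 ++ class1), n < 128 ∧ IsConj t (incl e (el n)) := by
    intro n hn
    refine ⟨by simpa using List.all_eq_true.1 hsmall n hn, ?_⟩
    rcases List.mem_cons.1 hn with rfl | hn
    · rw [incl_z e he]
    rcases List.mem_append.1 hn with hn | hn
    · exact (patt_iff e (c := 0) (by norm_num) hn).2 h0
    · exact (patt_iff e (c := 1) (by norm_num) hn).2 h1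
  -- their images are allowed
  have hmap : ∀ n ∈ L, ∃ u : Cen splitTab, incl e u = c * incl e (el n) * c⁻¹ ∧ u.val ∈ meetAllowed i := by
    intro n hn
    obtain ⟨hn', hcm⟩ := List.mem_filter.1 hn
    obtain ⟨hn128, hnc⟩ := hyconj n hn'
    have hnlt : n < 21504 := by omega
    have hyx : el n * x' = x' * el n := Cen.ext (by
      rw [split_mul_val, split_mul_val, el_val hnlt]; exact beq_iff_eq.1 hcm)
    have hyt : incl e (el n) * (c⁻¹ * t * c) = c⁻¹ * t * c * incl e (el n) := by
      rw [← hx'e, ← map_mul, hyx, map_mul]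
    obtain ⟨u, hu⟩ := exists_incl e (g := c * incl e (el n) * c⁻¹) (mem_centralizer_singleton_iff.2 (by
      calc c * incl e (el n) * c⁻¹ * t = c * (incl e (el n) * (c⁻¹ * t * c)) * c⁻¹ := by group
        _ = c * (c⁻¹ * t * c * incl e (el n)) * c⁻¹ := by rw [hyt]
        _ = t * (c * incl e (el n) * c⁻¹) := by group))
    refine ⟨u, hu, ?_⟩
    have huc : IsConj t (incl e u) := hu ▸ hnc.trans (isConj_iff.2 ⟨c, rfl⟩)
    have hsE : ∃ s : Cen splitTab, s.val < 128 ∧ incl e s = S := ⟨el σ, by rw [el_val hσlt]; exact hσ128, hSσ.symm⟩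
    have hlow : ∀ (w v : Cen splitTab), w.val < 128 → v.val < 128 → incl e w = c * incl e v * c⁻¹ →
        IsConj t (incl e w) → w.val = zCode ∨ w.val = σ ∨ w.val = σ ^^^ zCode := by
      intro w v hw hv hwv hwc
      rcases hmeet c w v hw hv hSt hsE hwv hwc with h | h | h
      · left
        rw [show w = el zCode from hinj (h.trans (incl_z e he).symm), el_val hzv]
      · right; left
        rw [show w = el σ from hinj (h.trans hSσ), el_val hσlt]
      · right; right
        rw [show w = el σ * el zCode from hinj (by rw [h, map_mul, incl_z e he, ← hSσ]), split_mul_val,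
          el_val hσlt, el_val hzv]
        exact hσz
    simp only [meetAllowed, List.mem_append, List.mem_cons, List.not_mem_nil, or_false, ← hσdef]
    by_cases hsml : u.val < 128
    · exact Or.inl (hlow u (el n) hsml (by rw [el_val hnlt]; exact hn128) hu huc)
    right
    rcases (isConj_iff_pattern e he ht u).1 huc with hz | ⟨k, hk, hb, huk⟩
    · exact absurd (by rw [hz, el_val hzv]; norm_num [zCode]) hsml
    have h3 : 3 ≤ k := by
      by_contra h
      have := class_high hk huk
      rw [if_pos (by omega)] at this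
      exact hsml this
    have huσ : mulC u.val σ = mulC σ u.val := by
      have e1 : u * el σ = el σ * u := hinj (by
        rw [map_mul, map_mul, hu, ← hSσ, hS]
        have hty := mem_centralizer_singleton_iff.1 (incl_mem e (el n))
        calc c * incl e (el n) * c⁻¹ * (c * t * c⁻¹) = c * (incl e (el n) * t) * c⁻¹ := by group
          _ = c * (t * incl e (el n)) * c⁻¹ := by rw [hty]
          _ = c * t * c⁻¹ * (c * incl e (el n) * c⁻¹) := by group)
      have := congrArg Cen.val e1
      rwa [split_mul_val, split_mul_val, el_val hσlt] at this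
    have hchk := List.all_eq_true.1 (List.all_eq_true.1 hok k (hi k hk hb h3)) u.val huk
    simp only [Bool.or_eq_true, Bool.not_eq_eq_eq_not, Bool.not_true, beq_eq_false_iff_ne, List.contains_iff_mem,
      List.any_eq_true] at hchk
    rcases hchk with (hh | hh) | ⟨g, hg, hbad⟩
    · exact absurd huσ hh
    · exact hh
    exfalso
    -- the mover gives a further element
    have hgf := List.all_eq_true.1 hmov g hg
    simp only [Bool.and_eq_true, decide_eq_true_eq, beq_iff_eq] at hgf
    obtain ⟨⟨hglt, hg2⟩, hgσ⟩ := hgf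
    have hginv : (el g)⁻¹ = el g := inv_eq_of_mul_eq_one_right (by rw [← el_mul hglt hglt, hg2, el_zero])
    have hgS : incl e (el g) * S = S * incl e (el g) := by
      rw [hSσ, ← map_mul, ← map_mul, ← el_mul hglt hσlt, hgσ, el_mul hσlt hglt]
    obtain ⟨g', hg'⟩ := exists_incl e (g := c⁻¹ * incl e (el g) * c) (mem_centralizer_singleton_iff.2 (by
      calc c⁻¹ * incl e (el g) * c * t = c⁻¹ * (incl e (el g) * S) * c := by rw [hS]; group
        _ = c⁻¹ * (S * incl e (el g)) * c := by rw [hgS]
        _ = t * (c⁻¹ * incl e (el g) * c) := by rw [hS]; group))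
    have hconj128 : (g' * el n * g'⁻¹).val < 128 := by
      rcases List.mem_cons.1 hn' with rfl | hn''
      · rw [z_central, mul_inv_cancel_right, el_val hzv]; norm_num [zCode]
      rcases List.mem_append.1 hn'' with hh | hh
      · simpa using class_high (k := 0) (by norm_num) (class_conj (c := 0) (by norm_num) hh g')
      · simpa using class_high (k := 1) (by norm_num) (class_conj (c := 1) (by norm_num) hh g')
    simp only [meetBad, Bool.and_eq_true, List.contains_iff_mem, Bool.not_eq_eq_eq_not, Bool.not_true,
      beq_eq_false_iff_ne, ← hσdef] at hbad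
    obtain ⟨⟨hfm, hfσ⟩, hfσz⟩ := hbad
    set w := u * (el g * u * el g) with hw
    have hwval : w.val = mulC u.val (mulC (mulC g u.val) g) := by
      rw [hw, split_mul_val, split_mul_val, split_mul_val, el_val hglt]
      rfl
    have hv128 : (el n * (g' * el n * g'⁻¹)).val < 128 :=
      val_mul_small (by rw [el_val hnlt]; exact hn128) hconj128
    have hwv : incl e w = c * incl e (el n * (g' * el n * g'⁻¹)) * c⁻¹ := by
      have hgg : incl e (el g) = (incl e (el g))⁻¹ := by rw [← map_inv, hginv]
      rw [hw, map_mul, map_mul, map_mul, map_mul, map_mul, map_mul, map_inv, hu, hg']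
      conv_lhs => arg 2; arg 2; rw [hgg]
      group
    rcases hlow w _ (hwval ▸ (hyconj _ (List.mem_cons_of_mem _ hfm)).1) hv128 hwv (by
      rw [← el_of_val w, hwval]; exact (hyconj _ (List.mem_cons_of_mem _ hfm)).2) with h | h | h <;>
      rw [hwval] at h
    · rw [h] at hfm
      exact absurd hfm (by decide)
    · exact hfσ h
    · exact hfσz h
  -- too many
  choose f hf hfm using hmap
  have hfinj : ∀ a (ha : a ∈ L) b (hb : b ∈ L), (f a ha).val = (f b hb).val → a = b := by
    intro a ha b hb hab
    have h := congrArg (incl e) (Cen.ext hab : f a ha = f b hb)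
    rw [hf, hf] at h
    have hlt : ∀ n ∈ L, n < 21504 := fun n hn => by have := (hyconj n (List.mem_filter.1 hn).1).1; omega
    exact el_inj (hlt a ha) (hlt b hb) (hinj (mul_left_cancel (mul_right_cancel h)))
  have hle : L.toFinset.card ≤ (meetAllowed i).toFinset.card := by
    refine Finset.card_le_card_of_injOn (fun a => if ha : a ∈ L then (f a ha).val else 0) (fun a ha => ?_) ?_
    · have ha' : a ∈ L := List.mem_toFinset.1 ha
      simp only [dif_pos ha', Finset.mem_coe, List.mem_toFinset]
      exact hfm a ha'
    · intro a ha b hb hab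
      have ha' : a ∈ L := List.mem_toFinset.1 ha
      have hb' : b ∈ L := List.mem_toFinset.1 hb
      simp only [dif_pos ha', dif_pos hb'] at hab
      exact hfinj a ha' b hb' hab
  rw [List.toFinset_card_of_nodup (hnd.filter _), hL21] at hle
  have h15 : (meetAllowed i).length = 15 := by cases i <;> rfl
  have := hle.trans (List.toFinset_card_le _)
  omega

/-- a normal subgroup of order 128 of the model is the obvious one -/
theorem normal_eq_low (U : Subgroup (Cen splitTab)) [U.Normal] (hU : Nat.card U = 128) (x : Cen splitTab) :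
    x ∈ U ↔ x.val < 128 := by
  haveI : Fact (Nat.Prime 2) := ⟨Nat.prime_two⟩
  have hS2 : IsPGroup 2 sylC := IsPGroup.of_card (n := 10) (by rw [card_sylC]; norm_num)
  have hidx : sylC.index = 21 := by
    have h := sylC.card_mul_index
    rw [card_sylC, Cen.natCard] at h
    omega
  let P : Sylow 2 (Cen splitTab) := hS2.toSylow (by rw [hidx]; norm_num)
  have hUS : U ≤ sylC := by
    obtain ⟨T, hT⟩ := (IsPGroup.of_card (n := 7) hU : IsPGroup 2 U).exists_le_sylow
    obtain ⟨g, hg⟩ := MulAction.exists_smul_eq (Cen splitTab) T P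
    intro y hy
    have : g * (g⁻¹ * y * g) * g⁻¹ ∈ (g • T : Sylow 2 (Cen splitTab)).toSubgroup :=
      ⟨g⁻¹ * y * g, hT (by simpa using Subgroup.Normal.conj_mem inferInstance y hy g⁻¹), rfl⟩
    rw [hg] at this
    show y ∈ (P : Subgroup (Cen splitTab))
    simpa [mul_assoc] using this
  have hlow : ∀ y ∈ U, y.val < 128 := by
    intro y hy
    by_contra hbig
    have hres : y.val / 128 ∈ sRes := by
      have := mem_sylC.1 (hUS hy)
      simp only [inS, Bool.and_eq_true, List.contains_iff_mem] at this
      exact this.2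
    have h := List.all_eq_true.1 core_ok _ hres
    simp only [Bool.or_eq_true, beq_iff_eq, List.any_eq_true, List.mem_range, Bool.not_eq_eq_eq_not, Bool.not_true,
      List.contains_eq_mem, decide_eq_false_iff_not] at h
    rcases h with h | ⟨k, hk, hbad⟩
    · omega
    have hseven : sevenC < 21504 := by norm_num [sevenC]
    have hpow : ∀ j : ℕ, (el sevenC ^ j).val / 128 =
        (List.range j).foldl (fun x _ => splitTab.lmul x (sevenC / 128)) 0 := by
      intro j
      induction j with
      | zero => rw [pow_zero, split_one_val]; rfl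
      | succ j ih =>
        rw [pow_succ, split_mul_val, List.range_succ, List.foldl_append, List.foldl_cons, List.foldl_nil, ← ih,
          el_val hseven]
        exact (splitTab_valid.mul_facts (el sevenC ^ j).lt hseven).2.1
    have hinv : (el sevenC ^ k)⁻¹ = el sevenC ^ (7 - k) := by
      refine inv_eq_of_mul_eq_one_right ?_
      rw [← pow_add, show k + (7 - k) = orderOf (el sevenC) by rw [el_sevenC.1]; omega, pow_orderOf_eq_one]
    have hconj := mem_sylC.1 (hUS (Subgroup.Normal.conj_mem inferInstance y hy (el sevenC ^ k)))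
    simp only [inS, Bool.and_eq_true, List.contains_iff_mem] at hconj
    refine hbad ?_
    have hd1 := (splitTab_valid.mul_facts y.lt (el sevenC ^ (7 - k)).lt).2.1
    have hd2 := (splitTab_valid.mul_facts (el sevenC ^ k).lt (y * el sevenC ^ (7 - k)).lt).2.1
    rw [hinv, mul_assoc, split_mul_val] at hconj
    have h2 := hconj.2
    rw [show splitTab.mul (el sevenC ^ k).val (y * el sevenC ^ (7 - k)).val / 128 = _ from hd2, split_mul_val,
      show splitTab.mul y.val (el sevenC ^ (7 - k)).val / 128 = _ from hd1, hpow, hpow] at h2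
    exact h2
  classical
  have hset : Set.ncard {y : Cen splitTab | y.val < 128} ≤ 128 := by
    refine (Nat.card_coe_set_eq _).symm.le.trans (le_of_le_of_eq ?_ (Nat.card_fin 128))
    exact Nat.card_le_card_of_injective (fun y : ↥{y : Cen splitTab | y.val < 128} => (⟨y.1.val, y.2⟩ : Fin 128))
      fun a b hab => Subtype.ext (Cen.ext (congrArg Fin.val hab))
  have heq : (U : Set (Cen splitTab)) = {y | y.val < 128} := Set.eq_of_subset_of_ncard_le hlow
    (by rw [← Nat.card_coe_set_eq (U : Set (Cen splitTab))]; exact hset.trans hU.symm.le) (Set.toFinite _)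
  exact Set.ext_iff.1 heq x

end CfsgLib.Spor.HeldTri
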