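import Cfsg.Agent.Lib.Spor.HeldTri.NodeData

/-!
# Held's trichotomy: the node lists check
-/

set_option autoImplicit false
set_option maxRecDepth 100000

namespace CfsgLib.Spor.HeldTri

theorem eleven_ok : ListOK 11 elevenNodes elevenWit :=
  ⟨by decide +kernel, by decide +kernel, by decide +kernel⟩

theorem eleven_cert : elevenNodes.all (Node.certOK 11) = true := by decide +kernel

theorem fortyThree_ok : ListOK 43 fortyThreeNodes fortyThreeWit :=
  ⟨by decide +kernel, by decide +kernel, by decide +kernel⟩

theorem fortyThree_cert : fortyThreeNodes.all (Node.certOK 43) = true := by decide +kernel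

theorem oneOhSeven_ok : ListOK 107 oneOhSevenNodes oneOhSevenWit :=
  ⟨by decide +kernel, by decide +kernel, by decide +kernel⟩

theorem oneOhSeven_cert : (oneOhSevenNodes.getD 0 ⟨[], 0, 0, []⟩).certOK 107 = true := by decide +kernel

end CfsgLib.Spor.HeldTri
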