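import Cfsg.Agent.Lib.Spor.HeldTri.Fusion

/-!
# Held's trichotomy: the subgroups of exponent two without conjugates of `t`

A list of nodes covers, up to conjugation in the centraliser, every such subgroup of the centraliser containing an
element `p` with `t p` conjugate to `t`; certificates in the nodes make them good.
-/

set_option autoImplicit false
set_option linter.unusedSectionVars false
set_option linter.style.haveILetI false
set_option maxRecDepth 100000

namespace CfsgLib.Spor.HeldTri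

open CfsgLib.Spor.HeldRecog CfsgLib.Spor.HeldFusion Subgroup

/-- a node: the codes, two conjugates of `t` centralising it, and its extensions `(x, index, c, c⁻¹)` -/
structure Node where
  L : List ℕ
  d1 : ℕ
  d2 : ℕ
  kids : List (ℕ × ℕ × ℕ × ℕ)

/-- a subgroup of exponent two without fused elements -/
noncomputable def Node.shapeOK (m : ℕ) (N : Node) : Bool :=
  decide N.L.Nodup && N.L.contains 0 && N.L.all (fun a => decide (a < 21504) && !zMem m a && mulC a a == 0) &&
    N.L.all (fun a => N.L.all fun b => N.L.contains (mulC a b))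

/-- the two labelled elements separate -/
noncomputable def Node.certOK (m : ℕ) (N : Node) : Bool :=
  decide (N.d1 < 21504) && decide (N.d2 < 21504) && zMem m N.d1 && zMem m N.d2 &&
    N.L.all (fun p => mulC N.d1 p == mulC p N.d1 && mulC N.d2 p == mulC p N.d2) &&
    N.L.all fun p => N.L.all fun p' => !(zMem m (mulC N.d1 p) && zMem m (mulC N.d2 p')) ||
      N.L.any fun q => zMem m (mulC (mulC N.d1 p) q) != zMem m (mulC (mulC N.d2 p') q)

/-- one extension is conjugate to a listed node -/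
noncomputable def kidOK (ns : List Node) (L : List ℕ) (x : ℕ) (k : ℕ × ℕ × ℕ × ℕ) : Bool :=
  decide (k.2.1 < ns.length) && decide (L.length < (ns.getD k.2.1 ⟨[], 0, 0, []⟩).L.length) &&
    decide (k.2.2.1 < 21504) && decide (k.2.2.2 < 21504) && mulC k.2.2.1 k.2.2.2 == 0 &&
    (ns.getD k.2.1 ⟨[], 0, 0, []⟩).L.all fun r =>
      (L ++ L.map fun a => mulC a x).any fun a => mulC (mulC k.2.2.1 a) k.2.2.2 == r

/-- all extensions of a node are listed -/
noncomputable def Node.kidsOK (m : ℕ) (ns : List Node) (N : Node) : Bool :=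
  allClasses.all fun x => N.L.contains x || N.L.any (fun a => mulC a x != mulC x a) ||
    N.L.any (fun a => zMem m (mulC a x)) || N.kids.any fun k => k.1 == x && kidOK ns N.L x k

/-- the first node -/
def rootCodes : List ℕ := [0, 192]

/-- witnesses carrying every unfused class to a node -/
noncomputable def rootOK (m : ℕ) (ns : List Node) (wit : List ℕ) : Bool :=
  decide (0 < ns.length) && (ns.getD 0 ⟨[], 0, 0, []⟩).L == rootCodes &&
    allClasses.all (fun x => zMem m x || !zMem m (mulC zCode x) || (classL 4).contains x) &&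
    (List.range 7).all fun c => m.testBit c || (decide (wit.getD c 0 < 21504) && zMem m (wit.getD c 0) &&
      mulC (wit.getD c 0) ((classL c).getD 0 0) == mulC ((classL c).getD 0 0) (wit.getD c 0) &&
      zMem m (mulC (wit.getD c 0) ((classL c).getD 0 0)))

/-- everything checked on a list of nodes -/
structure ListOK (m : ℕ) (ns : List Node) (wit : List ℕ) : Prop where
  shape : ns.all (Node.shapeOK m) = true
  kids : ns.all (Node.kidsOK m ns) = true
  root : rootOK m ns wit = true

variable {G : Type*} [Group G] [Finite G] {t : G}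
variable (e : Cen splitTab ≃* centralizer ({t} : Set G)) (he : ((e ⟨64, by norm_num⟩ : _) : G) = t)
  (ht : orderOf t = 2)

/-- the subgroup of a list of codes -/
noncomputable def nodeC (L : List ℕ) : Subgroup (Cen splitTab) := closure {x | x.val ∈ L}

/-- the same in the group -/
noncomputable def nodeG (L : List ℕ) : Subgroup G := (nodeC L).map (incl e)

/-- the list as read from a node -/
abbrev nodeL (ns : List Node) (i : ℕ) : List ℕ := (ns.getD i ⟨[], 0, 0, []⟩).L

variable {m : ℕ} {N : Node}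

theorem shape_facts (h : N.shapeOK m = true) : N.L.Nodup ∧ 0 ∈ N.L ∧
    (∀ a ∈ N.L, a < 21504 ∧ zMem m a = false ∧ mulC a a = 0) ∧ ∀ a ∈ N.L, ∀ b ∈ N.L, mulC a b ∈ N.L := by
  simp only [Node.shapeOK, Bool.and_eq_true, decide_eq_true_eq, List.contains_iff_mem, List.all_eq_true,
    Bool.not_eq_eq_eq_not, Bool.not_true, beq_iff_eq] at h
  exact ⟨h.1.1.1, h.1.1.2, fun a ha => ⟨(h.1.2 a ha).1.1, (h.1.2 a ha).1.2, (h.1.2 a ha).2⟩, h.2⟩

theorem mem_nodeC (h : N.shapeOK m = true) {x : Cen splitTab} : x ∈ nodeC N.L ↔ x.val ∈ N.L := by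
  obtain ⟨-, h0, hel, hmul⟩ := shape_facts h
  refine ⟨fun hx => ?_, fun hx => subset_closure hx⟩
  induction hx using closure_induction with
  | mem y hy => exact hy
  | one => rw [split_one_val]; exact h0
  | mul a b _ _ ha hb => rw [split_mul_val]; exact hmul _ ha _ hb
  | inv a _ ha =>
    have h2 : a * a = 1 := Cen.ext (by rw [split_mul_val, split_one_val]; exact (hel _ ha).2.2)
    rw [inv_eq_of_mul_eq_one_left h2]
    exact ha

theorem el_mem_nodeG (h : N.shapeOK m = true) {a : ℕ} (ha : a ∈ N.L) : incl e (el a) ∈ nodeG e N.L :=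
  mem_map_of_mem _ ((mem_nodeC h).2 (by rw [el_val ((shape_facts h).2.2.1 a ha).1]; exact ha))

theorem nodeG_cases (h : N.shapeOK m = true) {g : G} (hg : g ∈ nodeG e N.L) : ∃ a ∈ N.L, incl e (el a) = g := by
  obtain ⟨x, hx, rfl⟩ := hg
  exact ⟨x.val, (mem_nodeC h).1 hx, by rw [el_of_val]⟩

theorem card_nodeG (h : N.shapeOK m = true) : Nat.card (nodeG e N.L) = N.L.length := by
  rw [nodeG, Subgroup.card_map_of_injective (incl_injective e),
    card_list_subgroup _ N.L (fun _ => mem_nodeC h) (shape_facts h).1 fun a ha => ((shape_facts h).2.2.1 a ha).1]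

include he ht in
theorem pure_nodeG (h : N.shapeOK (patt e) = true) : Pure t (nodeG e N.L) := by
  refine ⟨fun g hg => ?_, fun g hg hc => ?_⟩
  · obtain ⟨a, ha, rfl⟩ := nodeG_cases e h hg
    obtain ⟨hlt, -, h2⟩ := (shape_facts h).2.2.1 a ha
    rw [← map_mul, ← el_mul hlt hlt, h2, el_zero, map_one]
  · obtain ⟨a, ha, rfl⟩ := nodeG_cases e h hg
    obtain ⟨hlt, hz, -⟩ := (shape_facts h).2.2.1 a ha
    rw [zMem_el e he ht hlt, hz] at hc
    exact Bool.false_ne_true hc

theorem Pure.comm {t : G} {P : Subgroup G} (h : Pure t P) {a b : G} (ha : a ∈ P) (hb : b ∈ P) : Commute a b := by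
  have hinv : ∀ x ∈ P, x⁻¹ = x := fun x hx => inv_eq_of_mul_eq_one_left (h.sq x hx)
  calc a * b = (a * b)⁻¹ := (hinv _ (mul_mem ha hb)).symm
    _ = b * a := by rw [mul_inv_rev, hinv a ha, hinv b hb]

/-- adjoining a commuting involution -/
theorem mem_sup_cases {P : Subgroup G} {w g : G} (hw : w * w = 1) (hc : ∀ p ∈ P, Commute w p)
    (hg : g ∈ P ⊔ zpowers w) : g ∈ P ∨ ∃ p ∈ P, g = p * w := by
  have hwi : w⁻¹ = w := inv_eq_of_mul_eq_one_left hw
  rw [show P ⊔ zpowers w = closure ((P : Set G) ∪ {w}) by rw [Subgroup.closure_union, Subgroup.closure_eq, zpowers_eq_closure]] at hg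
  induction hg using closure_induction with
  | mem y hy =>
    rcases hy with hy | rfl
    · exact Or.inl hy
    · exact Or.inr ⟨1, P.one_mem, (one_mul _).symm⟩
  | one => exact Or.inl P.one_mem
  | mul a b _ _ ha hb =>
    rcases ha with ha | ⟨p, hp, rfl⟩ <;> rcases hb with hb | ⟨q, hq, rfl⟩
    · exact Or.inl (mul_mem ha hb)
    · exact Or.inr ⟨a * q, mul_mem ha hq, (mul_assoc _ _ _).symm⟩
    · exact Or.inr ⟨p * b, mul_mem hp hb, by rw [mul_assoc, (hc b hb).eq, ← mul_assoc]⟩
    · refine Or.inl ?_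
      rw [show p * w * (q * w) = p * (w * q) * w by group, (hc q hq).eq, show p * (q * w) * w = p * q * (w * w) by group,
        hw, mul_one]
      exact mul_mem hp hq
  | inv a _ ha =>
    rcases ha with ha | ⟨p, hp, rfl⟩
    · exact Or.inl (inv_mem ha)
    · exact Or.inr ⟨p⁻¹, inv_mem hp, by rw [mul_inv_rev, hwi, (hc _ (inv_mem hp)).eq]⟩

theorem pure_sup {P : Subgroup G} (hP : Pure t P) {w : G} (hw : w * w = 1) (hc : ∀ p ∈ P, Commute w p)
    (hn : ∀ p ∈ P, ¬ IsConj t (p * w)) : Pure t (P ⊔ zpowers w) := by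
  refine ⟨fun g hg => ?_, fun g hg => ?_⟩
  · rcases mem_sup_cases hw hc hg with h | ⟨p, hp, rfl⟩
    · exact hP.sq g h
    · rw [show p * w * (p * w) = p * (w * p) * w by group, (hc p hp).eq, show p * (p * w) * w = p * p * (w * w) by group,
        hP.sq p hp, hw, one_mul]
  · rcases mem_sup_cases hw hc hg with h | ⟨p, hp, rfl⟩
    exacts [hP.none g h, hn p hp]

variable {ns : List Node} {wit : List ℕ}

theorem node_mem (i : ℕ) (hi : i < ns.length) : ns.getD i ⟨[], 0, 0, []⟩ ∈ ns := by
  rw [List.getD_eq_getElem?_getD, List.getElem?_eq_getElem hi]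
  exact List.getElem_mem _

theorem node_shape (h : ListOK m ns wit) {i : ℕ} (hi : i < ns.length) :
    (ns.getD i ⟨[], 0, 0, []⟩).shapeOK m = true :=
  List.all_eq_true.1 h.shape _ (node_mem i hi)

include he ht in
/-- **every such subgroup of the centraliser is conjugate to a node** -/
theorem exists_node (h : ListOK (patt e) ns wit) {Q : Subgroup G} (hQ : Pure t Q)
    (hQC : Q ≤ centralizer ({t} : Set G)) {p : G} (hp : p ∈ Q) (hp1 : p ≠ 1) (htp : IsConj t (t * p)) :
    ∃ i < ns.length, ∃ c ∈ centralizer ({t} : Set G), ∀ g : G, g ∈ Q ↔ c * g * c⁻¹ ∈ nodeG e (nodeL ns i) := by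
  have hinj := incl_injective e
  have hroot := h.root
  simp only [rootOK, Bool.and_eq_true, decide_eq_true_eq, beq_iff_eq, List.all_eq_true, Bool.or_eq_true,
    Bool.not_eq_eq_eq_not, Bool.not_true, List.contains_iff_mem] at hroot
  obtain ⟨⟨⟨hpos, hL0⟩, hfour⟩, -⟩ := hroot
  have hinvol : ∀ g ∈ Q, g ≠ 1 → ∃ x : Cen splitTab, incl e x = g ∧ x.val ∈ allClasses := by
    intro g hg hg1
    obtain ⟨x, hx⟩ := exists_incl e (hQC hg)
    refine ⟨x, hx, ?_⟩
    have h2 : x * x = 1 := hinj (by rw [map_mul, map_one, hx, hQ.sq g hg])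
    rcases invol_cases x h2 with rfl | rfl | ⟨c, hc, hxc⟩
    · exact absurd (by rw [← hx, map_one]) hg1
    · exact absurd (by rw [← hx, incl_z e he]) (fun h' : g = t => hQ.none g hg (h' ▸ IsConj.refl t))
    · exact List.mem_flatMap.2 ⟨c, List.mem_range.2 hc, hxc⟩
  suffices key : ∀ k i : ℕ, i < ns.length → ∀ c ∈ centralizer ({t} : Set G),
      (∀ g ∈ nodeG e (nodeL ns i), c⁻¹ * g * c ∈ Q) → Nat.card Q ≤ (nodeL ns i).length + k →
      ∃ j < ns.length, ∃ c' ∈ centralizer ({t} : Set G), ∀ g : G, g ∈ Q ↔ c' * g * c'⁻¹ ∈ nodeG e (nodeL ns j) by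
    obtain ⟨x, hx, hxc⟩ := hinvol p hp hp1
    have hxz : zMem (patt e) x.val = false := by
      by_contra h'
      exact hQ.none p hp (hx ▸ (zMem_val e he ht x).2 (by simpa using h'))
    have hzx : zMem (patt e) (mulC zCode x.val) = true := by
      have h1 : IsConj t (incl e (el zCode * x)) := by rwa [map_mul, incl_z e he, hx]
      rw [zMem_val e he ht, split_mul_val, el_val (by norm_num [zCode])] at h1
      exact h1
    have hx4 : x.val ∈ classL 4 := by
      rcases hfour _ hxc with (h' | h') | h'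
      · rw [hxz] at h'; exact absurd h' Bool.false_ne_true
      · rw [hzx] at h'; exact absurd h' Bool.noConfusion
      · exact h'
    have hb : (192 : ℕ) ∈ classL 4 := by decide
    obtain ⟨a, ha⟩ := isConj_iff.1 ((class_isConj (by norm_num) hx4).symm.trans (class_isConj (by norm_num) hb))
    rw [el_of_val] at ha
    refine key (Nat.card Q) 0 hpos (incl e a) (incl_mem e a) (fun g hg => ?_) (Nat.le_add_left _ _)
    obtain ⟨v, hv, rfl⟩ := nodeG_cases e (node_shape h hpos) hg
    rw [hL0] at hv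
    rcases List.mem_pair.1 hv with rfl | rfl
    · rw [el_zero, map_one, mul_one, inv_mul_cancel]; exact one_mem _
    · rw [← map_inv, ← map_mul, ← map_mul, show a⁻¹ * el 192 * a = x by rw [← ha]; group, hx]
      exact hp
  intro k
  induction k using Nat.strong_induction_on with
  | _ k ih =>
  intro i hi c hc hsub hk
  have hshape := node_shape h hi
  by_cases hall : ∀ g ∈ Q, c * g * c⁻¹ ∈ nodeG e (nodeL ns i)
  · refine ⟨i, hi, c, hc, fun g => ⟨hall g, fun hg => ?_⟩⟩
    have := hsub _ hg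
    simpa [mul_assoc] using this
  push Not at hall
  obtain ⟨g, hg, hgn⟩ := hall
  have hg1 : g ≠ 1 := fun h' => hgn (by rw [h', mul_one, mul_inv_cancel]; exact one_mem _)
  obtain ⟨a, rfl⟩ := exists_incl e hc
  obtain ⟨y, hy, hyc⟩ := hinvol g hg hg1
  have hback : ∀ u : Cen splitTab, u.val ∈ nodeL ns i → incl e (a⁻¹ * u * a) ∈ Q := fun u hu => by
    have h1 := hsub _ (el_mem_nodeG e hshape hu)
    rwa [el_of_val, ← map_inv, ← map_mul, ← map_mul] at h1
  obtain ⟨x, hxdef⟩ : ∃ x, x = a * y * a⁻¹ := ⟨_, rfl⟩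
  have hxQ : incl e (a⁻¹ * x * a) ∈ Q := by rwa [show a⁻¹ * x * a = y by rw [hxdef]; group, hy]
  have hxL : x.val ∉ nodeL ns i := fun h' => hgn (by
    have h1 := el_mem_nodeG e hshape h'
    rw [el_of_val, hxdef, map_mul, map_mul, map_inv, hy] at h1
    exact h1)
  obtain ⟨cy, hcy, hyc'⟩ := List.mem_flatMap.1 hyc
  have hxall : x.val ∈ allClasses := List.mem_flatMap.2 ⟨cy, hcy,
    by have h1 := class_conj (List.mem_range.1 hcy) hyc' a; rwa [el_of_val, ← hxdef] at h1⟩
  have hkids := List.all_eq_true.1 h.kids _ (node_mem i hi)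
  simp only [Node.kidsOK, List.all_eq_true, Bool.or_eq_true, List.contains_iff_mem, List.any_eq_true,
    bne_iff_ne, Bool.and_eq_true, beq_iff_eq] at hkids
  rcases hkids _ hxall with ((h' | ⟨v, hv, hne⟩) | ⟨v, hv, hz⟩) | ⟨kd, -, hkx, hkd⟩
  · exact absurd h' hxL
  · refine absurd ?_ hne
    have hlt := ((shape_facts hshape).2.2.1 v hv).1
    have h1 := hQ.comm (hback (el v) (by rw [el_val hlt]; exact hv)) hxQ
    have h2 : el v * x = x * el v := by
      have h3 : a⁻¹ * el v * a * (a⁻¹ * x * a) = a⁻¹ * x * a * (a⁻¹ * el v * a) :=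
        hinj (by rw [map_mul (incl e) (a⁻¹ * el v * a), map_mul (incl e) (a⁻¹ * x * a)]; exact h1.eq)
      calc el v * x = a * (a⁻¹ * el v * a * (a⁻¹ * x * a)) * a⁻¹ := by group
        _ = a * (a⁻¹ * x * a * (a⁻¹ * el v * a)) * a⁻¹ := by rw [h3]
        _ = x * el v := by group
    have h4 := congrArg Cen.val h2
    rwa [split_mul_val, split_mul_val, el_val hlt] at h4
  · exfalso
    have hlt := ((shape_facts hshape).2.2.1 v hv).1
    have h1 : incl e (a⁻¹ * (el v * x) * a) ∈ Q := by
      rw [show a⁻¹ * (el v * x) * a = a⁻¹ * el v * a * (a⁻¹ * x * a) by group, map_mul]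
      exact mul_mem (hback _ (by rw [el_val hlt]; exact hv)) hxQ
    refine hQ.none _ h1 (((zMem_val e he ht (el v * x)).2 (by
      rw [split_mul_val, el_val hlt]; exact hz)).trans ((incl e).map_isConj (isConj_iff.2 ⟨a⁻¹, by group⟩)))
  · obtain ⟨xk, j, cw, ci⟩ := kd
    simp only [kidOK, Bool.and_eq_true, decide_eq_true_eq, List.all_eq_true, List.any_eq_true, beq_iff_eq,
      List.mem_append, List.mem_map] at hkd
    obtain ⟨⟨⟨⟨⟨hj, hlen⟩, hcw⟩, hci⟩, hinv⟩, hr⟩ := hkd
    have hci' : el ci = (el cw)⁻¹ := (inv_eq_of_mul_eq_one_right (by rw [← el_mul hcw hci, hinv, el_zero])).symm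
    have hsub' : ∀ g' ∈ nodeG e (nodeL ns j), (incl e (el cw * a))⁻¹ * g' * incl e (el cw * a) ∈ Q := by
      intro g' hg'
      obtain ⟨r, hrL, rfl⟩ := nodeG_cases e (node_shape h hj) hg'
      obtain ⟨u, hu, hur⟩ := hr r hrL
      have key2 : ∀ u : ℕ, u < 21504 → mulC (mulC cw u) ci = r → incl e (a⁻¹ * el u * a) ∈ Q →
          (incl e (el cw * a))⁻¹ * incl e (el r) * incl e (el cw * a) ∈ Q := fun u hul hur hmem => by
        rw [← map_inv, ← map_mul, ← map_mul, ← hur, el_mul (mulC_lt hcw hul) hci, el_mul hcw hul, hci']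
        rwa [show (el cw * a)⁻¹ * (el cw * el u * (el cw)⁻¹) * (el cw * a) = a⁻¹ * el u * a by group]
      rcases hu with hu | ⟨v, hv, rfl⟩
      · have hlt := ((shape_facts hshape).2.2.1 u hu).1
        exact key2 u hlt hur (hback _ (by rw [el_val hlt]; exact hu))
      · have hlt := ((shape_facts hshape).2.2.1 v hv).1
        refine key2 _ (mulC_lt hlt x.lt) hur ?_
        rw [el_mul hlt x.lt, el_of_val, show a⁻¹ * (el v * x) * a = a⁻¹ * el v * a * (a⁻¹ * x * a) by group, map_mul]
        exact mul_mem (hback _ (by rw [el_val hlt]; exact hv)) hxQ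
    have hgrow : (nodeL ns j).length ≤ Nat.card Q := by
      rw [← card_nodeG e (node_shape h hj)]
      exact Nat.card_le_card_of_injective (fun u => (⟨_, hsub' u.1 u.2⟩ : Q)) fun u u' huu =>
        Subtype.ext (by simpa using congrArg Subtype.val huu)
    have hlen' : (nodeL ns i).length < (nodeL ns j).length := hlen
    exact ih (Nat.card Q - (nodeL ns j).length) (by omega) j hj _ (incl_mem e _) hsub' (by omega)

include he ht in
/-- a proper extension centralised by a conjugate of `t` is conjugate under `gen0` to a larger node -/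
theorem exists_larger (h : ListOK (patt e) ns wit) (hctl : Ctl t (gen0 e)) {i : ℕ} (hi : i < ns.length) {d w : G}
    (hdt : IsConj t d) (hdG : d ∈ gen0 e) (hdP : ∀ g ∈ nodeG e (nodeL ns i), Commute d g) (hwo : orderOf w = 2)
    (hwP : w ∉ nodeG e (nodeL ns i)) (hwc : ∀ p ∈ nodeG e (nodeL ns i), Commute w p) (hwd : Commute w d)
    (hdw : IsConj t (d * w)) (hnone : ∀ p ∈ nodeG e (nodeL ns i), ¬ IsConj t (p * w)) :
    ∃ j < ns.length, (nodeL ns i).length < (nodeL ns j).length ∧
      (Good (gen0 e) (nodeG e (nodeL ns j)) → Good (gen0 e) (nodeG e (nodeL ns i) ⊔ zpowers w)) := by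
  have hshape := node_shape h hi
  have hP := pure_nodeG e he ht hshape
  have hw2 : w * w = 1 := CfsgLib.Invol.invol_mul_self hwo
  obtain ⟨g, hg⟩ := isConj_iff.1 hdt
  have hgG : g ∈ gen0 e := hctl.fuse g (hg ▸ hdG)
  set Q' := (nodeG e (nodeL ns i) ⊔ zpowers w).map (MulAut.conj g⁻¹).toMonoidHom with hQ'
  have hQ'pure : Pure t Q' := by
    have hp := pure_sup hP hw2 hwc hnone
    refine ⟨?_, ?_⟩
    · rintro _ ⟨p, hp', rfl⟩
      rw [← map_mul, hp.sq p hp', map_one]
    · rintro _ ⟨p, hp', rfl⟩ hc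
      exact hp.none p hp' (hc.trans (isConj_iff.2 ⟨g, by simp [mul_assoc]⟩))
  have hQ'C : Q' ≤ centralizer ({t} : Set G) := by
    rintro _ ⟨p, hp', rfl⟩
    refine mem_centralizer_singleton_iff.2 ?_
    show g⁻¹ * p * g⁻¹⁻¹ * t = t * (g⁻¹ * p * g⁻¹⁻¹)
    have hc : Commute d p := by
      rcases mem_sup_cases hw2 hwc hp' with h' | ⟨q, hq, rfl⟩
      exacts [hdP p h', (hdP q hq).mul_right hwd.symm]
    rw [inv_inv]
    calc g⁻¹ * p * g * t = g⁻¹ * (p * (g * t * g⁻¹)) * g := by group
      _ = g⁻¹ * (g * t * g⁻¹ * p) * g := by rw [hg, hc.eq]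
      _ = t * (g⁻¹ * p * g) := by group
  have hw' : g⁻¹ * w * g ∈ Q' := ⟨w, mem_sup_right (mem_zpowers w), by simp⟩
  have hw1 : g⁻¹ * w * g ≠ 1 := fun h' => CfsgLib.Invol.invol_ne_one hwo (by
    calc w = g * (g⁻¹ * w * g) * g⁻¹ := by group
      _ = 1 := by rw [h']; group)
  obtain ⟨j, hj, c, hc, hQj⟩ := exists_node e he ht h hQ'pure hQ'C hw' hw1 (hdw.trans (isConj_iff.2
    ⟨g⁻¹, by rw [← hg]; group⟩))
  have hlt : (nodeL ns i).length < (nodeL ns j).length := by
    rw [← card_nodeG e (node_shape h hj), ← card_nodeG e hshape]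
    have hinj : Function.Injective fun p : ↥(nodeG e (nodeL ns i) ⊔ zpowers w) =>
        (⟨c * MulAut.conj g⁻¹ p.1 * c⁻¹, (hQj _).1 ⟨p.1, p.2, rfl⟩⟩ : nodeG e (nodeL ns j)) := by
      intro p q hpq
      have := congrArg Subtype.val hpq
      exact Subtype.ext (by simpa using this)
    refine lt_of_lt_of_le ?_ (Nat.card_le_card_of_injective _ hinj)
    refine lt_of_le_of_ne (Subgroup.card_le_of_le le_sup_left) fun heq => hwP ?_
    exact Subgroup.eq_of_le_of_card_ge le_sup_left heq.ge ▸ mem_sup_right (mem_zpowers w)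
  refine ⟨j, hj, hlt, fun hgood => ((hgood).transfer (k := c⁻¹) (inv_mem (cent_le_gen0 e hc)) (Q := Q') ?_).transfer (k := g) hgG ?_⟩
  · intro p hp'
    rw [hQj, inv_inv]
    simpa [mul_assoc] using hp'
  · rintro _ ⟨p, hp', rfl⟩
    simpa [mul_assoc] using hp'

include he ht in
/-- a node is good once the certificate holds and all larger ones are -/
theorem good_step (h : ListOK (patt e) ns wit) (hctl : Ctl t (gen0 e)) {i : ℕ} (hi : i < ns.length)
    (hcert : (ns.getD i ⟨[], 0, 0, []⟩).certOK (patt e) = true)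
    (hbig : ∀ j < ns.length, (nodeL ns i).length < (nodeL ns j).length → Good (gen0 e) (nodeG e (nodeL ns j))) :
    Good (gen0 e) (nodeG e (nodeL ns i)) := by
  have hshape := node_shape h hi
  simp only [Node.certOK, Bool.and_eq_true, decide_eq_true_eq, List.all_eq_true, beq_iff_eq, Bool.or_eq_true,
    Bool.not_eq_eq_eq_not, Bool.not_true, List.any_eq_true, bne_iff_ne, Bool.and_eq_false_iff] at hcert
  obtain ⟨⟨⟨⟨⟨h1, h2⟩, hz1⟩, hz2⟩, hcomm⟩, hdis⟩ := hcert
  have hP := pure_nodeG e he ht hshape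
  have hmul : ∀ {a b : ℕ}, a < 21504 → b < 21504 →
      incl e (el a) * incl e (el b) = incl e (el (mulC a b)) := fun ha hb => by rw [el_mul ha hb, map_mul]
  refine hctl.good_of_labels hP ((zMem_el e he ht h1).2 hz1) ((zMem_el e he ht h2).2 hz2)
    (cent_le_gen0 e (incl_mem e _)) (cent_le_gen0 e (incl_mem e _)) ?_ ?_ ?_ ?_
  · intro g hg
    obtain ⟨a, ha, rfl⟩ := nodeG_cases e hshape hg
    show _ = _
    rw [hmul h1 ((shape_facts hshape).2.2.1 a ha).1, hmul ((shape_facts hshape).2.2.1 a ha).1 h1, (hcomm a ha).1]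
  · intro g hg
    obtain ⟨a, ha, rfl⟩ := nodeG_cases e hshape hg
    show _ = _
    rw [hmul h2 ((shape_facts hshape).2.2.1 a ha).1, hmul ((shape_facts hshape).2.2.1 a ha).1 h2, (hcomm a ha).2]
  · intro d w hd hwo hwP hwc hwd hdw hnone
    have hw2 : w * w = 1 := CfsgLib.Invol.invol_mul_self hwo
    have hdt : IsConj t d := by rcases hd with rfl | rfl <;> [exact (zMem_el e he ht h1).2 hz1; exact (zMem_el e he ht h2).2 hz2]
    have hdG : d ∈ gen0 e := by rcases hd with rfl | rfl <;> exact cent_le_gen0 e (incl_mem e _)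
    have hdP : ∀ g ∈ nodeG e (nodeL ns i), Commute d g := by
      intro g hg
      obtain ⟨a, ha, rfl⟩ := nodeG_cases e hshape hg
      have hal := ((shape_facts hshape).2.2.1 a ha).1
      rcases hd with rfl | rfl <;> show _ = _
      · rw [hmul h1 hal, hmul hal h1, (hcomm a ha).1]
      · rw [hmul h2 hal, hmul hal h2, (hcomm a ha).2]
    obtain ⟨j, hj, hlt, hgood⟩ := exists_larger e he ht h hctl hi hdt hdG hdP hwo hwP hwc hwd hdw hnone
    exact hgood (hbig j hj hlt)
  · intro p hp p' hp' hzp hzp'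
    obtain ⟨a, ha, rfl⟩ := nodeG_cases e hshape hp
    obtain ⟨b, hb, rfl⟩ := nodeG_cases e hshape hp'
    have hal := ((shape_facts hshape).2.2.1 a ha).1
    have hbl := ((shape_facts hshape).2.2.1 b hb).1
    rw [hmul h1 hal, zMem_el e he ht (mulC_lt h1 hal)] at hzp
    rw [hmul h2 hbl, zMem_el e he ht (mulC_lt h2 hbl)] at hzp'
    rcases hdis a ha b hb with (h' | h') | ⟨q, hq, hne⟩
    · rw [hzp] at h'; exact absurd h' Bool.noConfusion
    · rw [hzp'] at h'; exact absurd h' Bool.noConfusion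
    · have hql := ((shape_facts hshape).2.2.1 q hq).1
      refine ⟨_, el_mem_nodeG e hshape hq, fun hiff => hne (Bool.eq_iff_iff.2 ?_)⟩
      rwa [hmul h1 hal, hmul h2 hbl, hmul (mulC_lt h1 hal) hql, hmul (mulC_lt h2 hbl) hql,
        zMem_el e he ht (mulC_lt (mulC_lt h1 hal) hql), zMem_el e he ht (mulC_lt (mulC_lt h2 hbl) hql)] at hiff

end CfsgLib.Spor.HeldTri
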